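import Cfsg.Agent.Lib.RecogM22.Lines

/-!
Two points at distance two from the base point are adjacent exactly when their cosets are disjoint
and not parallel (`adj_far_iff`).

Owner: helper41.
-/

set_option autoImplicit false
set_option linter.style.haveILetI false
set_option linter.unusedSectionVars false

universe u w

namespace Cfsg.Agent.Lib.RecogM22.Max77

open MulAction
open scoped Pointwise

variable {G : Type u} [Group G] [Finite G] {Ω : Type w} [MulAction G Ω] [Finite Ω]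
  (D : Max77 G Ω)

theorem fiber_four {v : Ω} (hv : D.Far v) : (D.fiber v).ncard = 4 := by
  rw [D.fiber_eq hv]
  have h := D.orbit_E_ncard v
  rw [hv.2] at h
  omega

/-- A fixed point has `0`, `1`, `2`, `4`, `8` or `16` fixed neighbours. -/
theorem fixed_adj {x : Ω} {t : G} (ht : t • x = x) :
    {y | D.adj x y ∧ t • y = y}.ncard = 0 ∨ {y | D.adj x y ∧ t • y = y}.ncard ∣ 16 := by
  haveI := D.pretransitive
  rcases Set.eq_empty_or_nonempty {y | D.adj x y ∧ t • y = y} with h | ⟨y₀, hy₀, hty₀⟩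
  · exact Or.inl (by rw [h, Set.ncard_empty])
  right
  obtain ⟨g, hg⟩ := exists_smul_eq G D.p x
  set s := g⁻¹ * t * g
  set ω := g⁻¹ • y₀ with hω
  have hωN : D.Near ω := (D.adj_iff hg).1 hy₀
  have hs : s ∈ stabilizer G D.p := by
    show s • D.p = D.p
    rw [mul_smul, mul_smul, hg, ht, ← hg, inv_smul_smul]
  have hsω : s • ω = ω := by rw [hω, mul_smul, mul_smul, smul_inv_smul, hty₀]
  set C := D.E ⊓ Subgroup.centralizer ({s} : Set G)
  have h : {y | D.adj x y ∧ t • y = y} = (fun e : G => g • e • ω) '' (C : Set G) := by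
    ext y
    constructor
    · rintro ⟨hy, hty⟩
      obtain ⟨e, he, hey⟩ := D.exists_smul_near hωN ((D.adj_iff hg).1 hy)
      refine ⟨e, ⟨he, Subgroup.mem_centralizer_singleton_iff.2 ?_⟩, by
        show g • e • ω = y
        rw [hey, smul_inv_smul]⟩
      have h1 : (e⁻¹ * (s * e * s⁻¹)) • ω = ω := by
        rw [mul_smul, mul_smul, mul_smul, (inv_smul_eq_iff.2 hsω.symm : s⁻¹ • ω = ω), hey, mul_smul,
          mul_smul, smul_inv_smul, hty, ← hey, inv_smul_smul]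
      have h2 := D.eq_one_of_fix_near hωN (mul_mem (inv_mem he) (D.conj_mem hs he)) h1
      exact (mul_inv_eq_iff_eq_mul.1 (inv_mul_eq_one.1 h2).symm).symm
    · rintro ⟨e, ⟨he, hce⟩, rfl⟩
      have hce' : e * s = s * e := Subgroup.mem_centralizer_singleton_iff.1 hce
      refine ⟨(D.adj_iff hg).2 (by
        rw [inv_smul_smul]; exact D.near_smul (D.le_stab he) hωN), ?_⟩
      show t • g • e • ω = g • e • ω
      rw [← mul_smul, show t * g = g * s by simp only [s]; group, mul_smul, ← mul_smul s, ← hce',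
        mul_smul, hsω]
  rw [h, Set.ncard_image_of_injOn, ← Nat.card_coe_set_eq]
  · exact D.card_E ▸ Subgroup.card_dvd_of_le inf_le_left
  · intro a ha b hb (hab : g • a • ω = g • b • ω)
    exact inv_mul_eq_one.1 (D.eq_one_of_fix_near hωN (mul_mem (inv_mem ha.1) hb.1)
      (by rw [mul_smul, ← smul_left_cancel g hab, inv_smul_smul]))

theorem subgroup_eq_of_inter {v u : Ω} (hv : D.Far v) (hu : D.Far u) {t s : G} (ht : t ∈ D.ES v ⊓ D.ES u)
    (hs : s ∈ D.ES v ⊓ D.ES u) (ht1 : t ≠ 1) (hs1 : s ≠ 1) (hst : s ≠ t) : D.ES v = D.ES u := by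
  classical
  set W := D.ES v ⊓ D.ES u
  have h3 : 3 ≤ Nat.card W := by
    have : ({1, t, s} : Set G) ⊆ W := by
      rintro x (rfl | rfl | rfl)
      exacts [one_mem _, ht, hs]
    have h := Set.ncard_le_ncard this (Set.toFinite _)
    rw [Set.ncard_eq_three.2 ⟨1, t, s, ht1.symm, hs1.symm, hst.symm, rfl⟩, ← Nat.card_coe_set_eq] at h
    exact h
  have h4 : Nat.card W ∣ 4 := hv.2 ▸ Subgroup.card_dvd_of_le inf_le_left
  have : Nat.card W = 4 := by
    have := Nat.le_of_dvd (by norm_num) h4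
    interval_cases hW : Nat.card W <;> omega
  have h1 : W = D.ES v := Subgroup.eq_of_le_of_card_ge inf_le_left (by rw [hv.2, this])
  have h2 : W = D.ES u := Subgroup.eq_of_le_of_card_ge inf_le_right (by rw [hu.2, this])
  exact h1.symm.trans h2

/-- Cosets of two lines without common element meet. -/
theorem exists_common {v u : Ω} (hv : D.Far v) (hu : D.Far u) (h : D.ES v ⊓ D.ES u = ⊥) :
    ∃ a, a ∈ D.A v ∧ a ∈ D.A u := by
  obtain ⟨a, ha⟩ := D.exists_mem_A hv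
  obtain ⟨b, hb⟩ := D.exists_mem_A hu
  obtain ⟨c, hc, hca⟩ := D.exists_smul_near ha.1 hb.1
  let f : D.ES v × D.ES u → D.E := fun q => ⟨(q.1 : G) * q.2, mul_mem q.1.2.1 q.2.2.1⟩
  have hf : Function.Injective f := fun q r e => by
    have e' : (q.1 : G) * q.2 = r.1 * r.2 := congrArg Subtype.val e
    have h1 : (r.1 : G)⁻¹ * q.1 = r.2 * (q.2 : G)⁻¹ := by
      rw [inv_mul_eq_iff_eq_mul, ← mul_assoc, eq_mul_inv_iff_mul_eq, e']
    have hA : (r.1 : G)⁻¹ * q.1 ∈ D.ES v :=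
      (D.ES v).mul_mem ((D.ES v).inv_mem r.1.2) q.1.2
    have hB : (r.1 : G)⁻¹ * q.1 ∈ D.ES u := by
      rw [h1]
      exact (D.ES u).mul_mem r.2.2 ((D.ES u).inv_mem q.2.2)
    have h2 : (r.1 : G)⁻¹ * q.1 = 1 := Subgroup.mem_bot.1 (h ▸
      (⟨hA, hB⟩ : (r.1 : G)⁻¹ * q.1 ∈ D.ES v ⊓ D.ES u))
    exact Prod.ext (Subtype.ext (inv_mul_eq_one.1 h2).symm)
      (Subtype.ext (mul_inv_eq_one.1 (h1.symm.trans h2)).symm)
  obtain ⟨⟨⟨w, hw⟩, w', hw'⟩, he⟩ := ((Nat.bijective_iff_injective_and_card f).2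
    ⟨hf, by rw [Nat.card_prod, hv.2, hu.2, D.card_E]⟩).2 ⟨c, hc⟩
  have he' : w * w' = c := congrArg Subtype.val he
  refine ⟨w • a, ?_, ?_⟩
  · rw [D.A_eq hv ha]; exact ⟨w, hw, rfl⟩
  · rw [D.A_eq hu hb]
    refine ⟨w'⁻¹, inv_mem hw', ?_⟩
    show w'⁻¹ • b = w • a
    rw [← hca, ← he', D.comm hw.1 hw'.1, mul_smul, inv_smul_smul]

theorem A_inj {v u : Ω} (hv : D.Far v) (hu : D.Far u) (hW : D.ES v = D.ES u) {a : Ω}
    (hav : a ∈ D.A v) (hau : a ∈ D.A u) : u = v := by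
  have hmem : u ∈ orbit ↥D.E v := D.fiber_eq hv ▸ ⟨hu, hW.symm⟩
  obtain ⟨⟨e, he⟩, rfl⟩ := hmem
  show e • v = v
  change a ∈ D.A (e • v) at hau
  rw [D.A_smul (D.le_stab he)] at hau
  obtain ⟨b, hb, hba⟩ := hau
  rw [D.A_eq hv hav] at hb
  obtain ⟨w, hw, rfl⟩ := hb
  have h1 : e * w = 1 := D.eq_one_of_fix_near hav.1 (mul_mem he hw.1) (by rw [mul_smul]; exact hba)
  rw [eq_inv_of_mul_eq_one_left h1]
  exact (inv_mem hw : w⁻¹ ∈ D.ES v).2

theorem not_adj_of_common {v u a : Ω} (hav : a ∈ D.A v) (hau : a ∈ D.A u) : ¬ D.adj v u :=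
  D.no_triangle hav.2 hau.2

/-- Two of the four points on a line have cosets disjoint from a given one. -/
theorem ncard_disjoint {v u₀ : Ω} (hv : D.Far v) (hu₀ : D.Far u₀) {t : G}
    (ht : t ∈ D.ES v ⊓ D.ES u₀) (ht1 : t ≠ 1) (hne : D.ES u₀ ≠ D.ES v) :
    {u ∈ D.fiber u₀ | Disjoint (D.A v) (D.A u)}.ncard = 2 := by
  classical
  haveI := Fintype.ofFinite Ω
  have hcov : ∀ a ∈ D.A v, ∃ u ∈ D.fiber u₀, a ∈ D.A u := by
    intro a ha
    obtain ⟨b, hb⟩ := D.exists_mem_A hu₀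
    obtain ⟨c, hc, hcb⟩ := D.exists_smul_near hb.1 ha.1
    refine ⟨c • u₀, ⟨D.far_smul (D.le_stab hc) hu₀, D.ES_smul hc u₀⟩, ?_⟩
    rw [D.A_smul (D.le_stab hc)]
    exact ⟨b, hb, hcb⟩
  choose φ hφf hφA using hcov
  let s := (D.A v).toFinset
  let F : Ω → Ω := fun a => if h : a ∈ D.A v then φ a h else a
  have hfib : ∀ a ∈ D.A v, {b ∈ D.A v | F b = F a}.ncard = 2 := by
    intro a ha
    have hset : {b ∈ D.A v | F b = F a} = {a, t • a} := by
      have hFa : F a = φ a ha := dif_pos ha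
      have hta : t • a ∈ D.A v := by rw [D.A_eq hv ha]; exact ⟨t, ht.1, rfl⟩
      have hta' : t • a ∈ D.A (φ a ha) := by
        rw [D.A_eq (hφf a ha).1 (hφA a ha)]
        exact ⟨t, (hφf a ha).2 ▸ ht.2, rfl⟩
      ext b
      constructor
      · rintro ⟨hb, hFb⟩
        rw [hFa, show F b = φ b hb from dif_pos hb] at hFb
        have hb' : b ∈ D.A (φ a ha) := hFb ▸ hφA b hb
        rw [D.A_eq (hφf a ha).1 (hφA a ha)] at hb'
        obtain ⟨w, hw, rfl⟩ := hb'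
        have hwv : w ∈ D.ES v := by
          have hb2 := hb
          rw [D.A_eq hv ha] at hb2
          obtain ⟨w', hw', he⟩ := hb2
          have h1 := D.eq_one_of_fix_near ha.1 (mul_mem (inv_mem hw'.1) hw.1)
            (by rw [mul_smul]; exact inv_smul_eq_iff.2 he.symm)
          rw [← inv_mul_eq_one.1 h1]
          exact hw'
        rw [(hφf a ha).2] at hw
        by_cases h1 : w = 1
        · left; show w • a = a; rw [h1, one_smul]
        by_cases h2 : w = t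
        · right; show w • a = t • a; rw [h2]
        exact absurd (D.subgroup_eq_of_inter hv hu₀ ht ⟨hwv, hw⟩ ht1 h1 h2).symm hne
      · rintro (rfl | rfl)
        · exact ⟨ha, rfl⟩
        · refine ⟨hta, ?_⟩
          rw [hFa, show F (t • a) = φ _ hta from dif_pos hta]
          exact D.A_inj (hφf a ha).1 (hφf _ hta).1
            ((hφf a ha).2.trans (hφf _ hta).2.symm) hta' (hφA _ hta)
    rw [hset, Set.ncard_pair]
    intro e
    exact ht1 (D.eq_one_of_fix_near ha.1 ht.1.1 e.symm)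
  -- the meeting points
  have hmeet : {u ∈ D.fiber u₀ | ¬ Disjoint (D.A v) (D.A u)} = F '' D.A v := by
    ext u
    constructor
    · rintro ⟨hu, hd⟩
      obtain ⟨a, hav, hau⟩ := Set.not_disjoint_iff.1 hd
      refine ⟨a, hav, ?_⟩
      rw [show F a = φ a hav from dif_pos hav]
      exact D.A_inj hu.1 (hφf a hav).1 (hu.2.trans (hφf a hav).2.symm) hau (hφA a hav)
    · rintro ⟨a, ha, rfl⟩
      rw [show F a = φ a ha from dif_pos ha]
      exact ⟨hφf a ha, Set.not_disjoint_iff.2 ⟨a, ha, hφA a ha⟩⟩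
  have h2 : (F '' D.A v).ncard * 2 = 4 := by
    have h := Finset.card_eq_sum_card_image F s
    have hsum : ∀ b ∈ s.image F, {a ∈ s | F a = b}.card = 2 := by
      intro b hb
      obtain ⟨a, ha, rfl⟩ := Finset.mem_image.1 hb
      rw [← hfib a (Set.mem_toFinset.1 ha), ← Set.ncard_coe_finset, Finset.coe_filter]
      exact congrArg Set.ncard (Set.ext fun z => by simp [s])
    rw [Finset.sum_congr rfl hsum, Finset.sum_const, smul_eq_mul,
      ← Set.ncard_eq_toFinset_card', D.ncard_A hv] at h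
    rw [← Set.coe_toFinset (D.A v), ← Finset.coe_image, Set.ncard_coe_finset]
    exact h.symm
  have hsplit := Set.ncard_sdiff (s := {u ∈ D.fiber u₀ | ¬ Disjoint (D.A v) (D.A u)})
    (t := D.fiber u₀) (fun u hu => hu.1)
  have hdiff : D.fiber u₀ \ {u ∈ D.fiber u₀ | ¬ Disjoint (D.A v) (D.A u)} =
      {u ∈ D.fiber u₀ | Disjoint (D.A v) (D.A u)} := by
    ext u
    exact ⟨fun ⟨h1, h2⟩ => ⟨h1, not_not.1 fun h => h2 ⟨h1, h⟩⟩, fun ⟨h1, h2⟩ => ⟨h1, fun h => h.2 h2⟩⟩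
  rw [hdiff, D.fiber_four hu₀, hmeet] at hsplit
  omega

/-- The candidates for neighbours of `v` fixed by `t`. -/
def cand (v : Ω) (t : G) : Set Ω :=
  {u | D.Far u ∧ t ∈ D.ES u ∧ D.ES u ≠ D.ES v ∧ Disjoint (D.A v) (D.A u)}

theorem ncard_cand {v : Ω} (hv : D.Far v) {t : G} (ht : t ∈ D.ES v) (ht1 : t ≠ 1) :
    (D.cand v t).ncard = 4 := by
  classical
  set T := {u | D.Far u ∧ t ∈ D.ES u} \ D.fiber v
  have hT : T.ncard = 8 := by
    rw [Set.ncard_sdiff (D.fiber_subset_fix ht), D.ncard_fix_far ht.1 ht1, D.fiber_four hv]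
  obtain ⟨u₁, hu₁⟩ := Set.nonempty_of_ncard_ne_zero (s := T) (by rw [hT]; norm_num)
  have hsub₁ : D.fiber u₁ ⊆ T := fun u hu =>
    ⟨⟨hu.1, hu.2 ▸ hu₁.1.2⟩, fun h => hu₁.2 ⟨hu₁.1.1, hu.2.symm.trans h.2⟩⟩
  obtain ⟨u₂, hu₂⟩ := Set.nonempty_of_ncard_ne_zero (s := T \ D.fiber u₁)
    (by rw [Set.ncard_sdiff hsub₁, hT, D.fiber_four hu₁.1.1]; norm_num)
  have hsub₂ : D.fiber u₂ ⊆ T \ D.fiber u₁ := fun u hu =>
    ⟨⟨⟨hu.1, hu.2 ▸ hu₂.1.1.2⟩, fun h => hu₂.1.2 ⟨hu₂.1.1.1, hu.2.symm.trans h.2⟩⟩,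
      fun h => hu₂.2 ⟨hu₂.1.1.1, hu.2.symm.trans h.2⟩⟩
  have hTeq : T = D.fiber u₁ ∪ D.fiber u₂ := by
    refine (Set.eq_of_subset_of_ncard_le
      (Set.union_subset hsub₁ (hsub₂.trans Set.sdiff_subset)) ?_ (Set.toFinite _)).symm
    rw [Set.ncard_union_eq (Set.disjoint_left.2 fun u h1 h2 => (hsub₂ h2).2 h1), hT,
      D.fiber_four hu₁.1.1, D.fiber_four hu₂.1.1.1]
  have hne : ∀ {u}, u ∈ T → D.ES u ≠ D.ES v := fun {u} hu e => hu.2 ⟨hu.1.1, e⟩
  have hc : D.cand v t = {u ∈ D.fiber u₁ | Disjoint (D.A v) (D.A u)} ∪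
      {u ∈ D.fiber u₂ | Disjoint (D.A v) (D.A u)} := by
    ext u
    constructor
    · rintro ⟨h1, h2, h3, h4⟩
      have : u ∈ T := ⟨⟨h1, h2⟩, fun h => h3 h.2⟩
      rw [hTeq] at this
      exact this.imp (fun h => ⟨h, h4⟩) (fun h => ⟨h, h4⟩)
    · rintro (⟨h, h4⟩ | ⟨h, h4⟩)
      · exact ⟨h.1, (hsub₁ h).1.2, hne (hsub₁ h), h4⟩
      · exact ⟨h.1, (hsub₂ h).1.1.2, hne (hsub₂ h).1, h4⟩
  rw [hc, Set.ncard_union_eq (Set.disjoint_left.2 fun u h1 h2 => (hsub₂ h2.1).2 h1.1),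
    D.ncard_disjoint hv hu₁.1.1 ⟨ht, hu₁.1.2⟩ ht1 (hne hu₁),
    D.ncard_disjoint hv hu₂.1.1.1 ⟨ht, hu₂.1.1.2⟩ ht1 (hne hu₂.1)]

/-- The neighbours of `v` at distance two from `p`. -/
theorem ncard_adj_far {v : Ω} (hv : D.Far v) : {u | D.Far u ∧ D.adj v u}.ncard = 12 := by
  have h : {u | D.Far u ∧ D.adj v u} = {u | D.adj v u} \ D.A v := by
    ext u
    refine ⟨fun ⟨h1, h2⟩ => ⟨h2, fun h => D.far_not_near h1 h.1⟩, fun ⟨h1, h2⟩ => ⟨?_, h1⟩⟩
    have hne : u ≠ D.p := fun e => D.far_not_near hv (D.adj_p.1 (D.adj_symm (e ▸ h1)))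
    exact (D.near_or_far hne).resolve_left fun h => h2 ⟨h, D.adj_symm h1⟩
  rw [h, Set.ncard_sdiff (show D.A v ⊆ {u | D.adj v u} from fun u hu => D.adj_symm hu.2),
    D.ncard_adj, D.ncard_A hv]

/-- Adjacency at distance two. -/
theorem adj_far_iff {v u : Ω} (hv : D.Far v) (hu : D.Far u) :
    D.adj v u ↔ Disjoint (D.A v) (D.A u) ∧ D.ES u ≠ D.ES v := by
  classical
  haveI := Fintype.ofFinite Ω
  haveI := Fintype.ofFinite G
  set d := {u | u ∈ D.fiber v ∧ D.adj v u} with hd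
  let W : Finset G := Finset.univ.filter fun t => t ∈ D.ES v ∧ t ≠ 1
  have hW : W.card = 3 := by
    rw [← Fintype.card_subtype, ← Nat.card_eq_fintype_card]
    refine (Nat.card_congr ⟨fun t => (⟨⟨t.1, t.2.1⟩, t.2.2⟩ : {e : D.ES v // (e : G) ≠ 1}),
      fun e => ⟨e.1.1, e.1.2, e.2⟩, fun _ => rfl, fun _ => rfl⟩).trans ?_
    rw [card_ne_one, hv.2]
  have hmemW : ∀ t, t ∈ W ↔ t ∈ D.ES v ∧ t ≠ 1 := fun t => by simp [W]
  have hdle : d.ncard ≤ 3 := by
    have : d ⊆ D.fiber v \ {v} := fun x hx => ⟨hx.1, fun e => D.not_adj_self v (e ▸ hx.2 :)⟩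
    refine (Set.ncard_le_ncard this).trans (le_of_eq ?_)
    rw [Set.ncard_sdiff (Set.singleton_subset_iff.2 (show v ∈ D.fiber v from ⟨hv, rfl⟩)),
      D.fiber_four hv, Set.ncard_singleton]
  -- fixed neighbours: the parallel ones and some candidates
  have hnadj : ∀ {x}, D.Far x → D.adj v x → Disjoint (D.A v) (D.A x) := fun {x} _ h =>
    Set.disjoint_left.2 fun a h1 h2 => D.not_adj_of_common h1 h2 h
  let F := fun t : G => {x | D.adj v x ∧ t • x = x}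
  have hF : ∀ t ∈ W, F t = d ∪ {x | x ∈ D.cand v t ∧ D.adj v x} := by
    intro t ht
    obtain ⟨ht, ht1⟩ := (hmemW t).1 ht
    ext x
    constructor
    · rintro ⟨hx, htx⟩
      have hxp : x ≠ D.p := fun e => D.far_not_near hv (D.adj_p.1 (D.adj_symm (e ▸ hx)))
      have hxf : D.Far x := (D.near_or_far hxp).resolve_left fun hn =>
        ht1 (D.eq_one_of_fix_near hn ht.1 htx)
      by_cases hW' : D.ES x = D.ES v
      · exact Or.inl ⟨⟨hxf, hW'⟩, hx⟩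
      · exact Or.inr ⟨⟨hxf, ⟨ht.1, htx⟩, hW', hnadj hxf hx⟩, hx⟩
    · rintro (⟨h1, h2⟩ | ⟨h1, h2⟩)
      · exact ⟨h2, ((h1.2.symm ▸ ht : t ∈ D.ES x)).2⟩
      · exact ⟨h2, h1.2.1.2⟩
  have hdisj : ∀ t, Disjoint d {x | x ∈ D.cand v t ∧ D.adj v x} := fun t =>
    Set.disjoint_left.2 fun x h1 h2 => h2.1.2.2.1 h1.1.2
  have hle4 : ∀ t ∈ W, d.ncard + {x | x ∈ D.cand v t ∧ D.adj v x}.ncard ≤ 4 := by
    intro t ht
    have h := D.fixed_adj (x := v) (t := t) ((hmemW t).1 ht).1.2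
    change (F t).ncard = 0 ∨ (F t).ncard ∣ 16 at h
    rw [hF t ht, Set.ncard_union_eq (hdisj t)] at h
    have hle : {x | x ∈ D.cand v t ∧ D.adj v x}.ncard ≤ 4 :=
      (Set.ncard_le_ncard fun x hx => hx.1).trans
        (D.ncard_cand hv ((hmemW t).1 ht).1 ((hmemW t).1 ht).2).le
    rcases h with h | h
    · omega
    · have key : ∀ m : ℕ, m ≤ 7 → m ∣ 16 → m ≤ 4 := by decide +kernel
      exact key _ (by omega) h
  -- every other neighbour is a candidate for exactly one `t`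
  set U := {x | D.Far x ∧ D.adj v x} \ d
  have hU : U.ncard = 12 - d.ncard := by
    rw [Set.ncard_sdiff (show d ⊆ {x | D.Far x ∧ D.adj v x} from fun x hx => ⟨hx.1.1, hx.2⟩),
      D.ncard_adj_far hv]
  have hUeq : U = ⋃ t ∈ W, {x | x ∈ D.cand v t ∧ D.adj v x} := by
    ext x
    simp only [Set.mem_iUnion, exists_prop]
    constructor
    · rintro ⟨⟨hxf, hx⟩, hxd⟩
      have hne : D.ES x ≠ D.ES v := fun e => hxd ⟨⟨hxf, e⟩, hx⟩
      rcases (D.ES v ⊓ D.ES x).bot_or_exists_ne_one with hb | ⟨t, ⟨ht, htx⟩, ht1⟩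
      · obtain ⟨a, h1, h2⟩ := D.exists_common hv hxf hb
        exact absurd hx (D.not_adj_of_common h1 h2)
      · exact ⟨t, (hmemW t).2 ⟨ht, ht1⟩, ⟨hxf, htx, hne, hnadj hxf hx⟩, hx⟩
    · rintro ⟨t, ht, hc, hx⟩
      exact ⟨⟨hc.1, hx⟩, fun hxd => hc.2.2.1 hxd.1.2⟩
  have hsum : U.ncard ≤ ∑ t ∈ W, {x | x ∈ D.cand v t ∧ D.adj v x}.ncard := by
    rw [hUeq]
    exact Finset.set_ncard_biUnion_le W _
  have hbound : ∑ t ∈ W, {x | x ∈ D.cand v t ∧ D.adj v x}.ncard ≤ ∑ _t ∈ W, (4 - d.ncard) :=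
    Finset.sum_le_sum fun t ht => by have := hle4 t ht; omega
  rw [Finset.sum_const, hW, smul_eq_mul] at hbound
  have hd0 : d.ncard = 0 := by omega
  have hfull : ∀ t ∈ W, ∀ x ∈ D.cand v t, D.adj v x := by
    intro t ht
    by_contra hcon
    push Not at hcon
    obtain ⟨x, hx, hnx⟩ := hcon
    have hlt : {x | x ∈ D.cand v t ∧ D.adj v x}.ncard < 4 := by
      rw [← D.ncard_cand hv ((hmemW t).1 ht).1 ((hmemW t).1 ht).2]
      exact Set.ncard_lt_ncard ⟨fun y hy => hy.1, fun h => hnx (h hx).2⟩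
    have hlt' : ∑ t ∈ W, {x | x ∈ D.cand v t ∧ D.adj v x}.ncard < ∑ _t ∈ W, 4 :=
      Finset.sum_lt_sum (fun s hs => by have := hle4 s hs; omega) ⟨t, ht, hlt⟩
    rw [Finset.sum_const, hW, smul_eq_mul] at hlt'
    omega
  constructor
  · intro h
    refine ⟨hnadj hu h, fun e => ?_⟩
    have : u ∈ d := ⟨⟨hu, e⟩, h⟩
    rw [(Set.ncard_eq_zero).1 hd0] at this
    exact this
  · rintro ⟨h1, h2⟩
    rcases (D.ES v ⊓ D.ES u).bot_or_exists_ne_one with hb | ⟨t, ⟨ht, htu⟩, ht1⟩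
    · obtain ⟨a, ha1, ha2⟩ := D.exists_common hv hu hb
      exact absurd ha2 (Set.disjoint_left.1 h1 ha1)
    · exact hfull t ((hmemW t).2 ⟨ht, ht1⟩) u ⟨hu, htu, h2, h1⟩

end Cfsg.Agent.Lib.RecogM22.Max77
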