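import Mathlib

/-!
The graph on `77` points: one point, the `16` vectors of a symplectic space over `GF(2)` and its
`60` cosets of totally isotropic lines.

Owner: helper41.  Two simple groups of order `443520` acting transitively on this graph are
isomorphic, as its automorphism group has order at most `887040` (`unique`).
-/

set_option autoImplicit false
set_option linter.style.haveILetI false
set_option maxRecDepth 20000

universe u v w w'

namespace Cfsg.Agent.Lib.RecogM22.Graph

/-- Sum of two vectors, coded by their bits. -/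
def add (x y : Fin 16) : Fin 16 := ⟨(x.1 ^^^ y.1) % 16, Nat.mod_lt _ (by norm_num)⟩

/-- The alternating form pairing the bits `0, 1` and `2, 3`. -/
def form (x y : Fin 16) : Bool :=
  xor (xor (x.1.testBit 0 && y.1.testBit 1) (x.1.testBit 1 && y.1.testBit 0))
    (xor (x.1.testBit 2 && y.1.testBit 3) (x.1.testBit 3 && y.1.testBit 2))

/-- A coset of a totally isotropic line. -/
def IsBlock (s : Finset (Fin 16)) : Prop :=
  s.card = 4 ∧ ∀ a ∈ s, ∀ b ∈ s, ∀ c ∈ s, add (add a b) c ∈ s ∧ form (add a b) (add a c) = false

instance : DecidablePred IsBlock := fun s => by unfold IsBlock; infer_instance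

/-- The blocks. -/
abbrev Blk := {s : Finset (Fin 16) // IsBlock s}

/-- The direction of a block. -/
def dir (s : Finset (Fin 16)) : Finset (Fin 16) := (s ×ˢ s).image fun p => add p.1 p.2

/-- The vertices. -/
abbrev Vtx := Option (Fin 16 ⊕ Blk)

/-- Adjacency. -/
def Adj : Vtx → Vtx → Prop
  | none, some (.inl _) => True
  | some (.inl _), none => True
  | some (.inl a), some (.inr s) => a ∈ s.1
  | some (.inr s), some (.inl a) => a ∈ s.1
  | some (.inr s), some (.inr t) => Disjoint s.1 t.1 ∧ dir s.1 ≠ dir t.1
  | _, _ => False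

/-- The automorphisms of the graph. -/
def autGroup : Subgroup (Equiv.Perm Vtx) where
  carrier := {π | ∀ x y, Adj (π x) (π y) ↔ Adj x y}
  one_mem' _ _ := Iff.rfl
  mul_mem' {π σ} hπ hσ x y := (hπ (σ x) (σ y)).trans (hσ x y)
  inv_mem' {π} hπ x y := by
    have h := hπ (π⁻¹ x) (π⁻¹ y)
    simpa using h.symm

/-- `x, y` with `a` lie in one block. -/
def coll (a x y : Fin 16) : Bool := !(form (add a x) (add a y))

/-- The sixty blocks, coded by their members. -/
def masks : List ℕ :=
  [51, 771, 12291, 85, 1285, 20485, 153, 2313, 36873, 33825, 18465, 33345, 10305, 17025, 9345, 102, 1542, 24582, 170, 2570, 40970, 33810, 18450, 33090, 6210, 16770, 5250, 204, 3084, 49164, 33300, 10260, 33060, 6180, 8580, 4740, 16920, 9240, 16680, 5160, 8520, 4680, 816, 12336, 1360, 20560, 2448, 37008, 1632, 24672, 2720, 41120, 3264, 49344, 13056, 21760, 39168, 26112, 43520, 52224]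

/-- The members coded by a number. -/
def ofMask (m : ℕ) : Finset (Fin 16) := Finset.univ.filter fun i => m.testBit i.1

theorem masks_block : masks.all (fun m => decide (IsBlock (ofMask m))) = true := by decide +kernel

theorem masks_cover : ∀ a x y : Fin 16, coll a x y = true →
    (masks.any fun m => m.testBit a.1 && m.testBit x.1 && m.testBit y.1) = true := by decide +kernel

theorem coll_of_mem {s : Finset (Fin 16)} (hs : IsBlock s) {a x y : Fin 16} (ha : a ∈ s) (hx : x ∈ s)
    (hy : y ∈ s) : coll a x y = true := by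
  simp [coll, (hs.2 a ha x hx y hy).2]

theorem exists_block {a x y : Fin 16} (h : coll a x y = true) :
    ∃ s : Blk, a ∈ s.1 ∧ x ∈ s.1 ∧ y ∈ s.1 := by
  obtain ⟨m, hm, h'⟩ := List.any_eq_true.1 (masks_cover a x y h)
  simp only [Bool.and_eq_true] at h'
  refine ⟨⟨ofMask m, of_decide_eq_true (List.all_eq_true.1 masks_block m hm)⟩, ?_⟩
  simp [ofMask, h']

/-- Successive choices for the images of a frame. -/
def cand₂ (a b : Fin 16) : Finset (Fin 16) :=
  Finset.univ.filter fun c => coll a b c = false

/-- Successive choices for the images of a frame. -/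
def cand₃ (a b c : Fin 16) : Finset (Fin 16) :=
  Finset.univ.filter fun d => d ≠ a ∧ coll a b d = true ∧ coll a c d = true

/-- Successive choices for the images of a frame. -/
def cand₄ (a b c d : Fin 16) : Finset (Fin 16) :=
  Finset.univ.filter fun e => coll a b e = true ∧ coll a c e = true ∧ coll a d e = false

theorem add_add_cancel : ∀ a x : Fin 16, add a (add a x) = x := by decide +kernel

theorem add_injective (a : Fin 16) : Function.Injective (add a) :=
  Function.LeftInverse.injective (add_add_cancel a)

theorem add_eq_zero : ∀ a x : Fin 16, add a x = 0 → x = a := by decide +kernel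

theorem base₂ : ∀ b : Fin 16, b ≠ 0 →
    (Finset.univ.filter fun c => form b c = true).card ≤ 8 := by decide +kernel

theorem base₃ : ∀ b c : Fin 16, form b c = true →
    (Finset.univ.filter fun d => d ≠ 0 ∧ form b d = false ∧ form c d = false).card ≤ 3 := by
  decide +kernel

theorem base₄ : ∀ b c d : Fin 16, form b c = true → d ≠ 0 → form b d = false → form c d = false →
    (Finset.univ.filter fun e => form b e = false ∧ form c e = false ∧ form d e = true).card ≤ 2 := by
  decide +kernel

theorem card_cand₂ (a b : Fin 16) (h : b ≠ a) : (cand₂ a b).card ≤ 8 := by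
  refine (Finset.card_le_card_of_injOn (add a) (fun c hc => ?_) (add_injective a).injOn).trans
    (base₂ (add a b) fun e => h (add_eq_zero a b e))
  simpa [cand₂, coll] using hc

theorem card_cand₃ (a b c : Fin 16) (hc : c ∈ cand₂ a b) : (cand₃ a b c).card ≤ 3 := by
  simp only [cand₂, coll, Finset.mem_filter, Finset.mem_univ, true_and, Bool.not_eq_false'] at hc
  refine (Finset.card_le_card_of_injOn (add a) (fun d hd => ?_) (add_injective a).injOn).trans
    (base₃ (add a b) (add a c) hc)
  simp only [cand₃, coll, Finset.coe_filter, Finset.mem_univ, true_and, Set.mem_setOf_eq,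
    Bool.not_eq_true'] at hd ⊢
  exact ⟨fun e => hd.1 (add_eq_zero a d e), hd.2⟩

theorem card_cand₄ (a b c : Fin 16) (hc : c ∈ cand₂ a b) (d : Fin 16) (hd : d ∈ cand₃ a b c) :
    (cand₄ a b c d).card ≤ 2 := by
  simp only [cand₂, cand₃, coll, Finset.mem_filter, Finset.mem_univ, true_and, Bool.not_eq_false',
    Bool.not_eq_true'] at hc hd
  refine (Finset.card_le_card_of_injOn (add a) (fun e he => ?_) (add_injective a).injOn).trans
    (base₄ (add a b) (add a c) (add a d) hc (fun e => hd.1 (add_eq_zero a d e)) hd.2.1 hd.2.2)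
  simpa [cand₄, coll] using he

theorem coll_facts : coll 0 1 2 = false ∧ coll 0 1 4 = true ∧ coll 0 2 4 = true ∧
    coll 0 1 8 = true ∧ coll 0 2 8 = true ∧ coll 0 4 8 = false := by decide +kernel

theorem signature : ∀ x y : Fin 16, x ∉ [0, 1, 2, 4, 8] → y ∉ [0, 1, 2, 4, 8] →
    coll 0 1 x = coll 0 1 y → coll 0 2 x = coll 0 2 y → coll 0 4 x = coll 0 4 y →
    coll 0 8 x = coll 0 8 y → x = y := by decide +kernel

theorem not_adj_none_inr (s : Blk) : ¬ Adj none (some (.inr s)) := id

theorem adj_none_inl (a : Fin 16) : Adj none (some (.inl a)) := trivial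

section Stab

variable {π : Equiv.Perm Vtx} (hπ : π ∈ autGroup) (h0 : π none = none)
include hπ h0

theorem exists_inl (a : Fin 16) : ∃ b, π (some (.inl a)) = some (.inl b) := by
  have h := (hπ none (some (.inl a))).2 (adj_none_inl a)
  rw [h0] at h
  rcases hb : π (some (.inl a)) with _ | b | s <;> rw [hb] at h
  · exact h.elim
  · exact ⟨b, rfl⟩
  · exact h.elim

theorem exists_inr (s : Blk) : ∃ t, π (some (.inr s)) = some (.inr t) := by
  have h := mt (hπ none (some (.inr s))).1 (not_adj_none_inr s)
  rw [h0] at h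
  rcases hb : π (some (.inr s)) with _ | b | t <;> rw [hb] at h
  · exact absurd (π.injective (hb.trans h0.symm)) (by simp)
  · exact absurd (adj_none_inl b) h
  · exact ⟨t, rfl⟩

end Stab

/-- The stabiliser of the first point. -/
def stab : Subgroup (Equiv.Perm Vtx) := autGroup ⊓ MulAction.stabilizer (Equiv.Perm Vtx) (none : Vtx)

/-- The images of the sixteen neighbours. -/
noncomputable def img (π : stab) (a : Fin 16) : Fin 16 :=
  (exists_inl π.2.1 π.2.2 a).choose

theorem img_spec (π : stab) (a : Fin 16) :
    (π : Equiv.Perm Vtx) (some (.inl a)) = some (.inl (img π a)) :=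
  (exists_inl π.2.1 π.2.2 a).choose_spec

theorem img_injective (π : stab) : Function.Injective (img π) := fun a b e => by
  have := (π : Equiv.Perm Vtx).injective ((img_spec π a).trans (e ▸ (img_spec π b).symm))
  simpa using this

theorem exists_block_img (π : stab) (s : Blk) :
    ∃ t : Blk, ∀ a, img π a ∈ t.1 ↔ a ∈ s.1 := by
  obtain ⟨t, ht⟩ := exists_inr π.2.1 π.2.2 s
  refine ⟨t, fun a => ?_⟩
  have h := π.2.1 (some (.inl a)) (some (.inr s))
  rwa [img_spec, ht] at h

theorem coll_img (π : stab) (a x y : Fin 16) :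
    coll (img π a) (img π x) (img π y) = coll a x y := by
  rw [Bool.eq_iff_iff]
  constructor
  · intro h
    obtain ⟨t₀, h1, h2, h3⟩ := exists_block h
    have hinv : (π : Equiv.Perm Vtx)⁻¹ ∈ stab := inv_mem π.2
    obtain ⟨t, ht⟩ := exists_inr hinv.1 hinv.2 t₀
    have key : ∀ z, img π z ∈ t₀.1 → z ∈ t.1 := fun z hz => by
      have := (hinv.1 (some (.inl (img π z))) (some (.inr t₀))).2 hz
      rwa [← img_spec, ht, ← Equiv.Perm.mul_apply, inv_mul_cancel, Equiv.Perm.one_apply] at this
    exact coll_of_mem t.2 (key a h1) (key x h2) (key y h3)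
  · intro h
    obtain ⟨t₀, h1, h2, h3⟩ := exists_block h
    obtain ⟨t, ht⟩ := exists_block_img π t₀
    exact coll_of_mem t.2 ((ht a).2 h1) ((ht x).2 h2) ((ht y).2 h3)

/-- The frame images. -/
noncomputable def frame (π : stab) : Fin 16 × Fin 16 × Fin 16 × Fin 16 × Fin 16 :=
  (img π 0, img π 1, img π 2, img π 4, img π 8)

theorem frame_injective : Function.Injective frame := by
  intro π σ h
  simp only [frame, Prod.mk.injEq] at h
  obtain ⟨e0, e1, e2, e4, e8⟩ := h
  have hx : ∀ x, img π x = img σ x := by
    intro x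
    by_cases hx : x ∈ ([0, 1, 2, 4, 8] : List (Fin 16))
    · simp only [List.mem_cons, List.not_mem_nil, or_false] at hx
      rcases hx with rfl | rfl | rfl | rfl | rfl <;> assumption
    obtain ⟨z, hz⟩ := (Finite.injective_iff_surjective.1 (img_injective σ)) (img π x)
    have hz' : z ∉ ([0, 1, 2, 4, 8] : List (Fin 16)) := by
      intro hz'
      apply hx
      simp only [List.mem_cons, List.not_mem_nil, or_false] at hz' ⊢
      rcases hz' with rfl | rfl | rfl | rfl | rfl
      · exact Or.inl (img_injective π (hz.symm.trans e0.symm))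
      · exact Or.inr (Or.inl (img_injective π (hz.symm.trans e1.symm)))
      · exact Or.inr (Or.inr (Or.inl (img_injective π (hz.symm.trans e2.symm))))
      · exact Or.inr (Or.inr (Or.inr (Or.inl (img_injective π (hz.symm.trans e4.symm)))))
      · exact Or.inr (Or.inr (Or.inr (Or.inr (img_injective π (hz.symm.trans e8.symm)))))
    simp only [List.mem_cons, List.not_mem_nil, or_false, not_or] at hx hz'
    have key : ∀ i : Fin 16, img π i = img σ i →
        coll 0 i x = coll 0 i z := fun i he => by
      rw [← coll_img π 0 i x, ← coll_img σ 0 i z, e0, he, hz]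
    have : x = z := signature x z (by simp [hx]) (by simp [hz'])
      (key 1 e1) (key 2 e2) (key 4 e4) (key 8 e8)
    rw [← hz, this]
  apply Subtype.ext
  apply Equiv.ext
  rintro (_ | a | s)
  · exact π.2.2.trans σ.2.2.symm
  · rw [img_spec, img_spec, hx]
  · obtain ⟨t, ht⟩ := exists_inr π.2.1 π.2.2 s
    obtain ⟨t', ht'⟩ := exists_inr σ.2.1 σ.2.2 s
    rw [ht, ht']
    refine congrArg (fun r : Blk => some (Sum.inr r)) (Subtype.ext (Finset.ext fun b => ?_))
    obtain ⟨a, rfl⟩ := (Finite.injective_iff_surjective.1 (img_injective π)) b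
    have h1 := π.2.1 (some (.inl a)) (some (.inr s))
    have h2 := σ.2.1 (some (.inl a)) (some (.inr s))
    rw [img_spec, ht] at h1
    rw [img_spec, ht', ← hx] at h2
    exact h1.trans h2.symm

theorem card_stab : Nat.card stab ≤ 11520 := by
  classical
  let T : Finset (Σ _ : Fin 16, Σ _ : Fin 16, Σ _ : Fin 16, Σ _ : Fin 16, Fin 16) :=
    Finset.univ.sigma fun a => (Finset.univ.erase a).sigma fun b => (cand₂ a b).sigma fun c =>
      (cand₃ a b c).sigma fun d => cand₄ a b c d
  have hmem : ∀ π : stab, (⟨img π 0, img π 1, img π 2, img π 4, img π 8⟩ :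
      Σ _ : Fin 16, Σ _ : Fin 16, Σ _ : Fin 16, Σ _ : Fin 16, Fin 16) ∈ T := by
    intro π
    obtain ⟨f12, f14, f24, f18, f28, f48⟩ := coll_facts
    simp only [T, Finset.mem_sigma, Finset.mem_univ, true_and, Finset.mem_erase, and_true, cand₂,
      cand₃, cand₄, Finset.mem_filter]
    refine ⟨(img_injective π).ne (by decide), ?_, ⟨(img_injective π).ne (by decide), ?_, ?_⟩, ?_, ?_, ?_⟩ <;>
      rw [coll_img π] <;> assumption
  let f : stab → T := fun π => ⟨_, hmem π⟩
  have hf : Function.Injective f := fun π σ e => frame_injective (by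
    have e' := congrArg (fun q : T => (q.1.1, q.1.2.1, q.1.2.2.1, q.1.2.2.2.1, q.1.2.2.2.2)) e
    exact e')
  refine (Nat.card_le_card_of_injective f hf).trans ?_
  rw [Nat.card_eq_finsetCard, Finset.card_sigma]
  have hc : ∀ a, ((Finset.univ.erase a).sigma fun b => (cand₂ a b).sigma fun c =>
      (cand₃ a b c).sigma fun d => cand₄ a b c d).card ≤ 720 := fun a => by
    rw [Finset.card_sigma]
    refine (Finset.sum_le_card_nsmul _ _ 48 fun b hb => ?_).trans (by simp)
    rw [Finset.card_sigma]
    refine (Finset.sum_le_card_nsmul _ _ 6 fun c hc => ?_).trans ?_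
    · rw [Finset.card_sigma]
      refine (Finset.sum_le_card_nsmul _ _ 2 fun d hd => card_cand₄ a b c hc d hd).trans ?_
      have := card_cand₃ a b c hc
      simp only [smul_eq_mul]
      omega
    · have := card_cand₂ a b (Finset.ne_of_mem_erase hb)
      simp only [smul_eq_mul]
      omega
  exact (Finset.sum_le_card_nsmul _ _ 720 fun a _ => hc a).trans (by simp)

theorem card_autGroup (h77 : Nat.card Vtx = 77) : Nat.card autGroup ≤ 887040 := by
  classical
  have h := MulAction.card_orbit_mul_card_stabilizer_eq_card_group autGroup (none : Vtx)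
  simp only [← Nat.card_eq_fintype_card] at h
  rw [← h]
  refine Nat.mul_le_mul ((Finite.card_subtype_le _).trans h77.le) (le_trans ?_ card_stab)
  exact Nat.card_le_card_of_injective
    (fun π => (⟨π.1.1, π.1.2, π.2⟩ : stab)) fun π σ e => by
      have := congrArg (fun q : stab => (q : Equiv.Perm Vtx)) e
      exact Subtype.ext (Subtype.ext this)

/-- Two simple groups in a group of at most twice their order are equal. -/
theorem eq_of_simple {X : Type*} [Group X] [Finite X] {P H K : Subgroup X} (hH : H ≤ P) (hK : K ≤ P)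
    [IsSimpleGroup H] [IsSimpleGroup K] (hcard : Nat.card H = Nat.card K)
    (hP : Nat.card P ≤ 2 * Nat.card H) (h2 : 2 < Nat.card H) : H = K := by
  have hsub : ∀ {H K : Subgroup X}, H ≤ P → K ≤ P → Nat.card K = Nat.card H →
      Nat.card P ≤ 2 * Nat.card H → 2 < Nat.card H → ∀ [IsSimpleGroup H], H ≤ K := by
    intro H K hH hK hcard hP h2 _
    have hmul : K.relIndex H * Nat.card K ≤ 2 * Nat.card K := by
      have h1 : K.relIndex H ≤ K.relIndex P :=
        Subgroup.relIndex_le_of_le_right hH (by
          have := Subgroup.index_ne_zero_of_finite (H := K.subgroupOf P)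
          exact this)
      have h3 := (K.subgroupOf P).card_mul_index
      rw [Nat.card_congr (Subgroup.subgroupOfEquivOfLe hK).toEquiv] at h3
      calc K.relIndex H * Nat.card K ≤ K.relIndex P * Nat.card K := Nat.mul_le_mul_right _ h1
        _ = Nat.card P := by rw [Subgroup.relIndex, mul_comm]; exact h3
        _ ≤ 2 * Nat.card K := by rw [hcard]; exact hP
    have hle : K.relIndex H ≤ 2 := Nat.le_of_mul_le_mul_right hmul Nat.card_pos
    have h0 : (K.subgroupOf H).index ≠ 0 := Subgroup.index_ne_zero_of_finite
    rcases (show (K.subgroupOf H).index = 1 ∨ (K.subgroupOf H).index = 2 by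
      change (K.subgroupOf H).index ≤ 2 at hle; omega) with h | h
    · exact Subgroup.subgroupOf_eq_top.1 (Subgroup.index_eq_one.1 h)
    · rcases (Subgroup.normal_of_index_eq_two h).eq_bot_or_eq_top with e | e
      · rw [e, Subgroup.index_bot] at h
        omega
      · exact Subgroup.subgroupOf_eq_top.1 e
  exact le_antisymm (hsub hH hK hcard.symm hP h2) (hsub hK hH hcard (hcard ▸ hP) (hcard ▸ h2))

section Model

variable {G : Type u} [Group G] {Ω : Type w} [MulAction G Ω]
  (adj : Ω → Ω → Prop)

/-- An identification of an invariant graph with the model. -/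
structure Iso where
  inv : ∀ (g : G) x y, adj (g • x) (g • y) ↔ adj x y
  equiv : Ω ≃ Vtx
  map_adj : ∀ x y, Adj (equiv x) (equiv y) ↔ adj x y

variable {adj}

/-- The group seen on the model. -/
def Iso.toAut (e : Iso (G := G) adj) : G →* autGroup where
  toFun g := ⟨e.equiv.permCongr (MulAction.toPerm g), fun x y => by
    have h := e.inv g (e.equiv.symm x) (e.equiv.symm y)
    simp only [Equiv.permCongr_apply, MulAction.toPerm_apply, e.map_adj, h,
      ← e.map_adj (e.equiv.symm x), Equiv.apply_symm_apply]⟩
  map_one' := Subtype.ext (Equiv.ext fun x => by simp)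
  map_mul' g h := Subtype.ext (Equiv.ext fun x => by simp [mul_smul])

theorem Iso.toAut_injective [Finite G] [IsSimpleGroup G] (e : Iso (G := G) adj)
    [MulAction.IsPretransitive G Ω] : Function.Injective e.toAut := by
  rw [← MonoidHom.ker_eq_bot_iff]
  refine (e.toAut.normal_ker.eq_bot_or_eq_top).resolve_right fun h => ?_
  obtain ⟨g, hg⟩ := MulAction.exists_smul_eq G (e.equiv.symm none) (e.equiv.symm (some (.inl 0)))
  have hk : e.toAut g = 1 := MonoidHom.mem_ker.1 (h ▸ Subgroup.mem_top g)
  have := congrArg (fun π : autGroup => (π : Equiv.Perm Vtx) none) hk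
  simp [Iso.toAut, hg] at this

end Model

/-- Simple groups of order `443520` on this graph are isomorphic. -/
theorem unique {G : Type u} {G' : Type v} [Group G] [Group G'] [Finite G] [Finite G']
    [IsSimpleGroup G] [IsSimpleGroup G'] {Ω : Type w} {Ω' : Type w'} [MulAction G Ω]
    [MulAction G' Ω'] [MulAction.IsPretransitive G Ω] [MulAction.IsPretransitive G' Ω']
    {adj : Ω → Ω → Prop} {adj' : Ω' → Ω' → Prop} (e : Iso (G := G) adj)
    (e' : Iso (G := G') adj') (hΩ : Nat.card Ω = 77) (h : Nat.card G = 443520) (h' : Nat.card G' = 443520) :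
    Nonempty (G ≃* G') := by
  let f := MonoidHom.ofInjective e.toAut_injective
  let f' := MonoidHom.ofInjective e'.toAut_injective
  haveI : Nontrivial e.toAut.range := f.toEquiv.symm.nontrivial
  haveI : Nontrivial e'.toAut.range := f'.toEquiv.symm.nontrivial
  haveI : IsSimpleGroup e.toAut.range :=
    IsSimpleGroup.isSimpleGroup_of_surjective f.toMonoidHom f.surjective
  haveI : IsSimpleGroup e'.toAut.range :=
    IsSimpleGroup.isSimpleGroup_of_surjective f'.toMonoidHom f'.surjective
  have hc : Nat.card e.toAut.range = 443520 := (Nat.card_congr f.toEquiv.symm).trans h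
  have hc' : Nat.card e'.toAut.range = 443520 := (Nat.card_congr f'.toEquiv.symm).trans h'
  have heq : e.toAut.range = e'.toAut.range := eq_of_simple (P := ⊤) le_top le_top
    (hc.trans hc'.symm) (by rw [hc, Subgroup.card_top]; exact (card_autGroup ((Nat.card_congr e.equiv.symm).trans hΩ)).trans (by norm_num))
    (by rw [hc]; norm_num)
  exact ⟨f.trans ((MulEquiv.subgroupCongr heq).trans f'.symm)⟩

end Cfsg.Agent.Lib.RecogM22.Graph
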