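import Cfsg.Agent.Lib.RecogM22.Adjacency
import Cfsg.Agent.Lib.RecogM22.Graph

/-!
The lines through an element of `E` fill a subgroup of order `8`: they are the totally isotropic
lines of an alternating form, and the action of degree `77` is the one on the model graph
(`exists_iso`).

Owner: helper41.
-/

set_option autoImplicit false
set_option linter.style.haveILetI false
set_option linter.unusedSectionVars false

universe u w

namespace Cfsg.Agent.Lib.RecogM22.Max77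

open MulAction Subgroup
open Graph (form add Vtx Blk IsBlock)

variable {G : Type u} [Group G] [Finite G] {Ω : Type w} [MulAction G Ω] [Finite Ω]
  (D : Max77 G Ω)

theorem card_coe_sub (H : Subgroup G) : (H : Set G).ncard = Nat.card H :=
  (Nat.card_coe_set_eq _).symm

theorem card_sup_mul_card_inf {H K : Subgroup G} (h : H ≤ normalizer (K : Set G)) :
    Nat.card ↥(H ⊔ K) * Nat.card ↥(H ⊓ K) = Nat.card H * Nat.card K := by
  haveI : (K.subgroupOf (H ⊔ K)).Normal := Subgroup.normal_subgroupOf_of_le_normalizer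
    (sup_le h le_normalizer)
  have hmul : ∀ {A B : Subgroup G}, A ≤ B → Nat.card A * A.relIndex B = Nat.card B := fun {A B} hAB => by
    rw [← Nat.card_congr (Subgroup.subgroupOfEquivOfLe hAB).toEquiv]
    exact Subgroup.card_mul_index _
  have h1 := Subgroup.relIndex_sup_right (H.subgroupOf (H ⊔ K)) (K.subgroupOf (H ⊔ K))
  rw [← Subgroup.subgroupOf_sup le_sup_left le_sup_right, Subgroup.relIndex_subgroupOf le_rfl,
    Subgroup.relIndex_subgroupOf le_sup_left] at h1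
  rw [← hmul (le_sup_right : K ≤ H ⊔ K), h1, ← hmul (inf_le_left : H ⊓ K ≤ H),
    Subgroup.inf_relIndex_left]
  ring

/-- `s` and `t` are orthogonal. -/
def Orth (s t : G) : Prop := s = 1 ∨ t = 1 ∨ s = t ∨ ∃ u, D.Far u ∧ s ∈ D.ES u ∧ t ∈ D.ES u

theorem Orth.symm {s t : G} (h : D.Orth s t) : D.Orth t s := by
  rcases h with h | h | h | ⟨u, hu, h1, h2⟩
  exacts [Or.inr (Or.inl h), Or.inl h, Or.inr (Or.inr (Or.inl h.symm)),
    Or.inr (Or.inr (Or.inr ⟨u, hu, h2, h1⟩))]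

theorem ES_sdiff_eq {v u : Ω} (hv : D.Far v) (hu : D.Far u) (hne : D.ES u ≠ D.ES v) {t s : G}
    (ht : t ∈ D.ES v) (ht' : t ∈ D.ES u) (ht1 : t ≠ 1) (hs : s ∈ D.ES v) (hs' : s ∈ D.ES u) :
    s = 1 ∨ s = t := by
  by_contra h
  push Not at h
  exact hne (D.subgroup_eq_of_inter hv hu ⟨ht, ht'⟩ ⟨hs, hs'⟩ ht1 h.1 h.2).symm

theorem mul_mul_mul_comm_of {a a' b b' : G} (ha' : a' ∈ D.E) (hb : b ∈ D.E) :
    a * a' * (b * b') = a * b * (a' * b') := by
  rw [mul_assoc a, ← mul_assoc a', D.comm ha' hb, mul_assoc b, ← mul_assoc a]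

theorem card_sup {v u : Ω} (hv : D.Far v) (hu : D.Far u) {t : G} (htv : t ∈ D.ES v) (htu : t ∈ D.ES u)
    (ht1 : t ≠ 1) (hne : D.ES u ≠ D.ES v) : Nat.card ↥(D.ES v ⊔ D.ES u) = 8 := by
  classical
  have hinf : Nat.card ↥(D.ES v ⊓ D.ES u) = 2 := by
    rw [← card_coe_sub, show ((D.ES v ⊓ D.ES u : Subgroup G) : Set G) = {1, t} from ?_,
      Set.ncard_pair ht1.symm]
    ext s
    refine ⟨fun hs => ?_, ?_⟩
    · rcases D.ES_sdiff_eq hv hu hne htv htu ht1 hs.1 hs.2 with h | h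
      exacts [Or.inl h, Or.inr h]
    · rintro (rfl | rfl)
      exacts [one_mem _, ⟨htv, htu⟩]
  have hnorm : D.ES v ≤ Subgroup.normalizer (D.ES u : Set G) := fun a ha =>
    Subgroup.mem_normalizer_fintype fun b hb => by
      show a * b * a⁻¹ ∈ D.ES u
      rw [D.comm ha.1 hb.1, mul_inv_cancel_right]
      exact hb
  have h := card_sup_mul_card_inf hnorm
  rw [hinf, hv.2, hu.2] at h
  omega

theorem sup_eq {u₁ u₂ u₃ : Ω} (h₁ : D.Far u₁) (h₂ : D.Far u₂) (h₃ : D.Far u₃) {t : G}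
    (ht₁ : t ∈ D.ES u₁) (ht₂ : t ∈ D.ES u₂) (ht₃ : t ∈ D.ES u₃) (ht1 : t ≠ 1)
    (h12 : D.ES u₂ ≠ D.ES u₁) (h13 : D.ES u₃ ≠ D.ES u₁) (hle : D.ES u₂ ≤ D.ES u₁ ⊔ D.ES u₃) :
    D.ES u₁ ⊔ D.ES u₃ = D.ES u₁ ⊔ D.ES u₂ := by
  refine (Subgroup.eq_of_le_of_card_ge (sup_le le_sup_left hle) ?_).symm
  rw [D.card_sup h₁ h₃ ht₁ ht₃ ht1 h13, D.card_sup h₁ h₂ ht₁ ht₂ ht1 h12]

theorem mem_three {u₁ u₂ u₃ : Ω} (h₁ : D.Far u₁) (h₂ : D.Far u₂) (h₃ : D.Far u₃) {t : G}
    (ht₁ : t ∈ D.ES u₁) (ht₂ : t ∈ D.ES u₂) (ht₃ : t ∈ D.ES u₃) (ht1 : t ≠ 1)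
    (h12 : D.ES u₂ ≠ D.ES u₁) (h13 : D.ES u₃ ≠ D.ES u₁) (h23 : D.ES u₃ ≠ D.ES u₂)
    (hle : D.ES u₃ ≤ D.ES u₁ ⊔ D.ES u₂) {s : G} (hs : s ∈ D.ES u₁ ⊔ D.ES u₂) :
    s ∈ D.ES u₁ ∨ s ∈ D.ES u₂ ∨ s ∈ D.ES u₃ := by
  classical
  have hc : ∀ {v : Ω}, D.Far v → t ∈ D.ES v → ((D.ES v : Set G) \ {1, t}).ncard = 2 := by
    intro v hv htv
    rw [Set.ncard_sdiff (Set.insert_subset (one_mem _) (Set.singleton_subset_iff.2 htv)),
      Set.ncard_pair ht1.symm, card_coe_sub, hv.2]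
  have hd : ∀ {v u : Ω}, D.Far v → D.Far u → D.ES u ≠ D.ES v → t ∈ D.ES v → t ∈ D.ES u →
      Disjoint ((D.ES v : Set G) \ {1, t}) ((D.ES u : Set G) \ {1, t}) := by
    intro v u hv hu hne htv htu
    refine Set.disjoint_left.2 fun x hx hx' => hx.2 ?_
    exact D.ES_sdiff_eq hv hu hne htv htu ht1 hx.1 hx'.1
  set X := ((D.ES u₁ : Set G) \ {1, t}) ∪ ((D.ES u₂ : Set G) \ {1, t}) ∪
    ((D.ES u₃ : Set G) \ {1, t}) ∪ {1, t}
  have hX : X.ncard = 8 := by
    rw [Set.ncard_union_eq (Set.disjoint_left.2 fun x hx hx' => by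
        rcases hx with (hx | hx) | hx <;> exact hx.2 hx'),
      Set.ncard_union_eq (Set.disjoint_union_left.2 ⟨hd h₁ h₃ h13 ht₁ ht₃, hd h₂ h₃ h23 ht₂ ht₃⟩),
      Set.ncard_union_eq (hd h₁ h₂ h12 ht₁ ht₂), hc h₁ ht₁, hc h₂ ht₂, hc h₃ ht₃,
      Set.ncard_pair ht1.symm]
  have hsub : X ⊆ ((D.ES u₁ ⊔ D.ES u₂ : Subgroup G) : Set G) := by
    rintro x (((hx | hx) | hx) | (rfl | rfl))
    exacts [mem_sup_left hx.1, mem_sup_right hx.1, hle hx.1, one_mem _, mem_sup_left ht₁]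
  have heq := Set.eq_of_subset_of_ncard_le hsub
    (by rw [hX, card_coe_sub, D.card_sup h₁ h₂ ht₁ ht₂ ht1 h12]) (Set.toFinite _)
  rcases (heq ▸ hs : s ∈ X) with ((h | h) | h) | (rfl | rfl)
  exacts [Or.inl h.1, Or.inr (Or.inl h.1), Or.inr (Or.inr h.1), Or.inl (one_mem _), Or.inl ht₁]

theorem four_le {P Q : Subgroup G} (hP : P ≤ D.E) (hQ : Q ≤ D.E) (hcP : Nat.card P = 8)
    (hcQ : Nat.card Q = 8) : 4 ≤ Nat.card ↥(P ⊓ Q) := by
  have hnorm : P ≤ Subgroup.normalizer (Q : Set G) := fun a ha =>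
    Subgroup.mem_normalizer_fintype fun b hb => by
      show a * b * a⁻¹ ∈ Q
      rw [D.comm (hP ha) (hQ hb), mul_inv_cancel_right]
      exact hb
  have h := card_sup_mul_card_inf hnorm
  have h16 := Subgroup.card_le_of_le (sup_le hP hQ)
  rw [D.card_E] at h16
  rw [hcP, hcQ] at h
  nlinarith

/-- Of three lines through `t` the third lies in the span of the other two. -/
theorem coplanar {u₁ u₂ u₃ : Ω} (h₁ : D.Far u₁) (h₂ : D.Far u₂) (h₃ : D.Far u₃) {t : G}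
    (ht₁ : t ∈ D.ES u₁) (ht₂ : t ∈ D.ES u₂) (ht₃ : t ∈ D.ES u₃) (ht1 : t ≠ 1)
    (h12 : D.ES u₂ ≠ D.ES u₁) (h13 : D.ES u₃ ≠ D.ES u₁) (h23 : D.ES u₃ ≠ D.ES u₂) :
    D.ES u₃ ≤ D.ES u₁ ⊔ D.ES u₂ := by
  by_contra hcon
  obtain ⟨c, hc, hc'⟩ := SetLike.not_le_iff_exists.1 hcon
  obtain ⟨a, ha, hanot⟩ : ∃ a ∈ D.ES u₁, a ≠ 1 ∧ a ≠ t := by
    by_contra h
    push Not at h
    have hsub : (D.ES u₁ : Set G) ⊆ {1, t} := fun x hx => by
      by_cases hx1 : x = 1
      · exact Or.inl hx1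
      · exact Or.inr (h x hx hx1)
    have h' := Set.ncard_le_ncard hsub
    rw [← Nat.card_coe_set_eq, Set.ncard_pair ht1.symm] at h'
    have : Nat.card ↥(D.ES u₁ : Set G) = 4 := h₁.2
    omega
  obtain ⟨b, hb, hbnot⟩ : ∃ b ∈ D.ES u₂, b ≠ 1 ∧ b ≠ t := by
    by_contra h
    push Not at h
    have hsub : (D.ES u₂ : Set G) ⊆ {1, t} := fun x hx => by
      by_cases hx1 : x = 1
      · exact Or.inl hx1
      · exact Or.inr (h x hx hx1)
    have h' := Set.ncard_le_ncard hsub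
    rw [← Nat.card_coe_set_eq, Set.ncard_pair ht1.symm] at h'
    have : Nat.card ↥(D.ES u₂ : Set G) = 4 := h₂.2
    omega
  have hcE : c ∈ D.E := hc.1
  have haE : a ∈ D.E := ha.1
  have hbE : b ∈ D.E := hb.1
  obtain ⟨v₁, hv₁, hW₁⟩ : ∃ v, D.Far v ∧ D.ES v = D.ES u₁ := ⟨u₁, h₁, rfl⟩
  obtain ⟨ω, hω⟩ := D.exists_mem_A h₁
  -- points on the lines with prescribed cosets
  have hpt : ∀ {u : Ω}, D.Far u → ∀ x ∈ D.E, ∃ u' ∈ D.fiber u, x • ω ∈ D.A u' := by
    intro u hu x hx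
    obtain ⟨w, hw⟩ := D.exists_mem_A hu
    obtain ⟨e, he, hew⟩ := D.exists_smul_near hw.1 (D.near_smul (D.le_stab hx) hω.1)
    refine ⟨e • u, ⟨D.far_smul (D.le_stab he) hu, D.ES_smul he u⟩, ?_⟩
    rw [D.A_smul (D.le_stab he)]
    exact ⟨w, hw, hew⟩
  obtain ⟨u, hu, huA⟩ := hpt h₂ c hcE
  obtain ⟨w, hw, hwA⟩ := hpt h₃ (a * b) (mul_mem haE hbE)
  -- disjointness from membership
  have hdis : ∀ {v v' : Ω}, D.Far v → D.Far v' → ∀ {x y : G}, x ∈ D.E → y ∈ D.E → x • ω ∈ D.A v →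
      y • ω ∈ D.A v' → x⁻¹ * y ∉ D.ES v ⊔ D.ES v' → Disjoint (D.A v) (D.A v') := by
    intro v v' hv hv' x y hx hy hxA hyA hn
    refine Set.disjoint_left.2 fun z hz hz' => hn ?_
    rw [D.A_eq hv hxA] at hz
    rw [D.A_eq hv' hyA] at hz'
    obtain ⟨p, hp, rfl⟩ := hz
    obtain ⟨q, hq, hqz⟩ := hz'
    have h1 : (p * x)⁻¹ * (q * y) = 1 := D.eq_one_of_fix_near hω.1
      (mul_mem (inv_mem (mul_mem hp.1 hx)) (mul_mem hq.1 hy))
      (by rw [mul_smul, inv_smul_eq_iff, mul_smul, mul_smul]; exact hqz)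
    have h2 : x⁻¹ * y = p * q⁻¹ := by
      have e : q * y = p * x := (inv_mul_eq_one.1 h1).symm
      rw [inv_mul_eq_iff_eq_mul, ← mul_assoc, eq_mul_inv_iff_mul_eq, D.comm hx hp.1, ← e,
        D.comm hy hq.1]
    rw [h2]
    exact mul_mem (mem_sup_left hp) (mem_sup_right (inv_mem hq))
  -- the spans
  have hswap : D.ES u₂ ≤ D.ES u₁ ⊔ D.ES u₂ := le_sup_right
  have hone : (1 : G) • ω ∈ D.A u₁ := by rw [one_smul]; exact hω
  have key : ∀ {W : Subgroup G} {z : G}, z ∈ W → t ∈ W → z ≠ 1 → z ≠ t → ∀ {v : Ω}, D.Far v →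
      z ∈ D.ES v → t ∈ D.ES v → D.ES v ≤ W := by
    intro W z hz htW hz1 hzt v hv hzv htv
    have hsub : ({1, t, z, t * z} : Set G) ⊆ (D.ES v : Set G) ∩ W := by
      rintro x (rfl | rfl | rfl | rfl)
      exacts [⟨one_mem _, one_mem _⟩, ⟨htv, htW⟩, ⟨hzv, hz⟩, ⟨mul_mem htv hzv, mul_mem htW hz⟩]
    have h4 : ({1, t, z, t * z} : Set G).ncard = 4 := by
      have h1 : t * z ≠ 1 := fun h => hzt ((eq_inv_of_mul_eq_one_right h).trans (D.inv_eq htv.1))
      have h2 : t * z ≠ t := fun h => hz1 (mul_eq_left.1 h)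
      have h3 : t * z ≠ z := fun h => ht1 (mul_eq_right.1 h)
      rw [Set.ncard_insert_of_notMem (by simp [ht1.symm, hz1.symm, h1.symm]),
        Set.ncard_insert_of_notMem (by simp [hzt.symm, h2.symm]),
        Set.ncard_insert_of_notMem (by simp [h3.symm]), Set.ncard_singleton]
    have heq : ({1, t, z, t * z} : Set G) = D.ES v := Set.eq_of_subset_of_ncard_le
      (fun x hx => (hsub hx).1) (by rw [h4, ← Nat.card_coe_set_eq]; exact hv.2.le) (Set.toFinite _)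
    intro x hx
    exact (hsub (heq ▸ hx : x ∈ ({1, t, z, t * z} : Set G))).2
  have hEu : D.ES u = D.ES u₂ := hu.2
  have hEw : D.ES w = D.ES u₃ := hw.2
  have hct : c ≠ 1 ∧ c ≠ t :=
    ⟨fun e => hc' (e ▸ one_mem _), fun e => hc' (e ▸ mem_sup_left ht₁)⟩
  have hd1 : Disjoint (D.A u₁) (D.A u) := by
    refine hdis h₁ hu.1 (one_mem _) hcE hone huA ?_
    rw [inv_one, one_mul, hEu]
    exact hc'
  have hd2 : Disjoint (D.A u₁) (D.A w) := by
    refine hdis h₁ hw.1 (one_mem _) (mul_mem haE hbE) hone hwA ?_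
    rw [inv_one, one_mul, hEw]
    intro h
    have hb' : b ∈ D.ES u₁ ⊔ D.ES u₃ := by
      have := mul_mem (inv_mem (mem_sup_left ha : a ∈ D.ES u₁ ⊔ D.ES u₃)) h
      rwa [inv_mul_cancel_left] at this
    -- then the span of the first two lines contains the third
    have hle : D.ES u₂ ≤ D.ES u₁ ⊔ D.ES u₃ := key hb' (mem_sup_left ht₁) hbnot.1 hbnot.2 h₂ hb ht₂
    exact hc' (D.sup_eq h₁ h₂ h₃ ht₁ ht₂ ht₃ ht1 h12 h13 hle ▸ mem_sup_right hc)
  have hd3 : Disjoint (D.A u) (D.A w) := by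
    refine hdis hu.1 hw.1 hcE (mul_mem haE hbE) huA hwA ?_
    rw [hEu, hEw]
    intro h
    have ha' : a ∈ D.ES u₂ ⊔ D.ES u₃ := by
      have h' : a * b ∈ D.ES u₂ ⊔ D.ES u₃ := by
        have := mul_mem (mem_sup_right hc : c ∈ D.ES u₂ ⊔ D.ES u₃) h
        rwa [mul_inv_cancel_left] at this
      have := mul_mem h' (inv_mem (mem_sup_left hb : b ∈ D.ES u₂ ⊔ D.ES u₃))
      rwa [mul_inv_cancel_right] at this
    have hle : D.ES u₁ ≤ D.ES u₂ ⊔ D.ES u₃ := key ha' (mem_sup_left ht₂) hanot.1 hanot.2 h₁ ha ht₁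
    have := D.sup_eq h₂ h₁ h₃ ht₂ ht₁ ht₃ ht1 h12.symm h23 hle
    rw [sup_comm (D.ES u₂) (D.ES u₁)] at this
    exact hc' (this ▸ mem_sup_right hc)
  have a1 := (D.adj_far_iff h₁ hu.1).2 ⟨hd1, by rw [hEu]; exact h12⟩
  have a2 := (D.adj_far_iff h₁ hw.1).2 ⟨hd2, by rw [hEw]; exact h13⟩
  have a3 := (D.adj_far_iff hu.1 hw.1).2 ⟨hd3, by rw [hEw, hEu]; exact h23⟩
  exact D.no_triangle a1 a2 a3

/-- The span of all lines through `t`. -/
theorem exists_plane {t : G} (ht : t ∈ D.E) (ht1 : t ≠ 1) :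
    ∃ P : Subgroup G, P ≤ D.E ∧ Nat.card P = 8 ∧ ∀ s, D.Orth s t ↔ s ∈ P := by
  classical
  set T := {u | D.Far u ∧ t ∈ D.ES u}
  obtain ⟨u₁, h₁⟩ := Set.nonempty_of_ncard_ne_zero (s := T) (by rw [D.ncard_fix_far ht ht1]; norm_num)
  have hs₁ : D.fiber u₁ ⊆ T := D.fiber_subset_fix h₁.2
  obtain ⟨u₂, h₂, h₂'⟩ := Set.nonempty_of_ncard_ne_zero (s := T \ D.fiber u₁)
    (by rw [Set.ncard_sdiff hs₁, D.ncard_fix_far ht ht1, D.fiber_four h₁.1]; norm_num)
  have h12 : D.ES u₂ ≠ D.ES u₁ := fun e => h₂' ⟨h₂.1, e⟩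
  refine ⟨D.ES u₁ ⊔ D.ES u₂, sup_le inf_le_left inf_le_left,
    D.card_sup h₁.1 h₂.1 h₁.2 h₂.2 ht1 h12, fun s => ⟨fun hs => ?_, fun hs => ?_⟩⟩
  · rcases hs with rfl | h | rfl | ⟨u, hu, hsu, htu⟩
    · exact one_mem _
    · exact absurd h ht1
    · exact mem_sup_left h₁.2
    · by_cases e1 : D.ES u = D.ES u₁
      · exact mem_sup_left (e1 ▸ hsu)
      by_cases e2 : D.ES u = D.ES u₂
      · exact mem_sup_right (e2 ▸ hsu)
      exact D.coplanar h₁.1 h₂.1 hu h₁.2 h₂.2 htu ht1 h12 e1 e2 hsu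
  · obtain ⟨u₃, h₃, h₃'⟩ := Set.nonempty_of_ncard_ne_zero (s := T \ (D.fiber u₁ ∪ D.fiber u₂))
      (by
        rw [Set.ncard_sdiff (Set.union_subset hs₁ (D.fiber_subset_fix h₂.2)),
          D.ncard_fix_far ht ht1, Set.ncard_union_eq (Set.disjoint_left.2 fun x hx hx' =>
            h12 (hx'.2.symm.trans hx.2)), D.fiber_four h₁.1, D.fiber_four h₂.1]
        norm_num)
    have h13 : D.ES u₃ ≠ D.ES u₁ := fun e => h₃' (Or.inl ⟨h₃.1, e⟩)
    have h23 : D.ES u₃ ≠ D.ES u₂ := fun e => h₃' (Or.inr ⟨h₃.1, e⟩)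
    have hle := D.coplanar h₁.1 h₂.1 h₃.1 h₁.2 h₂.2 h₃.2 ht1 h12 h13 h23
    rcases D.mem_three h₁.1 h₂.1 h₃.1 h₁.2 h₂.2 h₃.2 ht1 h12 h13 h23 hle hs with h | h | h
    exacts [Or.inr (Or.inr (Or.inr ⟨u₁, h₁.1, h, h₁.2⟩)), Or.inr (Or.inr (Or.inr ⟨u₂, h₂.1, h, h₂.2⟩)),
      Or.inr (Or.inr (Or.inr ⟨u₃, h₃.1, h, h₃.2⟩))]

/-- A basis: two orthogonal hyperbolic pairs. -/
theorem exists_basis : ∃ e₁ e₂ e₃ e₄ : G, e₁ ∈ D.E ∧ e₂ ∈ D.E ∧ e₃ ∈ D.E ∧ e₄ ∈ D.E ∧
    ¬ D.Orth e₁ e₂ ∧ ¬ D.Orth e₃ e₄ ∧ D.Orth e₁ e₃ ∧ D.Orth e₁ e₄ ∧ D.Orth e₂ e₃ ∧ D.Orth e₂ e₄ := by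
  classical
  obtain ⟨e₁, h₁, h₁1⟩ := D.E.bot_or_exists_ne_one.resolve_left fun h => by
    have := D.card_E
    rw [h, Subgroup.card_bot] at this
    omega
  obtain ⟨P₁, hP₁, hc₁, hiff₁⟩ := D.exists_plane h₁ h₁1
  obtain ⟨e₂, h₂, h₂'⟩ := SetLike.not_le_iff_exists.1 fun h : D.E ≤ P₁ => by
    have := Subgroup.card_le_of_le h
    rw [D.card_E, hc₁] at this
    omega
  have h₂1 : e₂ ≠ 1 := fun e => h₂' (e ▸ one_mem _)
  obtain ⟨P₂, hP₂, hc₂, hiff₂⟩ := D.exists_plane h₂ h₂1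
  set K := P₁ ⊓ P₂
  have hK : Nat.card K = 4 := by
    have hle : P₁ ⊔ P₂ ≤ D.E := sup_le hP₁ hP₂
    have h4 := D.four_le hP₁ hP₂ hc₁ hc₂
    have hd : Nat.card K ∣ 8 := hc₁ ▸ Subgroup.card_dvd_of_le inf_le_left
    have hne : Nat.card K ≠ 8 := fun h => by
      have e : K = P₁ := Subgroup.eq_of_le_of_card_ge inf_le_left (by rw [hc₁, h])
      have e' : K = P₂ := Subgroup.eq_of_le_of_card_ge inf_le_right (by rw [hc₂, h])
      exact h₂' ((e.symm.trans e') ▸ (hiff₂ e₂).1 (Or.inr (Or.inr (Or.inl rfl))))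
    have : Nat.card K ≤ 8 := Nat.le_of_dvd (by norm_num) hd
    interval_cases hv : Nat.card K <;> omega
  obtain ⟨e₃, h₃, h₃1⟩ := K.bot_or_exists_ne_one.resolve_left fun h => by
    rw [h, Subgroup.card_bot] at hK
    omega
  obtain ⟨P₃, hP₃, hc₃, hiff₃⟩ := D.exists_plane (hP₁ h₃.1) h₃1
  have hself : ∀ s, D.Orth s s := fun s => Or.inr (Or.inr (Or.inl rfl))
  obtain ⟨e₄, h₄, h₄'⟩ := SetLike.not_le_iff_exists.1 fun h : K ≤ P₃ => by
    -- then the plane of `e₃` is everything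
    have m1 : e₁ ∈ P₃ := (hiff₃ e₁).1 (Orth.symm D ((hiff₁ e₃).2 h₃.1))
    have m2 : e₂ ∈ P₃ := (hiff₃ e₂).1 (Orth.symm D ((hiff₂ e₃).2 h₃.2))
    have n1 : e₁ ∉ K := fun h => h₂' ((hiff₁ e₂).1 (Orth.symm D ((hiff₂ e₁).2 h.2)))
    have n2 : e₂ ∉ K := fun h => h₂' h.1
    have n12 : e₁ * e₂ ∉ K := fun h => h₂' (by
      have := mul_mem (inv_mem ((hiff₁ e₁).1 (hself e₁))) h.1
      rwa [inv_mul_cancel_left] at this)
    have hsub : (K : Set G) ∪ ((fun k => e₁ * k) '' K) ∪ ((fun k => e₂ * k) '' K) ⊆ P₃ := by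
      rintro x ((hx | ⟨k, hk, rfl⟩) | ⟨k, hk, rfl⟩)
      exacts [h hx, mul_mem m1 (h hk), mul_mem m2 (h hk)]
    have hcardK : (K : Set G).ncard = 4 := by rw [← Nat.card_coe_set_eq]; exact hK
    have hle := Set.ncard_le_ncard hsub (Set.toFinite _)
    rw [Set.ncard_union_eq ?_ (Set.toFinite _) (Set.toFinite _), Set.ncard_union_eq ?_ (Set.toFinite _)
      (Set.toFinite _), Set.ncard_image_of_injective _ (mul_right_injective _),
      Set.ncard_image_of_injective _ (mul_right_injective _), hcardK] at hle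
    · rw [← Nat.card_coe_set_eq] at hle
      have : Nat.card ↥(P₃ : Set G) = 8 := hc₃
      omega
    · refine Set.disjoint_left.2 ?_
      rintro x hx ⟨k, hk, rfl⟩
      exact n1 (by simpa using mul_mem hx (inv_mem hk))
    · refine Set.disjoint_left.2 ?_
      rintro x (hx | ⟨l, hl, rfl⟩) ⟨k, hk, hkx⟩
      · exact n2 (by rw [show e₂ = x * k⁻¹ by rw [← hkx]; group]; exact mul_mem hx (inv_mem hk))
      · refine n12 ?_
        have he : e₂ = e₁ * (l * k⁻¹) := by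
          rw [← mul_assoc, eq_mul_inv_iff_mul_eq]; exact hkx
        rw [he, ← mul_assoc, D.sq e₁ h₁, one_mul]
        exact mul_mem hl (inv_mem hk)
  refine ⟨e₁, e₂, e₃, e₄, h₁, h₂, hP₁ h₃.1, hP₁ h₄.1, fun h => h₂' ((hiff₁ e₂).1 (Orth.symm D h)),
    fun h => h₄' ((hiff₃ e₄).1 (Orth.symm D h)), Orth.symm D ((hiff₁ e₃).2 h₃.1),
    Orth.symm D ((hiff₁ e₄).2 h₄.1), Orth.symm D ((hiff₂ e₃).2 h₃.2),
    Orth.symm D ((hiff₂ e₄).2 h₄.2)⟩

open Classical in
/-- The form. -/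
noncomputable def φ (s t : G) : Bool := decide (¬ D.Orth s t)

theorem φ_false {s t : G} : D.φ s t = false ↔ D.Orth s t := by simp [φ]

theorem φ_symm (s t : G) : D.φ s t = D.φ t s := by
  rw [Bool.eq_iff_iff]
  simp only [φ, decide_eq_true_eq]
  exact not_congr ⟨Orth.symm D, Orth.symm D⟩

theorem φ_one_left (t : G) : D.φ 1 t = false := D.φ_false.2 (Or.inl rfl)

theorem φ_mul {a b t : G} (ha : a ∈ D.E) (hb : b ∈ D.E) (ht : t ∈ D.E) :
    D.φ (a * b) t = xor (D.φ a t) (D.φ b t) := by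
  by_cases ht1 : t = 1
  · subst ht1
    simp [φ, Orth]
  obtain ⟨P, hP, hc, hiff⟩ := D.exists_plane ht ht1
  have hidx : (P.subgroupOf D.E).index = 2 := by
    have h := (P.subgroupOf D.E).card_mul_index
    rw [Nat.card_congr (Subgroup.subgroupOfEquivOfLe hP).toEquiv, hc, D.card_E] at h
    omega
  have h := Subgroup.mul_mem_iff_of_index_two hidx (a := ⟨a, ha⟩) (b := ⟨b, hb⟩)
  simp only [Subgroup.mem_subgroupOf, MulMemClass.coe_mul] at h
  classical
  have e : ∀ s, D.φ s t = decide (s ∉ P) := fun s => by simp [φ, hiff]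
  rw [e, e, e]
  by_cases h1 : a ∈ P <;> by_cases h2 : b ∈ P <;> simp_all

/-- A power with exponent a bit. -/
def bp (e : G) (b : Bool) : G := bif b then e else 1

theorem bp_mem {H : Subgroup G} {e : G} (he : e ∈ H) (b : Bool) : bp e b ∈ H := by
  cases b
  exacts [one_mem _, he]

/-- The vector with the given coordinates. -/
def vec (e₁ e₂ e₃ e₄ : G) (x : Fin 16) : G :=
  bp e₁ (x.1.testBit 0) * bp e₂ (x.1.testBit 1) * (bp e₃ (x.1.testBit 2) * bp e₄ (x.1.testBit 3))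

include D in
/-- The vectors of `E` are coded by the model. -/
theorem exists_coord : ∃ f : Fin 16 → G, Function.Injective f ∧ (∀ x, f x ∈ D.E) ∧
    (∀ e ∈ D.E, ∃ x, f x = e) ∧ (∀ x y, f (add x y) = f x * f y) ∧
    ∀ x y, D.Orth (f x) (f y) ↔ form x y = false := by
  obtain ⟨e₁, e₂, e₃, e₄, h₁, h₂, h₃, h₄, n12, n34, o13, o14, o23, o24⟩ := D.exists_basis
  set f := vec e₁ e₂ e₃ e₄
  have hmem : ∀ x, f x ∈ D.E := fun x =>
    mul_mem (mul_mem (bp_mem h₁ _) (bp_mem h₂ _)) (mul_mem (bp_mem h₃ _) (bp_mem h₄ _))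
  have hbp : ∀ {e : G}, e ∈ D.E → ∀ b c : Bool, bp e (xor b c) = bp e b * bp e c := by
    intro e he b c
    cases b <;> cases c <;> simp [bp, D.sq e he]
  have hbit : ∀ x y : Fin 16, ∀ i : Fin 4,
      (add x y).1.testBit i.1 = xor (x.1.testBit i.1) (y.1.testBit i.1) := by decide +kernel
  have hadd : ∀ x y, f (add x y) = f x * f y := by
    intro x y
    simp only [f, vec]
    have hb' : ∀ i, i < 4 → (add x y).1.testBit i = xor (x.1.testBit i) (y.1.testBit i) :=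
      fun i hi => hbit x y ⟨i, hi⟩
    rw [hb' 0 (by norm_num), hb' 1 (by norm_num), hb' 2 (by norm_num), hb' 3 (by norm_num),
      hbp h₁, hbp h₂, hbp h₃, hbp h₄]
    have c4 : ∀ a a' b b' : G, a' ∈ D.E → b ∈ D.E → a * a' * (b * b') = a * b * (a' * b') :=
      fun a a' b b' ha' hb => by rw [mul_mul_mul_comm_of D ha' hb]
    rw [c4 _ _ _ _ (bp_mem h₁ _) (bp_mem h₂ _), c4 _ _ _ _ (bp_mem h₃ _) (bp_mem h₄ _),
      c4 _ _ _ _ (mul_mem (bp_mem h₁ _) (bp_mem h₂ _)) (mul_mem (bp_mem h₃ _) (bp_mem h₄ _))]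
  have hr : ∀ {s a b : G}, s ∈ D.E → a ∈ D.E → b ∈ D.E →
      D.φ s (a * b) = xor (D.φ s a) (D.φ s b) := fun {s a b} hs ha hb => by
    rw [D.φ_symm, D.φ_mul ha hb hs, D.φ_symm a, D.φ_symm b]
  have hφ : ∀ x y, D.φ (f x) (f y) = form x y := by
    intro x y
    have t : ∀ {s : G}, D.φ s 1 = false := fun {s} => (D.φ_symm s 1).trans (D.φ_one_left s)
    have hb : ∀ {p q : G} (b c : Bool), D.φ (bp p b) (bp q c) = (b && c && D.φ p q) := by
      intro p q b c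
      cases b <;> cases c <;> simp [bp, t, D.φ_one_left]
    have m1 := bp_mem h₁ (x.1.testBit 0)
    have m2 := bp_mem h₂ (x.1.testBit 1)
    have m3 := bp_mem h₃ (x.1.testBit 2)
    have m4 := bp_mem h₄ (x.1.testBit 3)
    have k1 := bp_mem h₁ (y.1.testBit 0)
    have k2 := bp_mem h₂ (y.1.testBit 1)
    have k3 := bp_mem h₃ (y.1.testBit 2)
    have k4 := bp_mem h₄ (y.1.testBit 3)
    have expand : ∀ {p : G}, p ∈ D.E → D.φ p (f y) =
        xor (xor (D.φ p (bp e₁ (y.1.testBit 0))) (D.φ p (bp e₂ (y.1.testBit 1))))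
          (xor (D.φ p (bp e₃ (y.1.testBit 2))) (D.φ p (bp e₄ (y.1.testBit 3)))) := fun {p} hp => by
      simp only [f, vec]
      rw [hr hp (mul_mem k1 k2) (mul_mem k3 k4), hr hp k1 k2, hr hp k3 k4]
    show D.φ (vec e₁ e₂ e₃ e₄ x) (f y) = _
    unfold vec
    rw [D.φ_mul (mul_mem m1 m2) (mul_mem m3 m4) (hmem y), D.φ_mul m1 m2 (hmem y),
      D.φ_mul m3 m4 (hmem y), expand m1, expand m2, expand m3, expand m4]
    simp only [hb]
    have v : ∀ s, D.φ s s = false := fun s => D.φ_false.2 (Or.inr (Or.inr (Or.inl rfl)))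
    have v12 : D.φ e₁ e₂ = true := by simpa [φ] using n12
    have v34 : D.φ e₃ e₄ = true := by simpa [φ] using n34
    have v13 := D.φ_false.2 o13
    have v14 := D.φ_false.2 o14
    have v23 := D.φ_false.2 o23
    have v24 := D.φ_false.2 o24
    simp only [v, v12, v34, v13, v14, v23, v24, D.φ_symm e₂ e₁, D.φ_symm e₃ e₁, D.φ_symm e₄ e₁,
      D.φ_symm e₃ e₂, D.φ_symm e₄ e₂, D.φ_symm e₄ e₃, Bool.and_false, Bool.and_true, Bool.false_xor,
      Bool.xor_false, form]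
  have hnondeg : ∀ x : Fin 16, (∀ y, form x y = false) → x = 0 := by decide +kernel
  have hzero : ∀ x y : Fin 16, add x y = 0 → x = y := by decide +kernel
  have hinj : Function.Injective f := by
    intro x y hxy
    apply hzero
    refine hnondeg _ fun z => ?_
    rw [← hφ, hadd, hxy, D.sq _ (hmem y)]
    exact D.φ_one_left _
  refine ⟨f, hinj, hmem, fun e he => ?_, hadd, fun x y => by rw [← hφ, D.φ_false]⟩
  obtain ⟨x, hx⟩ := ((Nat.bijective_iff_injective_and_card (fun x => (⟨f x, hmem x⟩ : D.E))).2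
    ⟨fun a b h => hinj (congrArg Subtype.val h), by rw [Nat.card_fin, D.card_E]⟩).2 ⟨e, he⟩
  exact ⟨x, congrArg Subtype.val hx⟩

include D in
/-- The graph is the model. -/
theorem exists_iso : Nonempty (Graph.Iso (G := G) D.adj) := by
  classical
  obtain ⟨f, hf, hfE, hfs, hadd, horth⟩ := D.exists_coord
  obtain ⟨ω, -, hω, -⟩ := D.exists_base
  let η : Fin 16 → Ω := fun x => f x • ω
  have hη : ∀ x, D.Near (η x) := fun x => D.near_smul (D.le_stab (hfE x)) hω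
  have hηinj : Function.Injective η := fun x y h => hf (inv_mul_eq_one.1
    (D.eq_one_of_fix_near hω (mul_mem (inv_mem (hfE x)) (hfE y))
      (by rw [mul_smul, ← show f x • ω = f y • ω from h, inv_smul_smul])))
  have hηsurj : ∀ z, D.Near z → ∃ x, η x = z := fun z hz => by
    obtain ⟨e, he, hez⟩ := D.exists_smul_near hω hz
    obtain ⟨x, rfl⟩ := hfs e he
    exact ⟨x, hez⟩
  let pre : Ω → Finset (Fin 16) := fun u => Finset.univ.filter fun x => η x ∈ D.A u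
  have hpre : ∀ u, η '' (pre u : Set (Fin 16)) = D.A u := fun u => by
    ext z
    constructor
    · rintro ⟨x, hx, rfl⟩
      simpa [pre] using hx
    · intro hz
      obtain ⟨x, rfl⟩ := hηsurj z hz.1
      exact ⟨x, by simpa [pre] using hz, rfl⟩
  have hcoset : ∀ {u : Ω}, D.Far u → ∀ {a b : Fin 16}, η a ∈ D.A u →
      (η b ∈ D.A u ↔ f a * f b ∈ D.ES u) := by
    intro u hu a b ha
    rw [D.A_eq hu ha]
    constructor
    · rintro ⟨e, he, hb⟩
      have h1 : (f b)⁻¹ * (e * f a) = 1 := D.eq_one_of_fix_near hω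
        (mul_mem (inv_mem (hfE b)) (mul_mem he.1 (hfE a)))
        (by rw [mul_smul, mul_smul, inv_smul_eq_iff]; exact hb)
      rw [inv_mul_eq_one.1 h1, D.comm he.1 (hfE a), ← mul_assoc, D.sq _ (hfE a), one_mul]
      exact he
    · intro he
      refine ⟨f a * f b, he, ?_⟩
      show (f a * f b) • f a • ω = f b • ω
      rw [← mul_smul, D.comm (hfE a) (hfE b), mul_assoc, D.sq _ (hfE a), mul_one]
  have hblk : ∀ {u : Ω}, D.Far u → IsBlock (pre u) := by
    intro u hu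
    refine ⟨?_, fun a ha b hb c hc => ?_⟩
    · rw [← Set.ncard_coe_finset, ← Set.ncard_image_of_injective _ hηinj, hpre, D.ncard_A hu]
    simp only [pre, Finset.mem_filter, Finset.mem_univ, true_and] at ha hb hc ⊢
    have hab := (hcoset hu ha).1 hb
    have hac := (hcoset hu ha).1 hc
    refine ⟨(hcoset hu hc).2 ?_, ?_⟩
    · rw [hadd, hadd, D.comm (hfE c) (mul_mem (mul_mem (hfE a) (hfE b)) (hfE c)), mul_assoc,
        D.sq _ (hfE c), mul_one]
      exact hab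
    · refine (horth _ _).1 (Or.inr (Or.inr (Or.inr ⟨u, hu, ?_, ?_⟩)))
      · rw [hadd]; exact hab
      · rw [hadd]; exact hac
  have hdir : ∀ {u : Ω}, D.Far u → f '' (Graph.dir (pre u) : Set (Fin 16)) = D.ES u := by
    intro u hu
    obtain ⟨z, hz⟩ := D.exists_mem_A hu
    obtain ⟨a, rfl⟩ := hηsurj z hz.1
    ext e
    constructor
    · rintro ⟨x, hx, rfl⟩
      simp only [Graph.dir, Finset.coe_image, Set.mem_image, Finset.mem_coe, Finset.mem_product] at hx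
      obtain ⟨⟨b, c⟩, ⟨hb, hc⟩, rfl⟩ := hx
      simp only [pre, Finset.mem_filter, Finset.mem_univ, true_and] at hb hc
      rw [hadd]
      exact (hcoset hu hb).1 hc
    · intro he
      obtain ⟨x, rfl⟩ := hfs e (SetLike.mem_coe.1 he).1
      have hb : η (add a x) ∈ D.A u := (hcoset hu hz).2 (by
        rw [hadd, ← mul_assoc, D.sq _ (hfE a), one_mul]; exact he)
      refine ⟨x, ?_, rfl⟩
      simp only [Graph.dir, Finset.coe_image, Set.mem_image, Finset.mem_coe, Finset.mem_product]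
      exact ⟨(a, add a x), ⟨by simpa [pre] using hz, by simpa [pre] using hb⟩,
        Graph.add_add_cancel a x⟩
  have hinj : ∀ {u v : Ω}, D.Far u → D.Far v → pre u = pre v → u = v := by
    intro u v hu hv h
    obtain ⟨z, hz⟩ := D.exists_mem_A hu
    have hW : D.ES v = D.ES u := SetLike.coe_injective (by rw [← hdir hu, ← hdir hv, h])
    exact D.A_inj hv hu hW (by rw [← hpre v, ← h, hpre u]; exact hz) hz
  -- from the model to the points
  have hsurjB : ∀ s : Blk, ∃ u, D.Far u ∧ pre u = s.1 := by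
    intro s
    obtain ⟨a, ha⟩ := Finset.card_pos.1 (show 0 < s.1.card by rw [s.2.1]; norm_num)
    obtain ⟨b, hb, c, hc, hbc⟩ := Finset.one_lt_card.1
      (show 1 < (s.1.erase a).card by rw [Finset.card_erase_of_mem ha, s.2.1]; norm_num)
    obtain ⟨hba, hb⟩ := Finset.mem_erase.1 hb
    obtain ⟨hca, hc⟩ := Finset.mem_erase.1 hc
    have h1 : f (add a b) ≠ 1 := fun e => hba (by
      rw [hadd] at e
      exact hf ((eq_inv_of_mul_eq_one_right e).trans (D.inv_eq (hfE a))))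
    have h2 : f (add a c) ≠ 1 := fun e => hca (by
      rw [hadd] at e
      exact hf ((eq_inv_of_mul_eq_one_right e).trans (D.inv_eq (hfE a))))
    have h3 : f (add a b) ≠ f (add a c) := fun e => hbc (Graph.add_injective a (hf e))
    obtain ⟨u₀, hu₀, hs, ht⟩ := (((horth _ _).2 (s.2.2 a ha b hb c hc).2).resolve_left h1
      |>.resolve_left h2 |>.resolve_left h3)
    obtain ⟨z, hz⟩ := D.exists_mem_A hu₀
    obtain ⟨e, he, hez⟩ := D.exists_smul_near hz.1 (hη a)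
    have hu : D.Far (e • u₀) := D.far_smul (D.le_stab he) hu₀
    have haA : η a ∈ D.A (e • u₀) := by
      rw [D.A_smul (D.le_stab he)]; exact ⟨z, hz, hez⟩
    rw [← D.ES_smul he u₀] at hs ht
    refine ⟨e • u₀, hu, Finset.eq_of_subset_of_card_le ?_ (by rw [s.2.1, (hblk hu).1])⟩
    intro x hx
    simp only [pre, Finset.mem_filter, Finset.mem_univ, true_and] at hx
    have hx' := (hcoset hu haA).1 hx
    have hsub : ({1, f (add a b), f (add a c), f (add a b) * f (add a c)} : Set G) ⊆ D.ES (e • u₀) := by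
      rintro y (rfl | rfl | rfl | rfl)
      exacts [one_mem _, hs, ht, mul_mem hs ht]
    have h4 : f (add a b) * f (add a c) ≠ 1 := fun h =>
      h3 ((eq_inv_of_mul_eq_one_left h).trans (D.inv_eq (hfE _)))
    have h5 : f (add a b) * f (add a c) ≠ f (add a b) := fun h => h2 (mul_eq_left.1 h)
    have h6 : f (add a b) * f (add a c) ≠ f (add a c) := fun h => h1 (mul_eq_right.1 h)
    have heq := Set.eq_of_subset_of_ncard_le hsub (by
      rw [Set.ncard_insert_of_notMem (by simp [h1.symm, h2.symm, h4.symm]),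
        Set.ncard_insert_of_notMem (by simp [h3, h5.symm]),
        Set.ncard_insert_of_notMem (by simp [h6.symm]), Set.ncard_singleton, ← Nat.card_coe_set_eq]
      exact hu.2.le) (Set.toFinite _)
    have hmem : f a * f x ∈ ({1, f (add a b), f (add a c), f (add a b) * f (add a c)} : Set G) :=
      heq ▸ hx'
    have hback : ∀ y, f a * f x = f a * f y → x = y := fun y h => hf (mul_left_cancel h)
    rcases hmem with h | h | h | h
    · rw [hback a (h.trans (D.sq _ (hfE a)).symm)]; exact ha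
    · rw [hback b (h.trans (hadd a b))]; exact hb
    · rw [hback c (h.trans (hadd a c))]; exact hc
    · rw [hback (add (add a b) c) (h.trans (by
        rw [hadd, hadd, hadd, hadd]; simp only [mul_assoc, D.comm (hfE b) (mul_mem (hfE a) (hfE c))]
        rw [D.comm (hfE c) (hfE b)]))]
      exact (s.2.2 a ha b hb c hc).1
  choose β hβ hβpre using hsurjB
  let ψ : Vtx → Ω := fun v => match v with
    | none => D.p
    | some (.inl x) => η x
    | some (.inr s) => β s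
  have hψ : Function.Bijective ψ := by
    constructor
    · rintro (_ | x | s) (_ | y | t) h
      · rfl
      · exact absurd h.symm (hη y).1
      · exact absurd h.symm (hβ t).1
      · exact absurd h (hη x).1
      · rw [hηinj h]
      · exact absurd (show D.Near (β t) by rw [← show η x = β t from h]; exact hη x) (D.far_not_near (hβ t))
      · exact absurd h (hβ s).1
      · exact absurd (show D.Near (β s) by rw [show β s = η y from h]; exact hη y) (D.far_not_near (hβ s))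
      · have : s = t := Subtype.ext (by rw [← hβpre s, ← hβpre t, show β s = β t from h])
        rw [this]
    · intro z
      by_cases hz : z = D.p
      · exact ⟨none, hz.symm⟩
      rcases D.near_or_far hz with h | h
      · obtain ⟨x, hx⟩ := hηsurj z h
        exact ⟨some (.inl x), hx⟩
      · exact ⟨some (.inr ⟨pre z, hblk h⟩), hinj (hβ _) h (hβpre _)⟩
  have hAη : ∀ s x, η x ∈ D.A (β s) ↔ x ∈ s.1 := fun s x => by
    rw [← hβpre s]; simp [pre]
  have hadj : ∀ v w, Graph.Adj v w ↔ D.adj (ψ v) (ψ w) := by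
    rintro (_ | x | s) (_ | y | t)
    · exact ⟨False.elim, D.not_adj_self _⟩
    · exact ⟨fun _ => D.adj_p.2 (hη y), fun _ => trivial⟩
    · exact ⟨False.elim, fun h => D.far_not_near (hβ t) (D.adj_p.1 h)⟩
    · exact ⟨fun _ => D.adj_symm (D.adj_p.2 (hη x)), fun _ => trivial⟩
    · exact ⟨False.elim, D.not_adj_near (hη x) (hη y)⟩
    · exact ⟨fun h => ((hAη t x).2 h).2, fun h => (hAη t x).1 ⟨hη x, h⟩⟩
    · exact ⟨False.elim, fun h => D.far_not_near (hβ s) (D.adj_p.1 (D.adj_symm h))⟩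
    · exact ⟨fun h => D.adj_symm ((hAη s y).2 h).2, fun h => (hAη s y).1 ⟨hη y, D.adj_symm h⟩⟩
    · refine Iff.trans ?_ (D.adj_far_iff (hβ s) (hβ t)).symm
      refine and_congr ?_ ?_
      · rw [← hpre (β s), ← hpre (β t), Set.disjoint_image_iff hηinj, Finset.disjoint_coe,
          hβpre, hβpre]
      · refine not_congr ⟨fun h => SetLike.coe_injective ?_, fun h => ?_⟩
        · rw [← hdir (hβ t), ← hdir (hβ s), hβpre, hβpre, h]
        · have h' : f '' (Graph.dir s.1 : Set (Fin 16)) = f '' (Graph.dir t.1 : Set (Fin 16)) := by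
            rw [← hβpre s, ← hβpre t, hdir (hβ s), hdir (hβ t), h]
          exact Finset.coe_injective ((Set.image_eq_image hf).1 h')
  exact ⟨⟨fun g x y => D.adj_smul g, (Equiv.ofBijective ψ hψ).symm, fun x y => by
    rw [hadj]
    exact Iff.of_eq (by
      show D.adj ((Equiv.ofBijective ψ hψ) _) ((Equiv.ofBijective ψ hψ) _) = _
      rw [Equiv.apply_symm_apply, Equiv.apply_symm_apply])⟩⟩

include D in
/-- Two such groups are isomorphic. -/
theorem nonempty_mulEquiv {G' : Type*} [Group G'] [Finite G'] {Ω' : Type*} [MulAction G' Ω']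
    [Finite Ω'] [IsSimpleGroup G] [IsSimpleGroup G'] (D' : Max77 G' Ω') : Nonempty (G ≃* G') := by
  obtain ⟨e⟩ := D.exists_iso
  obtain ⟨e'⟩ := D'.exists_iso
  haveI := D.pretransitive
  haveI := D'.pretransitive
  exact Graph.unique e e' D.card_Ω D.card_G D'.card_G

end Cfsg.Agent.Lib.RecogM22.Max77
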