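import Cfsg.Agent.Lib.RecogM22.LocalCore

/-!
The four-group of fixed points on the core of `C(t)`, and the subgroups above it.  If the core does not
centralise it, its centraliser in the core is elementary of order `16` with normaliser of order `5760`.

Owner: helper41.
-/

set_option autoImplicit false
set_option linter.style.haveILetI false
set_option linter.unusedSectionVars false

universe u

namespace Cfsg.Agent.Lib.RecogM22.Local

open Subgroup

variable {G : Type u} [Group G]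

/-- An elementary subgroup of order `16`, its own centraliser, with normaliser of order `5760`. -/
structure Big (E : Subgroup G) : Prop where
  card : Nat.card E = 16
  sq : ∀ e ∈ E, e * e = 1
  cent : ∀ g : G, (∀ e ∈ E, g * e = e * g) → g ∈ E
  card_normalizer : Nat.card (normalizer (E : Set G)) = 5760
  trans : ∀ a ∈ E, a ≠ 1 → ∀ b ∈ E, b ≠ 1 → ∃ m ∈ normalizer (E : Set G), m * a * m⁻¹ = b

/-- The data attached to an involution `t` and an element `x` of order three commuting with it. -/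
structure Frame (t x : G) (U P O : Subgroup G) (a : G) : Prop where
  ht : orderOf t = 2
  hx : orderOf x = 3
  comm : x * t = t * x
  cardU : Nat.card U = 4
  tU : t ∈ U
  sqU : ∀ u ∈ U, u * u = 1
  Ux : ∀ u ∈ U, u * x = x * u
  Ut : ∀ u ∈ U, u * t = t * u
  maxU : ∀ (g : G) (j : ℕ), g * x = x * g → orderOf g ∣ 2 ^ j → g ∈ U
  cardP : Nat.card P = 9
  Px : ∀ p ∈ P, p * x = x * p
  xP : x ∈ P
  aP : a ∈ P
  ax : a ∉ zpowers x
  moves : ∀ u ∈ U, u ≠ 1 → a * u * a⁻¹ ≠ u
  normU : ∀ g : G, g * x = x * g → ∀ u ∈ U, g * u * g⁻¹ ∈ U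
  core : Core t x O

variable [Finite G]

theorem exists_frame (D : LocalData G) {t x : G} (ht : orderOf t = 2) (hx : orderOf x = 3)
    (htx : x * t = t * x) : ∃ U P O a, Frame t x U P O a := by
  obtain ⟨U, P, a, h1, h2, h3, h4, h5, h6, h7, h8, h9, h10, h11, h12, h13⟩ :=
    exists_four D ht hx htx
  obtain ⟨O, hO⟩ := exists_core D ht hx htx
  exact ⟨U, P, O, a, ht, hx, htx, h1, h2, h3, h4, h13, h5, h7, fun p hp => mem_cs.1 (h6 hp), h8, h9,
    h12, h11, fun g hg => h10 g (mem_cs.2 hg), hO⟩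

theorem orbit_ncard {Q : Subgroup G} (t : G) :
    ({u : G | ∃ g ∈ Q, g * t * g⁻¹ = u}).ncard * Nat.card ↥(Q ⊓ centralizer ({t} : Set G)) =
      Nat.card Q := by
  letI : MulAction Q G :=
    { smul := fun g u => g.1 * u * g.1⁻¹
      one_smul := fun u => show (1 : G) * u * 1⁻¹ = u by simp
      mul_smul := fun g h u => show (g.1 * h.1) * u * (g.1 * h.1)⁻¹ =
        g.1 * (h.1 * u * h.1⁻¹) * g.1⁻¹ by group }
  have h := (MulAction.stabilizer Q t).card_mul_index
  rw [MulAction.index_stabilizer, mul_comm] at h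
  rw [← h]
  congr 1
  · refine congrArg Set.ncard (Set.ext fun u => ?_)
    exact ⟨fun ⟨g, hg, e⟩ => ⟨⟨g, hg⟩, e⟩, fun ⟨g, e⟩ => ⟨g, g.2, e⟩⟩
  · refine Nat.card_congr ⟨fun g => ⟨⟨g.1, g.2.1⟩, ?_⟩, fun g => ⟨g.1.1, g.1.2, ?_⟩, fun _ => rfl,
      fun _ => rfl⟩
    · exact conj_eq_self.2 (mem_cs.1 g.2.2)
    · exact mem_cs.2 (conj_eq_self.1 g.2)

variable (D : LocalData G) {t x a : G} {U P O : Subgroup G} (F : Frame t x U P O a)
include D F

theorem isPGroup_O : IsPGroup 2 O := IsPGroup.of_card (n := 6) (by rw [F.core.card]; norm_num)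

theorem x_mem : x ∈ centralizer ({t} : Set G) := mem_cs.2 F.comm

theorem commU {u v : G} (hu : u ∈ U) (hv : v ∈ U) : u * v = v * u := comm_of_sq F.sqU hu hv

theorem U_le_O : U ≤ O := by
  refine F.core.max U (fun u hu => mem_cs.2 (F.Ut u hu)) (fun u => ⟨1, Subtype.ext ?_⟩) fun u hu =>
    F.normU x rfl u hu
  rw [pow_one, SubgroupClass.coe_pow, pow_two]
  exact F.sqU u u.2

theorem x_conj : ∀ o ∈ O, x * o * x⁻¹ ∈ O := F.core.norm x (x_mem D F)

theorem inf_cent_eq_U {Q : Subgroup G} (hQ : Q ≤ O) (hUQ : U ≤ Q) :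
    Q ⊓ centralizer (zpowers x : Set G) = U := by
  refine le_antisymm (fun q hq => ?_) fun u hu => ⟨hUQ hu, ?_⟩
  · obtain ⟨hqQ, hqx⟩ := hq
    obtain ⟨j, hj⟩ := isPGroup_O D F ⟨q, hQ hqQ⟩
    refine F.maxU q j ?_ (orderOf_dvd_of_pow_eq_one (congrArg Subtype.val hj))
    rw [SetLike.mem_coe, centralizer_zpowers'] at hqx
    exact mem_cs.1 hqx
  · rw [SetLike.mem_coe, centralizer_zpowers']
    exact mem_cs.2 (F.Ux u hu)

/-- The orders of the subgroups of the core above `U` normalised by `x`. -/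
theorem card_between {Q : Subgroup G} (hQ : Q ≤ O) (hUQ : U ≤ Q) (hx : ∀ q ∈ Q, x * q * x⁻¹ ∈ Q) :
    Nat.card Q = 4 ∨ Nat.card Q = 16 ∨ Nat.card Q = 64 := by
  haveI : Fact (Nat.Prime 3) := ⟨Nat.prime_three⟩
  have hmod := card_modEq (isPGroup_three F.hx) (conj_zpowers hx)
  rw [inf_cent_eq_U D F hQ hUQ, F.cardU] at hmod
  have hd := Nat.mem_divisors.2 ⟨F.core.card ▸ card_dvd_of_le hQ, (by norm_num : (64 : ℕ) ≠ 0)⟩
  have h4 := Nat.le_of_dvd Nat.card_pos (F.cardU ▸ card_dvd_of_le hUQ)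
  rw [show Nat.divisors 64 = {1, 2, 4, 8, 16, 32, 64} by decide +kernel] at hd
  simp only [Finset.mem_insert, Finset.mem_singleton] at hd
  rcases hd with h | h | h | h | h | h | h <;> rw [h] at hmod h4 ⊢ <;>
    simp [Nat.ModEq] at hmod h4 ⊢

theorem mem_normalizer_of_conj {Q : Subgroup G} {g : G} (h : ∀ q ∈ Q, g * q * g⁻¹ ∈ Q) :
    g ∈ normalizer (Q : Set G) := mem_normalizer_fintype h

theorem lt_normalizer_inf {Q : Subgroup G} (hQ : Q ≤ O) (hne : Q ≠ O) :
    Q < O ⊓ normalizer (Q : Set G) := by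
  haveI : Fact (Nat.Prime 2) := ⟨Nat.prime_two⟩
  haveI := (isPGroup_O D F).isNilpotent
  have h := (Group.normalizerCondition_of_isNilpotent (G := O)) (Q.subgroupOf O)
    (lt_top_iff_ne_top.2 fun h => hne (le_antisymm hQ (subgroupOf_eq_top.1 h)))
  obtain ⟨hle, ⟨g, hgN, hgQ⟩⟩ := lt_iff_le_and_ne.1 h |>.imp id fun hne' =>
    SetLike.not_le_iff_exists.1 fun h' => hne' (le_antisymm (le_normalizer) h')
  refine lt_of_le_of_ne (le_inf hQ le_normalizer) fun e => hgQ (mem_subgroupOf.2 ?_)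
  rw [e]
  refine ⟨g.2, mem_normalizer_of_conj D F fun q hq => ?_⟩
  exact mem_subgroupOf.1 ((mem_normalizer_iff.1 hgN ⟨q, hQ hq⟩).1 (mem_subgroupOf.2 hq))

/-- A subgroup of order `16` above `U` normalised by `x` is normal in the core. -/
theorem O_normalizes {Q : Subgroup G} (hQ : Q ≤ O) (hUQ : U ≤ Q) (hx : ∀ q ∈ Q, x * q * x⁻¹ ∈ Q)
    (h16 : Nat.card Q = 16) : O ≤ normalizer (Q : Set G) := by
  have hlt := lt_normalizer_inf D F hQ fun e => by rw [e, F.core.card] at h16; omega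
  have hxN : x ∈ normalizer (Q : Set G) := mem_normalizer_of_conj D F hx
  have hc := card_between D F (Q := O ⊓ normalizer (Q : Set G)) inf_le_left (hUQ.trans hlt.le)
    fun q hq => ⟨x_conj D F q hq.1, Subgroup.mul_mem _ (Subgroup.mul_mem _ hxN hq.2) (Subgroup.inv_mem _ hxN)⟩
  have h64 : Nat.card ↥(O ⊓ normalizer (Q : Set G)) = 64 := by
    have := Set.ncard_lt_ncard (s := (Q : Set G)) hlt (Set.toFinite _)
    rw [← Nat.card_coe_set_eq, ← Nat.card_coe_set_eq] at this
    change Nat.card Q < Nat.card ↥(O ⊓ normalizer (Q : Set G)) at this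
    omega
  exact inf_eq_left.1 (eq_of_le_of_card_ge inf_le_left (by rw [h64, F.core.card]))

/-- A subgroup of the core normalising `U` has at most twice the order of its centraliser of `U`. -/
theorem card_le_two_mul {Q : Subgroup G} (hQ : Q ≤ O) (hn : ∀ q ∈ Q, ∀ u ∈ U, q * u * q⁻¹ ∈ U) :
    Nat.card Q ≤ 2 * Nat.card ↥(Q ⊓ centralizer (U : Set G)) := by
  obtain ⟨u, hu, hu1, hut⟩ : ∃ u ∈ U, u ≠ 1 ∧ u ≠ t := by
    by_contra h
    push Not at h
    have hsub : (U : Set G) ⊆ {1, t} := fun v hv => by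
      by_cases hv1 : v = 1
      · exact Or.inl hv1
      · exact Or.inr (h v hv hv1)
    have h1 := Set.ncard_le_ncard hsub (Set.toFinite _)
    rw [← Nat.card_coe_set_eq] at h1
    have h2 := Set.ncard_insert_le (1 : G) {t}
    rw [Set.ncard_singleton] at h2
    have : Nat.card ↥(U : Set G) = 4 := F.cardU
    omega
  have ht1 : t ≠ 1 := fun e => by have := F.ht; rw [e, orderOf_one] at this; omega
  have hqt : ∀ q ∈ Q, q * t = t * q := fun q hq => mem_cs.1 (F.core.le (hQ hq))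
  set S := {v : G | ∃ g ∈ Q, g * u * g⁻¹ = v}
  have hS : S ⊆ {u, t * u} := by
    rintro _ ⟨g, hg, rfl⟩
    rcases four_eq F.cardU F.tU hu ht1 hu1 hut (hn g hg u hu) (F.sqU t F.tU) with h | h | h | h
    · exact absurd (conj_eq_one_iff.1 h) hu1
    · refine absurd ?_ hut
      calc u = g⁻¹ * (g * u * g⁻¹) * g := by group
        _ = t := by rw [h, mul_assoc, ← hqt g hg, inv_mul_cancel_left]
    · exact Or.inl h
    · exact Or.inr h
  have h2 : S.ncard ≤ 2 := by
    refine (Set.ncard_le_ncard hS (Set.toFinite _)).trans ?_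
    exact (Set.ncard_insert_le _ _).trans (by rw [Set.ncard_singleton])
  have hle : Q ⊓ centralizer ({u} : Set G) ≤ Q ⊓ centralizer (U : Set G) := fun g hg =>
    ⟨hg.1, mem_centralizer_iff.2 fun v hv => by
      have h1 : g * u = u * g := mem_cs.1 hg.2
      have h2 := hqt g hg.1
      rcases four_eq F.cardU F.tU hu ht1 hu1 hut hv (F.sqU t F.tU) with rfl | rfl | rfl | rfl
      · rw [one_mul, mul_one]
      · exact h2.symm
      · exact h1.symm
      · rw [mul_assoc, ← h1, ← mul_assoc, ← h2, mul_assoc]⟩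
  rw [← orbit_ncard (Q := Q) u]
  exact Nat.mul_le_mul h2 (Nat.le_of_dvd Nat.card_pos (card_dvd_of_le hle))

theorem inf_cent_conj : ∀ q ∈ O ⊓ centralizer (U : Set G), x * q * x⁻¹ ∈ O ⊓ centralizer (U : Set G) :=
  fun q hq => ⟨x_conj D F q hq.1, mem_centralizer_iff.2 fun u hu => by
    have hxu := F.Ux u hu
    rw [show u * (x * q * x⁻¹) = x * (u * q) * x⁻¹ by rw [← mul_assoc, ← mul_assoc, hxu]; group,
      mem_centralizer_iff.1 hq.2 u hu,
      show x * q * x⁻¹ * u = x * q * (x⁻¹ * u) by group,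
      show x⁻¹ * u = u * x⁻¹ by rw [eq_mul_inv_iff_mul_eq, mul_assoc, hxu, inv_mul_cancel_left]]
    group⟩

theorem U_le_cent : U ≤ O ⊓ centralizer (U : Set G) := fun u hu =>
  ⟨U_le_O D F hu, mem_centralizer_iff.2 fun v hv => commU D F hv hu⟩

/-- The core centralises `U` or a subgroup of order `16` does. -/
theorem card_cent : Nat.card ↥(O ⊓ centralizer (U : Set G)) = 16 ∨
    Nat.card ↥(O ⊓ centralizer (U : Set G)) = 64 := by
  refine (card_between D F inf_le_left (U_le_cent D F) (inf_cent_conj D F)).resolve_left fun h4 => ?_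
  have hlt := lt_normalizer_inf D F (U_le_O D F) fun e => by
    have := F.cardU; rw [e, F.core.card] at this; omega
  have hxN : x ∈ normalizer (U : Set G) := mem_normalizer_of_conj D F fun u hu => F.normU x rfl u hu
  set N := O ⊓ normalizer (U : Set G)
  have hN := card_between D F (Q := N) inf_le_left hlt.le
    fun q hq => ⟨x_conj D F q hq.1, Subgroup.mul_mem _ (Subgroup.mul_mem _ hxN hq.2) (Subgroup.inv_mem _ hxN)⟩
  have h := card_le_two_mul D F (Q := N) inf_le_left fun q hq u hu =>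
    (mem_normalizer_iff.1 hq.2 u).1 hu
  have h' := Nat.le_of_dvd Nat.card_pos (card_dvd_of_le
    (inf_le_inf_right (centralizer (U : Set G)) (inf_le_left : N ≤ O)))
  rw [h4] at h'
  change Nat.card ↥(N ⊓ centralizer (U : Set G)) ≤ 4 at h'
  have := Set.ncard_lt_ncard (s := (U : Set G)) hlt (Set.toFinite _)
  rw [← Nat.card_coe_set_eq, ← Nat.card_coe_set_eq] at this
  change Nat.card U < Nat.card N at this
  rw [F.cardU] at this
  omega

/-- An elementary subgroup is moved into the core by an element commuting with `x`. -/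
theorem conj_le_O {Q : Subgroup G} (hQ : IsPGroup 2 Q) {g : G} (hg : g * x = x * g)
    (hQx : ∀ q ∈ Q, x * q * x⁻¹ ∈ Q) (hQt : ∀ q ∈ Q, g * q * g⁻¹ * t = t * (g * q * g⁻¹)) :
    ∀ q ∈ Q, g * q * g⁻¹ ∈ O := by
  have hle : Q.map (MulAut.conj g).toMonoidHom ≤ O := by
    refine F.core.max _ ?_ (hQ.map _) ?_
    · rintro _ ⟨q, hq, rfl⟩
      exact mem_cs.2 (hQt q hq)
    · rintro _ ⟨q, hq, rfl⟩
      refine ⟨x * q * x⁻¹, hQx q hq, ?_⟩
      show g * (x * q * x⁻¹) * g⁻¹ = x * (g * q * g⁻¹) * x⁻¹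
      rw [show g * (x * q * x⁻¹) * g⁻¹ = (g * x) * q * (g * x)⁻¹ by group, hg]
      group
  exact fun q hq => hle ⟨q, hq, rfl⟩

theorem cent_eq {E : Subgroup G} (hEO : E ≤ O) (hE : 4 < Nat.card E) {h : G} (hh : orderOf h = 3)
    (hht : h * t = t * h) : ¬ ∀ e ∈ E, h * e = e * h := by
  intro hcomm
  obtain ⟨U', P', O', a', F'⟩ := exists_frame D F.ht hh hht
  have hO : O ≤ O' := F'.core.max O F.core.le (isPGroup_O D F) (F.core.norm h (mem_cs.2 hht))
  have : E ≤ U' := by
    intro e he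
    rw [← inf_cent_eq_U D F' (Q := O') le_rfl (U_le_O D F')]
    refine ⟨hO (hEO he), ?_⟩
    rw [SetLike.mem_coe, centralizer_zpowers']
    exact mem_cs.2 (hcomm e he).symm
  have := Nat.le_of_dvd Nat.card_pos (card_dvd_of_le this)
  rw [F'.cardU] at this
  omega

theorem isPGroup_two_of_dvd {H : Subgroup G} (hd : Nat.card H ∣ 384) (h3 : ¬ 3 ∣ Nat.card H) :
    IsPGroup 2 H := by
  have h128 : Nat.card H ∣ 2 ^ 7 := ((Nat.prime_three.coprime_iff_not_dvd.2 h3).symm).dvd_of_dvd_mul_right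
    (show Nat.card H ∣ 2 ^ 7 * 3 by simpa using hd)
  obtain ⟨n, -, hn⟩ := (Nat.dvd_prime_pow Nat.prime_two).1 h128
  exact IsPGroup.of_card hn

/-- The centraliser of an elementary subgroup above `U` in the core lies in the core. -/
theorem centralizer_le_O {E : Subgroup G} (hEO : E ≤ O) (hE : 4 < Nat.card E) (htE : t ∈ E)
    (hEx : ∀ e ∈ E, x * e * x⁻¹ ∈ E) : centralizer (E : Set G) ≤ O := by
  haveI : Fact (Nat.Prime 3) := ⟨Nat.prime_three⟩
  set H := centralizer (E : Set G)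
  have hHC : H ≤ centralizer ({t} : Set G) := fun g hg =>
    mem_cs.2 (mem_centralizer_iff.1 hg t htE).symm
  refine F.core.max H hHC (isPGroup_two_of_dvd D F (D.centT t F.ht ▸ card_dvd_of_le hHC) fun h3 => ?_) ?_
  · obtain ⟨⟨h, hh⟩, ho⟩ := exists_prime_orderOf_dvd_card' (G := H) 3 h3
    rw [orderOf_mk] at ho
    exact cent_eq D F hEO hE ho (mem_cs.1 (hHC hh)) fun e he => (mem_centralizer_iff.1 hh e he).symm
  · intro q hq
    refine mem_centralizer_iff.2 fun e he => ?_
    have hxn : x ∈ normalizer (E : Set G) := mem_normalizer_of_conj D F hEx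
    have he' : x⁻¹ * e * x ∈ E := by simpa using (mem_normalizer_iff.1 (inv_mem hxn) e).1 he
    calc e * (x * q * x⁻¹) = x * ((x⁻¹ * e * x) * q) * x⁻¹ := by group
      _ = x * (q * (x⁻¹ * e * x)) * x⁻¹ := by rw [mem_centralizer_iff.1 hq _ he']
      _ = x * q * x⁻¹ * e := by group

/-- `C(t)` normalises a subgroup normalised by the core, by `x` and by an inverter. -/
theorem C_le {N : Subgroup G} (hO : O ≤ N) (hx : x ∈ N) {z : G} (hz : z ∈ centralizer ({t} : Set G))
    (hzx : z * x * z⁻¹ = x⁻¹) (hzN : z ∈ N) : centralizer ({t} : Set G) ≤ N := by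
  classical
  set C := centralizer ({t} : Set G)
  set M := C ⊓ N
  have hOM : O ≤ M := le_inf F.core.le hO
  have hxM : x ∈ M := ⟨x_mem D F, hx⟩
  have hzM : z ∈ M := ⟨hz, hzN⟩
  have hd : Nat.card M ∣ 384 := D.centT t F.ht ▸ card_dvd_of_le inf_le_left
  have h192 : 192 ∣ Nat.card M := by
    rw [show (192 : ℕ) = 64 * 3 by norm_num]
    exact (show Nat.Coprime 64 3 by norm_num).mul_dvd_of_dvd_of_dvd
      (F.core.card ▸ card_dvd_of_le hOM) (F.hx ▸ orderOf_dvd_natCard M hxM)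
  suffices h : Nat.card M ≠ 192 by
    have : Nat.card M = 384 := by
      obtain ⟨k, hk⟩ := h192
      rw [hk] at hd h ⊢
      have := Nat.le_of_dvd (by norm_num) hd
      have hk0 : k ≠ 0 := fun e => by rw [e] at hd; norm_num at hd
      omega
    exact inf_eq_left.1 (eq_of_le_of_card_ge inf_le_left (by rw [this, D.centT t F.ht]))
  intro h
  set J := O.subgroupOf M
  haveI : J.Normal := ⟨fun o ho m => mem_subgroupOf.2
    (F.core.norm m m.2.1 o (mem_subgroupOf.1 ho))⟩
  have hq : Nat.card (M ⧸ J) = 3 := by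
    have h' := J.card_mul_index
    rw [Nat.card_congr (subgroupOfEquivOfLe hOM).toEquiv, F.core.card, h] at h'
    change 64 * Nat.card (M ⧸ J) = 192 at h'
    omega
  haveI : Fact (Nat.Prime 3) := ⟨Nat.prime_three⟩
  haveI : IsCyclic (M ⧸ J) := isCyclic_of_prime_card hq
  obtain ⟨g, hg⟩ := IsCyclic.exists_generator (α := M ⧸ J)
  have habel : ∀ a b : M ⧸ J, a * b = b * a := fun a b => by
    obtain ⟨i, rfl⟩ := mem_zpowers_iff.1 (hg a)
    obtain ⟨j, rfl⟩ := mem_zpowers_iff.1 (hg b)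
    exact zpow_mul_comm g i j
  set x' : M := ⟨x, hxM⟩
  set z' : M := ⟨z, hzM⟩
  have h1 : ((z' * x' * z'⁻¹ : M) : M ⧸ J) = ((x'⁻¹ : M) : M ⧸ J) := congrArg _ (Subtype.ext hzx)
  rw [QuotientGroup.mk_mul, QuotientGroup.mk_mul, QuotientGroup.mk_inv, QuotientGroup.mk_inv,
    habel (z' : M ⧸ J), mul_inv_cancel_right] at h1
  have h2 : x * x ∈ O := mem_subgroupOf.1 ((QuotientGroup.eq_one_iff (x' * x')).1 (by
    rw [QuotientGroup.mk_mul]; exact mul_eq_one_iff_eq_inv.2 h1))
  have h3 := orderOf_dvd_natCard O h2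
  rw [F.core.card, ← pow_two, orderOf_pow, F.hx] at h3
  norm_num at h3

/-- The orbit of `t` under the normaliser of `E` is everything. -/
theorem trans_of_card {E : Subgroup G} (hE : Nat.card E = 16) (htE : t ∈ E)
    (hk : 15 ≤ {u : G | ∃ g ∈ normalizer (E : Set G), g * t * g⁻¹ = u}.ncard) :
    ∀ a ∈ E, a ≠ 1 → ∀ b ∈ E, b ≠ 1 → ∃ m ∈ normalizer (E : Set G), m * a * m⁻¹ = b := by
  have hS : {u : G | ∃ g ∈ normalizer (E : Set G), g * t * g⁻¹ = u} = (E : Set G) \ {1} := by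
    refine Set.eq_of_subset_of_ncard_le ?_ ?_ (Set.toFinite _)
    · rintro _ ⟨g, hg, rfl⟩
      refine ⟨(mem_normalizer_iff.1 hg t).1 htE, fun h => ?_⟩
      have := F.ht
      rw [conj_eq_one_iff.1 (Set.mem_singleton_iff.1 h), orderOf_one] at this
      omega
    · rw [Set.ncard_sdiff (Set.singleton_subset_iff.2 (one_mem E)), ← Nat.card_coe_set_eq,
        Set.ncard_singleton]
      exact (le_of_eq (by rw [show Nat.card ↥(E : Set G) = 16 from hE])).trans hk
  intro a ha ha1 b hb hb1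
  obtain ⟨g, hg, hga⟩ : a ∈ {u : G | ∃ g ∈ normalizer (E : Set G), g * t * g⁻¹ = u} := by
    rw [hS]; exact ⟨ha, ha1⟩
  obtain ⟨g', hg', hgb⟩ : b ∈ {u : G | ∃ g ∈ normalizer (E : Set G), g * t * g⁻¹ = u} := by
    rw [hS]; exact ⟨hb, hb1⟩
  refine ⟨g' * g⁻¹, mul_mem hg' (inv_mem hg), ?_⟩
  rw [← hga, ← hgb]
  group

/-- The first case: a subgroup of order `16` centralises `U`. -/
theorem big_of_sixteen (h16 : Nat.card ↥(O ⊓ centralizer (U : Set G)) = 16) :
    Big (O ⊓ centralizer (U : Set G)) := by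
  classical
  haveI : Fact (Nat.Prime 2) := ⟨Nat.prime_two⟩
  set E := O ⊓ centralizer (U : Set G)
  have hUE := U_le_cent D F
  have hEx := inf_cent_conj D F
  have hcommU : ∀ e ∈ E, ∀ u ∈ U, u * e = e * u := fun e he => mem_centralizer_iff.1 he.2
  -- elements commuting with `x` normalise `E`
  have hnorm : ∀ g : G, g * x = x * g → ∀ e ∈ E, g * e * g⁻¹ ∈ E := by
    intro g hg e he
    have hgU : ∀ u ∈ U, g * u * g⁻¹ ∈ U := F.normU g hg
    have hback : ∀ u ∈ U, g⁻¹ * u * g ∈ U := fun u hu => by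
      simpa using (mem_normalizer_iff.1 (inv_mem (mem_normalizer_of_conj D F hgU)) u).1 hu
    have key : ∀ e ∈ E, ∀ u ∈ U, u * (g * e * g⁻¹) = g * e * g⁻¹ * u := fun e he u hu => by
      calc u * (g * e * g⁻¹) = g * ((g⁻¹ * u * g) * e) * g⁻¹ := by group
        _ = g * (e * (g⁻¹ * u * g)) * g⁻¹ := by rw [hcommU e he _ (hback u hu)]
        _ = g * e * g⁻¹ * u := by group
    exact ⟨conj_le_O D F ((isPGroup_O D F).to_le inf_le_left) hg hEx
      (fun q hq => (key q hq t F.tU).symm) e he, mem_centralizer_iff.2 (key e he)⟩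
  -- squares
  obtain ⟨w, hw, hwU⟩ := SetLike.not_le_iff_exists.1 fun h : E ≤ U => by
    have := Nat.le_of_dvd Nat.card_pos (card_dvd_of_le h)
    rw [h16, F.cardU] at this
    omega
  obtain ⟨e, he, heU, he2⟩ : ∃ e ∈ E, e ∉ U ∧ e * e ∈ U := by
    by_cases h : w * w ∈ U
    · exact ⟨w, hw, hwU, h⟩
    refine ⟨w * w, mul_mem hw hw, h, ?_⟩
    haveI : (U.subgroupOf E).Normal := ⟨fun u hu g => mem_subgroupOf.2 (by
      rw [coe_mul, coe_mul, coe_inv, ← hcommU g g.2 u (mem_subgroupOf.1 hu), mul_inv_cancel_right]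
      exact mem_subgroupOf.1 hu)⟩
    have hq : Nat.card (E ⧸ U.subgroupOf E) = 4 := by
      have h' := (U.subgroupOf E).card_mul_index
      rw [Nat.card_congr (subgroupOfEquivOfLe hUE).toEquiv, F.cardU, h16] at h'
      change 4 * Nat.card (E ⧸ U.subgroupOf E) = 16 at h'
      omega
    have h4 : (((⟨w, hw⟩ : E) ^ 4 : E) : E ⧸ U.subgroupOf E) = 1 := by
      rw [QuotientGroup.mk_pow, ← hq, pow_card_eq_one']
    have h5 := mem_subgroupOf.1 ((QuotientGroup.eq_one_iff _).1 h4)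
    simp only [SubgroupClass.coe_pow] at h5
    rwa [show w * w * (w * w) = w ^ 4 by simp [pow_succ, mul_assoc]]
  set q := e * e
  let f := fun i : Fin 3 => x ^ i.1 * e * (x ^ i.1)⁻¹
  have hpowN : ∀ i : ℕ, x ^ i ∈ normalizer (E : Set G) := fun i =>
    pow_mem (mem_normalizer_of_conj D F hEx) i
  have hfE : ∀ i, f i ∈ E := fun i => (mem_normalizer_iff.1 (hpowN i.1) e).1 he
  have hpowU : ∀ (i : ℕ) u, u ∈ U → x ^ i * u * (x ^ i)⁻¹ = u := fun i u hu =>
    conj_eq_self.2 ((show Commute x u from (F.Ux u hu).symm).pow_left i).eq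
  have hfix : ∀ y ∈ E, y⁻¹ * (x * y * x⁻¹) ∈ U → y ∈ U := by
    intro y hy hyU
    obtain ⟨u, hu⟩ : ∃ u, u = y⁻¹ * (x * y * x⁻¹) := ⟨_, rfl⟩
    rw [← hu] at hyU
    have hstep : x * y * x⁻¹ = y * u := by rw [hu]; group
    have h2 : x ^ 2 * y * (x ^ 2)⁻¹ = y * u * u := by
      calc x ^ 2 * y * (x ^ 2)⁻¹ = x * (x * y * x⁻¹) * x⁻¹ := by rw [pow_two]; group
        _ = x * (y * u) * x⁻¹ := by rw [hstep]
        _ = (x * y * x⁻¹) * (x * u * x⁻¹) := by group
        _ = y * u * u := by rw [hstep, conj_eq_self.2 (F.Ux u hyU).symm]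
    rw [mul_assoc y u u, F.sqU u hyU, mul_one] at h2
    have h3 : x * y * x⁻¹ = y := by
      calc x * y * x⁻¹ = x * (x ^ 2 * y * (x ^ 2)⁻¹) * x⁻¹ := by rw [h2]
        _ = x ^ 3 * y * (x ^ 3)⁻¹ := by rw [pow_two, pow_succ, pow_two]; group
        _ = y := by rw [← F.hx, pow_orderOf_eq_one]; group
    rw [← inf_cent_eq_U D F (Q := E) inf_le_left hUE]
    refine ⟨hy, ?_⟩
    rw [SetLike.mem_coe, centralizer_zpowers']
    exact mem_cs.2 (conj_eq_self.1 h3).symm
  have hsqall : ∀ y ∈ E, y ∉ U → y * y = q := by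
    intro y hy hyU
    -- the four cosets of `U`
    have hfU : ∀ i, f i ∉ U := fun i h => heU (by
      have := hpowU i.1 _ h
      have h' : (x ^ i.1)⁻¹ * f i * x ^ i.1 = e := by simp only [f]; group
      rw [← h']
      have hx' : (x ^ i.1)⁻¹ * f i * x ^ i.1 = f i := by
        nth_rewrite 1 [← this]
        group
      rw [hx']; exact h)
    have hdiff : ∀ i j, i ≠ j → (f i)⁻¹ * f j ∉ U := by
      have h01 : ∀ i : ℕ, (x ^ i * e * (x ^ i)⁻¹)⁻¹ * (x ^ (i + 1) * e * (x ^ (i + 1))⁻¹) ∉ U := by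
        intro i h
        have hmem := (mem_normalizer_iff.1 (hpowN i) e).1 he
        have := hfix _ hmem (by
          rwa [show x * (x ^ i * e * (x ^ i)⁻¹) * x⁻¹ = x ^ (i + 1) * e * (x ^ (i + 1))⁻¹ by
            rw [pow_succ']; group])
        have h' := hpowU i _ this
        apply heU
        have e' : e = x ^ i * e * (x ^ i)⁻¹ := by
          calc e = (x ^ i)⁻¹ * (x ^ i * e * (x ^ i)⁻¹) * x ^ i := by group
            _ = (x ^ i)⁻¹ * (x ^ i * (x ^ i * e * (x ^ i)⁻¹) * (x ^ i)⁻¹) * x ^ i := by rw [h']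
            _ = x ^ i * e * (x ^ i)⁻¹ := by group
        rw [e']; exact this
      have h3 : x ^ (2 + 1) * e * (x ^ (2 + 1))⁻¹ = x ^ 0 * e * (x ^ 0)⁻¹ := by
        rw [show x ^ (2 + 1) = 1 by rw [show 2 + 1 = orderOf x from F.hx.symm, pow_orderOf_eq_one],
          pow_zero]
      have a1 := h01 0
      have a2 := h01 1
      have a3 := h01 2
      rw [h3] at a3
      intro i j hij h
      have hsym : (f j)⁻¹ * f i ∈ U := by simpa using inv_mem h
      fin_cases i <;> fin_cases j <;> first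
        | exact absurd rfl hij
        | exact a1 (by simpa [f] using h)
        | exact a2 (by simpa [f] using h)
        | exact a3 (by simpa [f] using h)
        | exact a1 (by simpa [f] using hsym)
        | exact a2 (by simpa [f] using hsym)
        | exact a3 (by simpa [f] using hsym)
    have hcard : ∀ g : G, ((fun u => g * u) '' (U : Set G)).ncard = 4 := fun g => by
      rw [Set.ncard_image_of_injective _ (mul_right_injective g), ← Nat.card_coe_set_eq]
      exact F.cardU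
    have hdisj : ∀ g g' : G, g⁻¹ * g' ∉ U →
        Disjoint ((fun u => g * u) '' (U : Set G)) ((fun u => g' * u) '' (U : Set G)) := fun g g' h =>
      Set.disjoint_left.2 fun z ⟨u, hu, e1⟩ ⟨v, hv, e2⟩ => h (by
        have hz : g * u = g' * v := e1.trans e2.symm
        have : g⁻¹ * g' = u * v⁻¹ := by
          rw [eq_mul_inv_iff_mul_eq, mul_assoc, ← hz, inv_mul_cancel_left]
        rw [this]; exact mul_mem hu (inv_mem hv))
    set c := fun g : G => (fun u => g * u) '' (U : Set G)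
    have h1 : ∀ i, (1 : G)⁻¹ * f i ∉ U := fun i => by rw [inv_one, one_mul]; exact hfU i
    have hsub : c 1 ∪ c (f 0) ∪ c (f 1) ∪ c (f 2) ⊆ (E : Set G) := by
      rintro z (((⟨u, hu, rfl⟩ | ⟨u, hu, rfl⟩) | ⟨u, hu, rfl⟩) | ⟨u, hu, rfl⟩)
      exacts [mul_mem (one_mem _) (hUE hu), mul_mem (hfE 0) (hUE hu), mul_mem (hfE 1) (hUE hu),
        mul_mem (hfE 2) (hUE hu)]
    have heq := Set.eq_of_subset_of_ncard_le hsub (by
      rw [Set.ncard_union_eq (Set.disjoint_union_left.2 ⟨Set.disjoint_union_left.2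
          ⟨hdisj _ _ (h1 2), hdisj _ _ (hdiff 0 2 (by decide))⟩, hdisj _ _ (hdiff 1 2 (by decide))⟩),
        Set.ncard_union_eq (Set.disjoint_union_left.2 ⟨hdisj _ _ (h1 1),
          hdisj _ _ (hdiff 0 1 (by decide))⟩),
        Set.ncard_union_eq (hdisj _ _ (h1 0)), hcard, hcard, hcard, hcard, ← Nat.card_coe_set_eq]
      exact h16.le) (Set.toFinite _)
    obtain ⟨i, u, hu, rfl⟩ : ∃ i, ∃ u ∈ U, f i * u = y := by
      rcases (heq ▸ hy : y ∈ c 1 ∪ c (f 0) ∪ c (f 1) ∪ c (f 2)) with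
        ((⟨u, hu, e'⟩ | ⟨u, hu, e'⟩) | ⟨u, hu, e'⟩) | ⟨u, hu, e'⟩
      · exact absurd (by rw [← e']; show (1 : G) * u ∈ U; rwa [one_mul]) hyU
      exacts [⟨0, u, hu, e'⟩, ⟨1, u, hu, e'⟩, ⟨2, u, hu, e'⟩]
    calc f i * u * (f i * u) = f i * (u * f i) * u := by group
      _ = f i * f i * (u * u) := by rw [hcommU _ (hfE i) u hu]; group
      _ = x ^ i.1 * q * (x ^ i.1)⁻¹ := by rw [F.sqU u hu, mul_one]; simp only [f, q]; group
      _ = q := hpowU i.1 q he2
  have hq1 : q = 1 := by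
    by_contra hq
    refine F.moves q he2 hq ?_
    have hae := hnorm a (F.Px a F.aP) e he
    have haU : a * e * a⁻¹ ∉ U := fun h => heU (by
      have h' := (mem_normalizer_iff.1 (inv_mem (mem_normalizer_of_conj D F (F.normU a (F.Px a F.aP))))
        _).1 h
      rwa [show a⁻¹ * (a * e * a⁻¹) * a⁻¹⁻¹ = e by group] at h')
    calc a * q * a⁻¹ = a * e * a⁻¹ * (a * e * a⁻¹) := by simp only [q]; group
      _ = q := hsqall _ hae haU
  have hsq : ∀ y ∈ E, y * y = 1 := fun y hy => by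
    by_cases h : y ∈ U
    · exact F.sqU y h
    · exact (hsqall y hy h).trans hq1
  have hcentle : centralizer (E : Set G) ≤ E := fun g hg =>
    ⟨centralizer_le_O D F inf_le_left (by rw [h16]; norm_num) (hUE F.tU) hEx hg,
      mem_centralizer_iff.2 fun u hu => mem_centralizer_iff.1 hg u (hUE hu)⟩
  set N := normalizer (E : Set G)
  obtain ⟨z, hz, hzx⟩ := exists_inverter D F.ht F.hx F.comm
  have hzU : ∀ u ∈ U, z⁻¹ * u * z ∈ U := fun u hu => by
    refine F.maxU _ 1 ?_ ?_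
    · have hz' : z⁻¹ * x * z = x⁻¹ := by
        have h1 : z * x⁻¹ * z⁻¹ = x := by
          rw [show z * x⁻¹ * z⁻¹ = (z * x * z⁻¹)⁻¹ by group, hzx, inv_inv]
        calc z⁻¹ * x * z = z⁻¹ * (z * x⁻¹ * z⁻¹) * z := by rw [h1]
          _ = x⁻¹ := by group
      have h2 : x * u = u * x := (F.Ux u hu).symm
      have h3 : (z⁻¹ * u * z) * x⁻¹ = x⁻¹ * (z⁻¹ * u * z) := by
        rw [← hz', show z⁻¹ * u * z * (z⁻¹ * x * z) = z⁻¹ * (u * x) * z by group, ← h2]
        group
      calc z⁻¹ * u * z * x = x * (x⁻¹ * (z⁻¹ * u * z)) * x := by group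
        _ = x * ((z⁻¹ * u * z) * x⁻¹) * x := by rw [h3]
        _ = x * (z⁻¹ * u * z) := by group
    · refine orderOf_dvd_of_pow_eq_one ?_
      rw [pow_one, pow_two, show z⁻¹ * u * z * (z⁻¹ * u * z) = z⁻¹ * (u * u) * z by group, F.sqU u hu]
      group
  have hzN : z ∈ N := mem_normalizer_of_conj D F fun y hy => ⟨F.core.norm z hz y hy.1,
    mem_centralizer_iff.2 fun u hu => by
      calc u * (z * y * z⁻¹) = z * ((z⁻¹ * u * z) * y) * z⁻¹ := by group
        _ = z * (y * (z⁻¹ * u * z)) * z⁻¹ := by rw [hcommU y hy _ (hzU u hu)]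
        _ = z * y * z⁻¹ * u := by group⟩
  have hON : O ≤ N := O_normalizes D F inf_le_left hUE hEx h16
  have hCN : centralizer ({t} : Set G) ≤ N := C_le D F hON (mem_normalizer_of_conj D F hEx) hz hzx hzN
  have hPN : P ≤ N := fun p hp => mem_normalizer_of_conj D F (hnorm p (F.Px p hp))
  set S := {u : G | ∃ g ∈ N, g * t * g⁻¹ = u}
  have hcardN : S.ncard * 384 = Nat.card N := by
    rw [← orbit_ncard (Q := N) t, inf_eq_right.2 hCN, D.centT t F.ht]
  have hS15 : S.ncard ≤ 15 := by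
    refine le_trans (Set.ncard_le_ncard (?_ : S ⊆ (E : Set G) \ {1}) (Set.toFinite _)) (le_of_eq ?_)
    · rintro _ ⟨g, hg, rfl⟩
      refine ⟨(mem_normalizer_iff.1 hg t).1 (hUE F.tU), fun h => ?_⟩
      have := F.ht
      rw [conj_eq_one_iff.1 (Set.mem_singleton_iff.1 h), orderOf_one] at this
      omega
    · rw [Set.ncard_sdiff (Set.singleton_subset_iff.2 (one_mem E)), ← Nat.card_coe_set_eq,
        Set.ncard_singleton]
      exact congrArg (· - 1) h16
  have h1155 : S.ncard ∣ 1155 := by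
    have h := card_subgroup_dvd_card N
    rw [D.card, ← hcardN, show (443520 : ℕ) = 1155 * 384 by norm_num] at h
    exact Nat.dvd_of_mul_dvd_mul_right (by norm_num) h
  have h3 : 3 ∣ S.ncard := by
    have h := card_dvd_of_le hPN
    rw [F.cardP, ← hcardN, show S.ncard * 384 = 3 * (S.ncard * 128) by ring, show (9 : ℕ) = 3 * 3 from rfl]
      at h
    exact (show Nat.Coprime 3 128 by norm_num).dvd_of_dvd_mul_right (Nat.dvd_of_mul_dvd_mul_left (by norm_num) h)
  have hS3 : S.ncard ≠ 3 := by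
    intro h3'
    have hat : a * t * a⁻¹ ∈ U := F.normU a (F.Px a F.aP) t F.tU
    have ht1 : t ≠ 1 := fun e' => by have := F.ht; rw [e', orderOf_one] at this; omega
    have hne : a * t * a⁻¹ ≠ t := F.moves t F.tU ht1
    have hUS : (U : Set G) \ {1} ⊆ S := by
      rintro u ⟨hu, hu1⟩
      have haN : a ∈ N := hPN F.aP
      rcases four_eq F.cardU F.tU hat ht1 (by simpa using ht1) hne hu (F.sqU t F.tU) with
        rfl | rfl | rfl | rfl
      · exact absurd rfl hu1
      · exact ⟨1, one_mem _, by group⟩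
      · exact ⟨a, haN, rfl⟩
      · refine ⟨a * a, mul_mem haN haN, ?_⟩
        have h2 : a * (a * t * a⁻¹) * a⁻¹ ∈ U := F.normU a (F.Px a F.aP) _ hat
        have hb1 : a * t * a⁻¹ ≠ 1 := by simpa using ht1
        have hne2 : a * (a * t * a⁻¹) * a⁻¹ ≠ a * t * a⁻¹ := F.moves _ hat hb1
        rw [show a * a * t * (a * a)⁻¹ = a * (a * t * a⁻¹) * a⁻¹ by group]
        rcases four_eq F.cardU F.tU hat ht1 hb1 hne h2 (F.sqU t F.tU) with h | h | h | h
        · exact absurd (conj_eq_one_iff.1 h) hb1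
        · exfalso
          have ha9 : a ^ 9 = 1 := congrArg Subtype.val
            (F.cardP ▸ pow_card_eq_one' (x := (⟨a, F.aP⟩ : P)))
          -- `a` squared fixes `t`, and `a` has odd order
          have hc : Commute (a ^ 2) t := by
            refine conj_eq_self.1 ?_
            calc a ^ 2 * t * (a ^ 2)⁻¹ = a * (a * t * a⁻¹) * a⁻¹ := by rw [pow_two]; group
              _ = t := h
          have : a * t = t * a := by
            have h' := (hc.pow_left 5).eq
            rwa [← pow_mul, show (2 * 5 : ℕ) = 9 + 1 from rfl, pow_succ, ha9, one_mul] at h'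
          exact hne (conj_eq_self.2 this)
        · exact absurd h hne2
        · exact h
    have hSU : S = (U : Set G) \ {1} := (Set.eq_of_subset_of_ncard_le hUS (by
      rw [h3', Set.ncard_sdiff (Set.singleton_subset_iff.2 (one_mem U)), ← Nat.card_coe_set_eq,
        Set.ncard_singleton]
      exact (congrArg (· - 1) F.cardU).ge) (Set.toFinite _)).symm
    have hN_U : ∀ g ∈ N, ∀ u ∈ U, g * u * g⁻¹ ∈ U := by
      intro g hg u hu
      by_cases hu1 : u = 1
      · rw [hu1, mul_one, mul_inv_cancel]; exact one_mem _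
      have hmem : u ∈ S := hSU ▸ ⟨hu, hu1⟩
      obtain ⟨g', hg', rfl⟩ := hmem
      have : g * (g' * t * g'⁻¹) * g⁻¹ ∈ S := ⟨g * g', mul_mem hg hg', by group⟩
      rw [hSU] at this
      exact this.1
    have := card_le_two_mul D F (Q := O) le_rfl fun o ho => hN_U o (hON ho)
    rw [F.core.card, h16] at this
    omega
  have hS : S.ncard = 15 := by
    have hd := Nat.mem_divisors.2 ⟨h1155, (by norm_num : (1155 : ℕ) ≠ 0)⟩
    have key : ∀ d ∈ Nat.divisors 1155, 3 ∣ d → d ≤ 15 → d ≠ 3 → d = 15 := by decide +kernel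
    exact key _ hd h3 hS15 hS3
  exact ⟨h16, hsq, fun g hg => hcentle (mem_centralizer_iff.2 fun e' he' => (hg e' he').symm),
    by rw [← hcardN, hS], trans_of_card D F h16 (hUE F.tU) hS.ge⟩

end Cfsg.Agent.Lib.RecogM22.Local
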