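import Cfsg.Agent.Lib.RecogM22.TableData
import Cfsg.Agent.Lib.Characters.Transitive

/-!
A transitive action of a group with the table data on `77` points has rank three, and an
involution fixes `13` points.

Owner: helper16.
-/

set_option autoImplicit false
set_option linter.style.haveILetI false
set_option linter.unusedSectionVars false

namespace Cfsg.Agent.Lib.RecogM22.Table

open MulAction
open Cfsg.Agent.Lib.Characters Cfsg.Agent.Lib.Characters.Basic Cfsg.Agent.Lib.Characters.Complete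
open Cfsg.Agent.Lib.Characters.Transitive Cfsg.Agent.Lib.Induced.Basic
open Cfsg.Agent.Lib.Classif Cfsg.Agent.Lib.SmallGroups
open Cfsg.Agent.Lib.Classif.PrimeExceptional (deg apply_one_eq)

universe u v

variable {G : Type u} [Group G] [Finite G] [IsSimpleGroup G] (h : TableData G)
  (Ω : Type v) [MulAction G Ω] [Finite Ω] [IsPretransitive G Ω] (hΩ : Nat.card Ω = 77)

include h hΩ

/-- The rank is three and an involution fixes `13` points. -/
theorem perm77 : Nat.card (orbitRel.Quotient G (Ω × Ω)) = 3 ∧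
    ∀ t : G, orderOf t = 2 → Nat.card (fixedBy Ω t) = 13 := by
  classical
  haveI := Fintype.ofFinite G
  haveI := Fintype.ofFinite (Cfsg.IrrCharacter G)
  haveI : Nonempty Ω := Nat.card_pos_iff.mp (by rw [hΩ]; norm_num : 0 < Nat.card Ω) |>.1
  obtain ⟨c, hc, hd⟩ := exists_enum h
  have hc0 : c 0 = oneChar G := by
    obtain ⟨i, hi⟩ := hc.2 (oneChar G)
    have := hd i
    rw [hi, PrimeExceptional.deg_oneChar] at this
    fin_cases i <;> first | exact hi | exact absurd this (by decide)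
  have hψ := isCharacter_permChar_sub_one (G := G) Ω
  have hπ : Cfsg.IsCharacter G (permChar Ω : G → ℂ) := by
    have h' := isCharacter_add hψ (isCharacter_one (G := G))
    convert h' using 1
    funext g
    simp
  choose m hm using fun i => exists_classInner_nat hπ (isCharacter_irr (c i))
  have hdec : (permChar Ω : G → ℂ) = ∑ i, (m i : ℂ) • (c i : G → ℂ) := by
    conv_lhs => rw [classFunction_eq_sum (isClassFunction_of_isCharacter hπ)]
    rw [← hc.sum_comp (fun χ => Cfsg.classInner (permChar Ω : G → ℂ) χ • (χ : G → ℂ))]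
    exact Finset.sum_congr rfl fun i _ => by rw [hm i]
  have hm0 : m 0 = 1 := by
    have h1 := hm 0
    rw [hc0, show ((oneChar G : Cfsg.IrrCharacter G) : G → ℂ) = (fun _ : G => (1 : ℂ)) from
      funext fun g => oneChar_apply g, classInner_permChar_one] at h1
    exact_mod_cast h1.symm
  have hval : ∀ g : G, (permChar Ω g : ℂ) = ∑ i, (m i : ℂ) * (c i : G → ℂ) g := fun g => by
    conv_lhs => rw [hdec]
    simp [Finset.sum_apply]
  have h77 : ((77 : ℕ) : ℂ) = ∑ i, (m i : ℂ) * ((![(1 : ℤ), 21, 45, 45, 55, 99, 154, 210, 231, 280,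
      280, 385] i : ℤ) : ℂ) := by
    have h1 := hval 1
    simp only [permChar, apply_one_eq, hd] at h1
    rw [← h1, ← hΩ]
    congr 1
    exact Nat.card_congr (Equiv.subtypeUnivEquiv fun x => one_smul G x).symm
  simp only [Fin.sum_univ_succ, Fin.sum_univ_zero, add_zero, Matrix.cons_val_zero,
    Matrix.cons_val_succ, Fin.succ_zero_eq_one, Fin.succ_one_eq_two, Fin.reduceSucc] at h77
  push_cast at h77
  have h77' : 77 = m 0 + (m 1 * 21 + (m 2 * 45 + (m 3 * 45 + (m 4 * 55 + (m 5 * 99 + (m 6 * 154 +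
      (m 7 * 210 + (m 8 * 231 + (m 9 * 280 + (m 10 * 280 + m 11 * 385)))))))))) := by
    rw [mul_one] at h77
    exact_mod_cast h77
  rw [hm0] at h77'
  have hms : m 1 = 1 ∧ m 2 = 0 ∧ m 3 = 0 ∧ m 4 = 1 ∧ m 5 = 0 ∧ m 6 = 0 ∧ m 7 = 0 ∧ m 8 = 0 ∧
      m 9 = 0 ∧ m 10 = 0 ∧ m 11 = 0 := by
    have h5 : m 5 = 0 := by omega
    have h6 : m 6 = 0 := by omega
    have h7 : m 7 = 0 := by omega
    have h8 : m 8 = 0 := by omega
    have h9 : m 9 = 0 := by omega
    have h10 : m 10 = 0 := by omega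
    have h11 : m 11 = 0 := by omega
    simp only [h5, h6, h7, h8, h9, h10, h11, Nat.zero_mul, Nat.zero_add, Nat.add_zero] at h77'
    have h4 : m 4 ≤ 1 := by omega
    have h3 : m 3 ≤ 1 := by omega
    have h2 : m 2 ≤ 1 := by omega
    have h1 : m 1 ≤ 3 := by omega
    omega
  obtain ⟨e1, e2, e3, e4, e5, e6, e7, e8, e9, e10, e11⟩ := hms
  refine ⟨?_, fun t ht => ?_⟩
  · have h1 := classInner_permChar (G := G) Ω
    have h2 : Cfsg.classInner (permChar Ω : G → ℂ) (permChar Ω : G → ℂ) =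
        ∑ i, (m i : ℂ) * (m i : ℂ) := by
      conv_lhs => arg 2; rw [hdec]
      rw [classInner_sum_right]
      refine Finset.sum_congr rfl fun i _ => ?_
      rw [classInner_smul_right, hm i]
      simp
    rw [h2] at h1
    simp only [Fin.sum_univ_succ, Fin.sum_univ_zero, add_zero, Fin.succ_zero_eq_one,
      Fin.succ_one_eq_two, Fin.reduceSucc, hm0, e1, e2, e3, e4, e5, e6, e7, e8, e9, e10, e11] at h1
    norm_num at h1
    exact_mod_cast h1.symm
  · have h1 := hval t
    simp only [permChar, h.inv t ht, hd] at h1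
    simp only [Fin.sum_univ_succ, Fin.sum_univ_zero, add_zero, Matrix.cons_val_zero,
      Matrix.cons_val_succ, Fin.succ_zero_eq_one, Fin.succ_one_eq_two, Fin.reduceSucc, hm0, e1, e2,
      e3, e4, e5, e6, e7, e8, e9, e10, e11] at h1
    norm_num [colT] at h1
    exact_mod_cast h1

/-- A point stabiliser has two orbits on the other points. -/
theorem suborbits (p : Ω) : ∃ v w, v ≠ p ∧ w ≠ p ∧
    ∀ x, x ≠ p → (∃ m ∈ stabilizer G p, m • v = x) ∨ (∃ m ∈ stabilizer G p, m • w = x) := by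
  classical
  haveI := Fintype.ofFinite (orbitRel.Quotient G (Ω × Ω))
  set q0 : orbitRel.Quotient G (Ω × Ω) := ⟦(p, p)⟧ with hq0
  have hcard : (Finset.univ.erase q0).card = 2 := by
    rw [Finset.card_erase_of_mem (Finset.mem_univ _), Finset.card_univ, ← Nat.card_eq_fintype_card,
      (perm77 h Ω hΩ).1]
  obtain ⟨q1, q2, -, hq⟩ := Finset.card_eq_two.mp hcard
  have hrep : ∀ q : orbitRel.Quotient G (Ω × Ω), ∃ x, ⟦(p, x)⟧ = q := by
    intro q
    induction q using Quotient.inductionOn with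
    | _ z =>
      obtain ⟨a, b⟩ := z
      obtain ⟨g, hg⟩ := exists_smul_eq G a p
      exact ⟨g • b, Quotient.sound ⟨g, Prod.ext hg rfl⟩⟩
  obtain ⟨v, hv⟩ := hrep q1
  obtain ⟨w, hw⟩ := hrep q2
  have hne : ∀ x, ⟦(p, x)⟧ ∈ Finset.univ.erase q0 → x ≠ p := fun x hx he => by
    rw [he] at hx
    simp [hq0] at hx
  refine ⟨v, w, hne v (by rw [hq, hv]; simp), hne w (by rw [hq, hw]; simp), fun x hx => ?_⟩
  have hmem : (⟦(p, x)⟧ : orbitRel.Quotient G (Ω × Ω)) ∈ Finset.univ.erase q0 := by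
    refine Finset.mem_erase.mpr ⟨fun he => ?_, Finset.mem_univ _⟩
    obtain ⟨g, hg⟩ := orbitRel_apply.mp (Quotient.exact he)
    exact hx ((congrArg Prod.snd hg).symm.trans (congrArg Prod.fst hg))
  have key : ∀ y, ⟦(p, x)⟧ = (⟦(p, y)⟧ : orbitRel.Quotient G (Ω × Ω)) →
      ∃ m ∈ stabilizer G p, m • y = x := fun y hy => by
    obtain ⟨g, hg⟩ := orbitRel_apply.mp (Quotient.exact hy)
    exact ⟨g, congrArg Prod.fst hg, congrArg Prod.snd hg⟩
  rw [hq, Finset.mem_insert, Finset.mem_singleton, ← hv, ← hw] at hmem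
  rcases hmem with h' | h'
  · exact Or.inl (key v h')
  · exact Or.inr (key w h')

end Cfsg.Agent.Lib.RecogM22.Table
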