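import Cfsg.Agent.Lib.RecogM22.OrderThree
import Cfsg.Agent.Lib.RecogM22.Perm77
import Cfsg.Agent.Lib.RecogM22.LocalFrame
import Cfsg.Agent.Lib.RecogM22.Frame

/-!
From the table data and the elementary subgroup of order `16` to the action on `77` points.

Owner: helper16.
-/

set_option autoImplicit false
set_option linter.style.haveILetI false
set_option linter.unusedSectionVars false

namespace Cfsg.Agent.Lib.RecogM22.Table

open MulAction
open Cfsg.Agent.Lib.Classif Cfsg.Agent.Lib.SmallGroups

universe u

variable {G : Type u} [Group G] [Finite G] [IsSimpleGroup G] (h : TableData G)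

include h

/-- The action on the cosets of the normaliser of the subgroup of order `16`. -/
theorem exists_max77 {E : Subgroup G} (B : Local.Big E) :
    Nonempty (Max77 G (G ⧸ Subgroup.normalizer (E : Set G))) := by
  classical
  set N := Subgroup.normalizer (E : Set G) with hN
  have hidx : Nat.card (G ⧸ N) = 77 := by
    have h1 := Subgroup.card_eq_card_quotient_mul_card_subgroup N
    rw [h.card, B.card_normalizer] at h1
    omega
  haveI : Finite (G ⧸ N) := Nat.finite_of_card_ne_zero (by rw [hidx]; norm_num)
  refine ⟨
    { p := ((1 : G) : G ⧸ N)
      E := E
      card_E := B.card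
      sq := B.sq
      stab_eq := ?_
      cent := B.cent
      trans := ?_
      card_G := h.card
      card_Ω := hidx
      pretransitive := inferInstance
      suborbits := suborbits h (G ⧸ N) hidx _
      fix := ?_
      five := (localData h).five }⟩
  · exact MulAction.stabilizer_quotient N
  · intro a ha ha1 b hb hb1
    rw [MulAction.stabilizer_quotient N]
    exact B.trans a ha ha1 b hb hb1
  · intro e he he1
    exact (perm77 h (G ⧸ N) hidx).2 e (Local.orderOf_two_of (B.sq e he) he1)

end Cfsg.Agent.Lib.RecogM22.Table
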