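import Mathlib

/-!
Bounded search over multisets of signed degree-value pairs, and the accumulated sums used for the
simple groups of order `443520`.
-/

set_option autoImplicit false

namespace Cfsg.Agent.Lib.RecogM22.Search

/-- `j` copies of `it` added to `s`. -/
def rep {ι σ : Type*} (add : σ → ι → σ) (it : ι) : ℕ → σ → σ
  | 0, s => s
  | j + 1, s => rep add it j (add s it)

/-- Some multiset of `n` items keeps `ok` and ends in `fin`. -/
def search {ι σ : Type*} (add : σ → ι → σ) (ok fin : σ → Bool) : List ι → ℕ → σ → Bool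
  | [], n, s => n == 0 && fin s
  | it :: rest, n, s => (List.range (n + 1)).any fun j =>
      ok (rep add it j s) && search add ok fin rest (n - j) (rep add it j s)

theorem foldl_replicate {ι σ : Type*} (add : σ → ι → σ) (it : ι) :
    ∀ (j : ℕ) (s : σ), (List.replicate j it).foldl add s = rep add it j s
  | 0, s => rfl
  | j + 1, s => by rw [List.replicate_succ, List.foldl_cons, rep, foldl_replicate add it j]

theorem ok_foldl {ι σ : Type*} {add : σ → ι → σ} {ok : σ → Bool}
    (hok : ∀ s it, ok (add s it) = true → ok s = true) :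
    ∀ (l : List ι) (s : σ), ok (l.foldl add s) = true → ok s = true
  | [], s, h => h
  | it :: l, s, h => hok s it (ok_foldl hok l _ h)

theorem search_complete {ι σ : Type*} [DecidableEq ι] {add : σ → ι → σ} {ok fin : σ → Bool}
    (hcomm : ∀ s a b, add (add s a) b = add (add s b) a)
    (hok : ∀ s it, ok (add s it) = true → ok s = true) :
    ∀ (items l : List ι) (s : σ), (∀ x ∈ l, x ∈ items) → ok (l.foldl add s) = true →
      fin (l.foldl add s) = true → search add ok fin items l.length s = true
  | [], l, s, hl, _, hf => by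
    rcases l with _ | ⟨x, l⟩
    · simpa [search] using hf
    · exact absurd (hl x List.mem_cons_self) List.not_mem_nil
  | it :: rest, l, s, hl, ho, hf => by
    haveI : RightCommutative add := ⟨hcomm⟩
    have hperm : l.Perm (List.replicate (l.count it) it ++ l.filter (fun x => ! (x == it))) := by
      have h := (List.filter_append_perm (fun x => x == it) l).symm
      rwa [List.filter_beq] at h
    rw [hperm.foldl_eq, List.foldl_append, foldl_replicate] at ho hf
    simp only [search, List.any_eq_true, List.mem_range, Bool.and_eq_true]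
    refine ⟨l.count it, Nat.lt_succ_of_le (List.count_le_length), ok_foldl hok _ _ ho, ?_⟩
    have hlen : (l.filter fun x => ! (x == it)).length = l.length - l.count it := by
      have := hperm.length_eq
      rw [List.length_append, List.length_replicate] at this
      omega
    rw [← hlen]
    refine search_complete hcomm hok rest _ _ (fun x hx => ?_) ho hf
    simp only [List.mem_filter, Bool.not_eq_true', beq_eq_false_iff_ne] at hx
    exact (List.mem_cons.mp (hl x hx.1)).resolve_left hx.2

/-- Sums over chosen pairs `(k, w)` of signed degree and value. -/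
structure Sums where
  k : ℤ
  kk : ℤ
  w : ℤ
  ww : ℤ
  t : ℤ
  deriving DecidableEq

/-- Adding a pair; `g` is the order of the group. -/
def add (g : ℤ) (s : Sums) (it : ℤ × ℤ) : Sums :=
  ⟨s.k + it.1, s.kk + it.1 * it.1, s.w + it.2, s.ww + it.2 * it.2,
    s.t + it.2 * it.2 * (g / it.1)⟩

/-- The square bounds. -/
def ok (g c : ℤ) (s : Sums) : Bool := decide (s.kk ≤ g) && decide (s.ww ≤ c)

theorem add_comm' (g : ℤ) (s : Sums) (a b : ℤ × ℤ) :
    add g (add g s a) b = add g (add g s b) a := by
  simp only [add, Sums.mk.injEq]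
  exact ⟨by ring, by ring, by ring, by ring, by ring⟩

theorem ok_mono (g c : ℤ) (s : Sums) (it : ℤ × ℤ) (h : ok g c (add g s it) = true) :
    ok g c s = true := by
  rw [ok, Bool.and_eq_true, decide_eq_true_iff, decide_eq_true_iff] at h ⊢
  simp only [add] at h
  exact ⟨by nlinarith, by nlinarith⟩

/-- The empty sums: the trivial character. -/
def init (g : ℤ) : Sums := ⟨1, 1, 1, 1, g⟩

theorem foldl_add (g : ℤ) : ∀ (l : List (ℤ × ℤ)) (s : Sums), l.foldl (add g) s =
    ⟨s.k + (l.map fun it => it.1).sum, s.kk + (l.map fun it => it.1 * it.1).sum,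
      s.w + (l.map fun it => it.2).sum, s.ww + (l.map fun it => it.2 * it.2).sum,
      s.t + (l.map fun it => it.2 * it.2 * (g / it.1)).sum⟩
  | [], s => by simp
  | it :: l, s => by
    rw [List.foldl_cons, foldl_add g l]
    simp only [add, List.map_cons, List.sum_cons, Sums.mk.injEq]
    exact ⟨by ring, by ring, by ring, by ring, by ring⟩

/-- Signed degrees of absolute value at least `lo`, congruent to `r` modulo `p`. -/
def cands (g p lo : ℕ) (r : ℤ) : List ℤ :=
  ((List.range (Nat.sqrt g + 1)).filter fun d =>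
      decide (lo ≤ d) && decide (g % d = 0)).flatMap fun d : ℕ =>
    ([(d : ℤ), -(d : ℤ)]).filter fun k => decide ((k - r) % (p : ℤ) = 0)

theorem mem_cands {g p lo : ℕ} {r k : ℤ} (h1 : lo ≤ k.natAbs) (h2 : k.natAbs ∣ g)
    (h3 : k * k ≤ g) (h4 : (p : ℤ) ∣ k - r) : k ∈ cands g p lo r := by
  simp only [cands, List.mem_flatMap, List.mem_filter, List.mem_range, Bool.and_eq_true,
    decide_eq_true_eq, List.mem_cons, List.not_mem_nil, or_false]
  refine ⟨k.natAbs, ⟨Nat.lt_succ_of_le (Nat.le_sqrt.mpr ?_), h1, Nat.mod_eq_zero_of_dvd h2⟩,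
    by omega, Int.emod_eq_zero_of_dvd h4⟩
  have : ((k.natAbs * k.natAbs : ℕ) : ℤ) ≤ g := by
    push_cast; rw [abs_mul_abs_self]; exact h3
  exact_mod_cast this

/-- Admissible values at an involution with centraliser of order `c`. -/
def vals (g c p : ℕ) (k r : ℤ) : List ℤ :=
  let b : ℕ := Nat.min (Nat.sqrt c) k.natAbs
  ((List.range (2 * b + 1)).map fun i : ℕ => (i : ℤ) - (b : ℤ)).filter fun w =>
    decide (w.natAbs < k.natAbs) && decide ((k - w) % 4 = 0) && decide ((w - r) % (p : ℤ) = 0) &&
      decide (((g / c : ℕ) : ℤ) * w % k = 0)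

theorem mem_vals {g c p : ℕ} {k r w : ℤ} (h1 : w.natAbs < k.natAbs) (h2 : (4 : ℤ) ∣ k - w)
    (h3 : (p : ℤ) ∣ w - r) (h4 : k ∣ ((g / c : ℕ) : ℤ) * w) (h5 : w * w ≤ c) :
    w ∈ vals g c p k r := by
  simp only [vals, List.mem_filter, List.mem_map, List.mem_range, Bool.and_eq_true,
    decide_eq_true_eq]
  refine ⟨⟨(w + (Nat.min (Nat.sqrt c) k.natAbs : ℕ)).toNat, ?_, ?_⟩, ⟨⟨h1, Int.emod_eq_zero_of_dvd h2⟩,
    Int.emod_eq_zero_of_dvd h3⟩, Int.emod_eq_zero_of_dvd h4⟩
  all_goals
    have hs : w.natAbs ≤ Nat.sqrt c := by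
      rw [Nat.le_sqrt]
      have : ((w.natAbs * w.natAbs : ℕ) : ℤ) ≤ c := by
        push_cast; rw [abs_mul_abs_self]; exact h5
      exact_mod_cast this
    have hb : w.natAbs ≤ Nat.min (Nat.sqrt c) k.natAbs := Nat.le_min.mpr ⟨hs, h1.le⟩
    omega

/-- All admissible pairs. -/
def pairs (g c p lo : ℕ) : List (ℤ × ℤ) :=
  (cands g p lo 1).flatMap fun k => (vals g c p k 1).map fun w => (k, w)

end Cfsg.Agent.Lib.RecogM22.Search
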