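import Cfsg.Agent.Lib.RecogM22.Pairs
import Cfsg.Agent.Lib.RecogM22.Search
import Cfsg.Agent.Lib.RecogThree.M12.Basic
import Cfsg.Agent.Lib.Classif.PrimeDegrees

/-!
The family of a Sylow subgroup of prime order at an involution centralising it, as input of the
bounded search: signed degrees and values, the relation, and the scaled class sum.
-/

set_option autoImplicit false
set_option linter.style.haveILetI false
set_option linter.unusedSectionVars false

namespace Cfsg.Agent.Lib.RecogM22.Basic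

open Cfsg.Agent.Lib.Characters Cfsg.Agent.Lib.Characters.Basic
open Cfsg.Agent.Lib.Classif
open Cfsg.Agent.Lib.Classif.PrimeExceptional (deg apply_one_eq natAbs_deg)
open Cfsg.Agent.Lib.RecogM22.Search
open Cfsg.Agent.Lib.RecogThree.M12 (Full.Extra)

universe u

/-- The final test of the search, with an extra condition. -/
def fin (g c p e t lo : ℕ) (extra : Sums → Bool) (s : Sums) : Bool :=
  decide (lo ≤ s.k.natAbs) && decide (g % s.k.natAbs = 0) &&
    decide ((s.k - (e : ℤ)) % (p : ℤ) = 0) && decide (s.w.natAbs < s.k.natAbs) &&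
    decide ((s.k - s.w) % 4 = 0) && decide (((g / c : ℕ) : ℤ) * s.w % s.k = 0) &&
    decide (s.kk + (t : ℤ) * (s.k * s.k) ≤ g) && decide (s.ww + (t : ℤ) * (s.w * s.w) ≤ c) &&
    extra s

/-- The class sum scaled by the order of the group. -/
def tVal (g : ℕ) (s : Sums) : ℤ := s.t - s.w * s.w * ((g : ℤ) / s.k)

/-- One search: no family has these parameters. -/
def dead (g c p e t lo : ℕ) (extra : Sums → Bool) : Bool :=
  ! search (add g) (ok g c) (fin g c p e t lo extra) (pairs g c p lo) (e - 1) (init g)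

variable {G : Type u} [Group G] [Finite G] [IsSimpleGroup G] (hG : ¬ IsMulCommutative G)
  {p : ℕ} [hp : Fact p.Prime] {P : Sylow p G} (hP : Nat.card (P : Subgroup G) = p)

include hG hP in
theorem exists_sums {e t lo g : ℕ} (hg : Nat.card G = g) (D : FirstPowerData.Data P e)
    (E : Full.Extra P D) (ht : D.fam.card = t)
    (hlo : (∀ χ ∈ D.K, lo ≤ (deg χ).natAbs) ∧ lo ≤ (deg D.θ).natAbs)
    {u : G} (hu : orderOf u = 2)
    (huC : u ∈ Subgroup.centralizer ((P : Subgroup G) : Set G)) (hp2 : p ≠ 2) {c : ℕ}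
    (hc : Nat.card (Subgroup.centralizer ({u} : Set G)) = c) :
    ∃ s : Sums, Pairs.T D u u * (g : ℂ) = ((tVal g s : ℤ) : ℂ) ∧
      ∀ extra : Sums → Bool, extra s = true → dead g c p e t lo extra = false := by
  classical
  haveI := Fintype.ofFinite G
  have hperf := Cfsg.Agent.Lib.SmallGroups.Sylow.commutator_eq_top hG
  have hu' : ¬ p ∣ orderOf u := by
    rw [hu]; exact fun h => hp2 ((Nat.prime_dvd_prime_iff_eq hp.out Nat.prime_two).mp h)
  have hex : ∀ χ : Cfsg.IrrCharacter G, χ ≠ oneChar G → ∃ v : ℤ, (χ : G → ℂ) u = v ∧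
      (4 : ℤ) ∣ deg χ - v ∧ |v| < deg χ ∧
      deg χ ∣ ((g / c : ℕ) : ℤ) * v := by
    intro χ hχ
    obtain ⟨v, h1, h2, h3, h4⟩ := RecogThree.M12.Basic.involution hG χ hχ hu
    refine ⟨v, h1, h2, h3, ?_⟩
    rwa [show g / c = (Subgroup.centralizer ({u} : Set G)).index by
      rw [← hc, ← hg, ← Subgroup.index_mul_card (Subgroup.centralizer ({u} : Set G)),
        Nat.mul_div_cancel _ Nat.card_pos]]
  choose v hv using hex
  let val : Cfsg.IrrCharacter G → ℤ := fun χ => if h : χ ≠ oneChar G then v χ h else 1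
  have hval : ∀ χ : Cfsg.IrrCharacter G, χ ≠ oneChar G → (χ : G → ℂ) u = val χ ∧
      (4 : ℤ) ∣ deg χ - val χ ∧ |val χ| < deg χ ∧ deg χ ∣ ((g / c : ℕ) : ℤ) * val χ :=
    fun χ h => by simp only [val, dif_pos h]; exact hv χ h
  have hK1 : ∀ χ ∈ D.K, χ ≠ oneChar G := fun χ h h' => D.one_not_mem (h' ▸ h)
  -- the signed pairs
  set f : Cfsg.IrrCharacter G → ℤ × ℤ := fun χ => (D.a χ * deg χ, D.a χ * val χ) with hf
  set l := D.K.toList.map f with hl
  set s := l.foldl (add (g : ℤ)) (init g) with hs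
  have hcardK := D.card_K
  have hlen : l.length = e - 1 := by simp [hl]; omega
  have hsum : ∀ F : ℤ × ℤ → ℤ, (l.map F).sum = ∑ χ ∈ D.K, F (f χ) := fun F => by
    rw [hl, List.map_map, Finset.sum_map_toList]; rfl
  have hsq : ∀ {a x : ℤ}, a = 1 ∨ a = -1 → a * x * (a * x) = x * x := by
    rintro a x (rfl | rfl) <;> ring
  have hk : s.k = D.δ * deg D.θ := by
    rw [hs, foldl_add, ← D.degree_eq]
    simp only [init, hsum, hf]
  have hw : (s.w : ℂ) = (D.δ : ℂ) * (D.θ : G → ℂ) u := by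
    rw [hs, foldl_add, ← D.rel u hu']
    simp only [init, hsum, hf]
    push_cast
    congr 1
    exact Finset.sum_congr rfl fun χ hχ => by rw [(hval χ (hK1 χ hχ)).1]
  set wθ := val D.θ with hwθ
  obtain ⟨hθv, hθ4, hθlt, hθd⟩ := hval D.θ D.θ_ne_one
  have hw' : s.w = D.δ * wθ := by
    rw [hθv] at hw; exact_mod_cast hw
  have hkk : s.kk = 1 + ∑ χ ∈ D.K, deg χ ^ 2 := by
    rw [hs, foldl_add]
    simp only [init, hsum, hf]
    congr 1
    exact Finset.sum_congr rfl fun χ hχ => by rw [hsq (D.a_unit χ hχ), pow_two]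
  have hww : s.ww = 1 + ∑ χ ∈ D.K, val χ ^ 2 := by
    rw [hs, foldl_add]
    simp only [init, hsum, hf]
    congr 1
    exact Finset.sum_congr rfl fun χ hχ => by rw [hsq (D.a_unit χ hχ), pow_two]
  have hdvd : ∀ χ : Cfsg.IrrCharacter G, (deg χ) ∣ (g : ℤ) := fun χ => by
    rw [← Int.natAbs_dvd_natAbs, natAbs_deg, Int.natAbs_natCast, ← hg]
    exact H80.ClassMult.charDegree_dvd_card χ
  have hne : ∀ χ : Cfsg.IrrCharacter G, χ ≠ oneChar G → deg χ ≠ 0 := fun χ hχ => by
    have := PrimeExceptional.two_le_deg hperf χ hχ; omega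
  have hterm : ∀ (a : ℤ) (χ : Cfsg.IrrCharacter G), χ ≠ oneChar G → a = 1 ∨ a = -1 →
      ((a * val χ * (a * val χ) * ((g : ℤ) / (a * deg χ)) : ℤ) : ℂ) =
        (g : ℂ) * ((a : ℂ) * ((χ : G → ℂ) u * (χ : G → ℂ) u / (deg χ : ℂ))) := by
    intro a χ hχ ha
    rw [hsq ha, Int.cast_mul]
    have hd : a * deg χ ∣ (g : ℤ) := by
      rcases ha with rfl | rfl
      · simpa using hdvd χ
      · simpa using hdvd χ
    rw [Int.cast_div hd (by
      have := hne χ hχ; rcases ha with rfl | rfl <;> simpa using this), (hval χ hχ).1]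
    have : (deg χ : ℂ) ≠ 0 := Int.cast_ne_zero.mpr (hne χ hχ)
    rcases ha with rfl | rfl <;> push_cast <;> field_simp
  have hT : Pairs.T D u u * (g : ℂ) = ((tVal g s : ℤ) : ℂ) := by
    rw [tVal, hk, hw', Int.cast_sub, hterm D.δ D.θ D.θ_ne_one D.δ_unit, hs, foldl_add]
    simp only [init, hsum, hf]
    rw [Int.cast_add, Int.cast_sum, Finset.sum_congr rfl fun χ hχ =>
      hterm (D.a χ) χ (hK1 χ hχ) (D.a_unit χ hχ), ← Finset.mul_sum, Pairs.T]
    push_cast
    ring
  refine ⟨s, hT, fun extra hextra => ?_⟩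
  have hsqsum := D.square_sum
  have hcen := D.centralizer_le hu' val wθ (fun χ hχ => (hval χ (hK1 χ hχ)).1) hθv
  rw [hg, ht] at hsqsum
  rw [hc, ht] at hcen
  have hθ0 : 0 ≤ (t : ℤ) * (deg D.θ ^ 2) := mul_nonneg (Int.natCast_nonneg _) (sq_nonneg _)
  have hθ1 : 0 ≤ (t : ℤ) * (wθ ^ 2) := mul_nonneg (Int.natCast_nonneg _) (sq_nonneg _)
  have hmem : ∀ x ∈ l, x ∈ pairs g c p lo := by
    intro x hx
    simp only [hl, List.mem_map, Finset.mem_toList] at hx
    obtain ⟨χ, hχ, rfl⟩ := hx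
    obtain ⟨h1, h4, hlt, hd⟩ := hval χ (hK1 χ hχ)
    have hpk : (p : ℤ) ∣ D.a χ * deg χ - 1 := (FirstPowerKills.signed_facts hperf hP D hχ).1
    have hpw : (p : ℤ) ∣ D.a χ * val χ - 1 := by
      have h := D.value_cong hP hχ huC hu'
      rw [h1, ← Int.cast_sub] at h
      have h' := FirstPowerData.int_dvd_of_isIntegral hp.out.ne_zero h
      rcases D.a_unit χ hχ with e' | e' <;> rw [e'] at h' ⊢
      · simpa using h'
      · have := h'.neg_right; simpa [sub_eq_add_neg, add_comm] using this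
    simp only [pairs, List.mem_flatMap, List.mem_map, hf]
    have habs : (D.a χ * deg χ).natAbs = (deg χ).natAbs := by
      rcases D.a_unit χ hχ with e' | e' <;> simp [e']
    have habsv : (D.a χ * val χ).natAbs = (val χ).natAbs := by
      rcases D.a_unit χ hχ with e' | e' <;> simp [e']
    refine ⟨_, mem_cands (by rw [habs]; exact hlo.1 χ hχ) ?_ ?_ hpk, _,
      mem_vals ?_ ?_ hpw ?_ ?_, rfl⟩
    · rw [habs, ← Int.natAbs_natCast g, Int.natAbs_dvd_natAbs]; exact hdvd χ
    · rw [hsq (D.a_unit χ hχ)]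
      have := Finset.single_le_sum (f := fun χ => deg χ ^ 2) (fun _ _ => sq_nonneg _) hχ
      nlinarith
    · rw [habs, habsv]
      have := abs_lt.mp hlt
      omega
    · rw [← mul_sub]; exact Dvd.dvd.mul_left h4 _
    · rcases D.a_unit χ hχ with e' | e' <;> rw [e'] <;> simpa using hd
    · rw [hsq (D.a_unit χ hχ)]
      have := Finset.single_le_sum (f := fun χ => val χ ^ 2) (fun _ _ => sq_nonneg _) hχ
      nlinarith
  have hfin : fin g c p e t lo extra s = true := by
    have habs : (D.δ * deg D.θ).natAbs = (deg D.θ).natAbs := by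
      rcases D.δ_unit with e' | e' <;> simp [e']
    have habsv : (D.δ * wθ).natAbs = wθ.natAbs := by
      rcases D.δ_unit with e' | e' <;> simp [e']
    simp only [fin, Bool.and_eq_true, decide_eq_true_eq, hk, hw', hextra, and_true, habs, habsv,
      hsq D.δ_unit]
    refine ⟨⟨⟨⟨⟨⟨⟨hlo.2, Nat.mod_eq_zero_of_dvd ?_⟩,
      Int.emod_eq_zero_of_dvd (D.θ_cong hP)⟩, ?_⟩, Int.emod_eq_zero_of_dvd ?_⟩,
      Int.emod_eq_zero_of_dvd ?_⟩, ?_⟩, ?_⟩
    · rw [← Int.natAbs_natCast g, Int.natAbs_dvd_natAbs]; exact hdvd D.θ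
    · have := abs_lt.mp hθlt
      omega
    · rw [← mul_sub]; exact Dvd.dvd.mul_left hθ4 _
    · rcases D.δ_unit with e' | e' <;> rw [e'] <;> simpa using hθd
    · rw [hkk]; linarith [hsqsum]
    · rw [hww]; linarith [hcen]
  have hok : ok g c (l.foldl (add (g : ℤ)) (init g)) = true := by
    rw [ok, Bool.and_eq_true, decide_eq_true_iff, decide_eq_true_iff, ← hs, hkk, hww]
    exact ⟨by linarith, by linarith⟩
  have := search_complete (fin := fin g c p e t lo extra) (add_comm' (g : ℤ)) (ok_mono (g : ℤ) c)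
    (pairs g c p lo) l (init g) hmem hok (hs ▸ hfin)
  rw [hlen] at this
  simp [dead, this]

end Cfsg.Agent.Lib.RecogM22.Basic

namespace Cfsg.Agent.Lib.RecogM22.Basic

open Cfsg.Agent.Lib.SmallGroups

/-- The centraliser of an involution has order divisible by four when a Sylow `2`-subgroup does. -/
theorem four_dvd_centralizer {G : Type*} [Group G] [Finite G] (h4 : 4 ∣ Nat.card G) {u : G}
    (hu : orderOf u = 2) : 4 ∣ Nat.card (Subgroup.centralizer ({u} : Set G)) := by
  haveI : Fact (Nat.Prime 2) := ⟨Nat.prime_two⟩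
  obtain ⟨S, hS⟩ := (IsPGroup.of_card (n := 1)
    (show Nat.card (Subgroup.zpowers u) = 2 ^ 1 by rw [Nat.card_zpowers, hu, pow_one])
    ).exists_le_sylow
  have huS : u ∈ (S : Subgroup G) := hS (Subgroup.mem_zpowers u)
  set C := Subgroup.centralizer ({u} : Set G) with hC
  haveI : Nontrivial (S : Subgroup G) := ⟨⟨⟨u, huS⟩, 1, fun h => by
    rw [show u = 1 from congrArg Subtype.val h, orderOf_one] at hu; omega⟩⟩
  haveI := S.isPGroup'.center_nontrivial
  obtain ⟨⟨⟨z, hzS⟩, hzc⟩, hz1⟩ := exists_ne (1 : Subgroup.center (S : Subgroup G))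
  have hcomm : ∀ a ∈ (S : Subgroup G), a * z = z * a := fun a ha =>
    congrArg Subtype.val (Subgroup.mem_center_iff.mp hzc ⟨a, ha⟩)
  have hz1' : z ≠ 1 := fun h => hz1 (Subtype.ext (Subtype.ext h))
  have hfour : 4 ∣ Nat.card ((S : Subgroup G) ⊓ C : Subgroup G) := by
    obtain ⟨n, hn⟩ := (IsPGroup.to_le S.isPGroup' (inf_le_left : (S : Subgroup G) ⊓ C ≤ _)).exists_card_eq
    by_cases hzu : z = u
    · have hle : (S : Subgroup G) ≤ C := fun a ha => by
        rw [hC, Subgroup.mem_centralizer_singleton_iff]; exact hzu ▸ hcomm a ha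
      rw [inf_of_le_left hle, S.card_eq_multiplicity]
      have : 2 ≤ (Nat.card G).factorization 2 :=
        (Nat.prime_two.pow_dvd_iff_le_factorization Nat.card_pos.ne').mp h4
      exact pow_dvd_pow 2 this
    · have hm : ∀ a : G, a ∈ (S : Subgroup G) → a * u = u * a →
          a ∈ (S : Subgroup G) ⊓ C := fun a ha he =>
        ⟨ha, by rw [hC]; exact Subgroup.mem_centralizer_singleton_iff.mpr he⟩
      let f : Fin 3 → ((S : Subgroup G) ⊓ C : Subgroup G) :=
        ![1, ⟨u, hm u huS rfl⟩, ⟨z, hm z hzS ((hcomm u huS).symm)⟩]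
      have hf : Function.Injective f := by
        have hu1 : u ≠ 1 := fun h => by rw [h, orderOf_one] at hu; omega
        intro a b hab
        have := congrArg Subtype.val hab
        fin_cases a <;> fin_cases b <;>
          first | rfl | (simp [f, hu1, hu1.symm, hz1', Ne.symm hz1', hzu, Ne.symm hzu] at this)
      have h3 := Nat.card_le_card_of_injective f hf
      rw [Nat.card_fin, hn] at h3
      rw [hn, show 4 = 2 ^ 2 from rfl]
      refine pow_dvd_pow 2 ?_
      by_contra hcon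
      interval_cases n <;> norm_num at h3
  exact hfour.trans (Subgroup.card_dvd_of_le inf_le_right)

/-- A proper subgroup of a simple group has index `k` with `2 |G| ∣ k!`. -/
theorem index_facts {G : Type*} [Group G] [Finite G] [IsSimpleGroup G]
    (hG : ¬ IsMulCommutative G) {H : Subgroup G} (hH : H ≠ ⊤) :
    2 * Nat.card G ∣ H.index.factorial ∧ H.index * Nat.card H = Nat.card G :=
  ⟨Sylow.two_mul_card_dvd_factorial hG hH, H.index_mul_card⟩

/-- The centraliser of a non-trivial element is proper. -/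
theorem centralizer_ne_top {G : Type*} [Group G] [IsSimpleGroup G]
    (hG : ¬ IsMulCommutative G) {x : G} (hx : x ≠ 1) :
    Subgroup.centralizer ({x} : Set G) ≠ ⊤ := by
  intro h
  have hz : x ∈ Subgroup.center G := Subgroup.mem_center_iff.mpr fun g =>
    Subgroup.mem_centralizer_singleton_iff.mp (h ▸ Subgroup.mem_top g)
  rcases (Subgroup.instNormalCenter (G := G)).eq_bot_or_eq_top with h | h
  · rw [h] at hz; exact hx (Subgroup.mem_bot.mp hz)
  · exact hG (isMulCommutative_iff.mpr fun a b =>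
      (Subgroup.mem_center_iff.mp (h ▸ Subgroup.mem_top b) a))

end Cfsg.Agent.Lib.RecogM22.Basic
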