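import Cfsg.Agent.Lib.RecogM22.Options

/-!
The finite searches at the prime `11` for the order `443520`.
-/

set_option autoImplicit false

namespace Cfsg.Agent.Lib.RecogM22.Eleven

open Cfsg.Agent.Lib.RecogM22.Search Cfsg.Agent.Lib.RecogM22.Basic

/-- The orders to be excluded for the centraliser of an involution. -/
def cents : List ℕ :=
  ((List.range 841).map (· * 44)).filter fun c => decide (c ≠ 0) && decide (443520 % c = 0)

/-- The square condition with `|C(P)| = 11 V`. -/
def sq (V c : ℕ) (s : Sums) : Bool :=
  (List.range (V + 1)).any fun j : ℕ =>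
    decide (tVal 443520 s * (V : ℤ) = 11 * (c : ℤ) ^ 2 * (j : ℤ) ^ 2)

theorem dead_five : cents.all (fun c =>
    dead 443520 c 11 5 2 22 fun s => decide (tVal 443520 s = 0)) = true := by decide +kernel

private theorem dead_ten_0 : ((cents.drop 0).take 16).all (fun c =>
    decide (c = 4928) || dead 443520 c 11 10 1 22 fun _ => true) = true := by decide +kernel

private theorem dead_ten_1 : ((cents.drop 16).take 14).all (fun c =>
    decide (c = 4928) || dead 443520 c 11 10 1 22 fun _ => true) = true := by decide +kernel

private theorem dead_ten_2 : ((cents.drop 30).take 10).all (fun c =>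
    decide (c = 4928) || dead 443520 c 11 10 1 22 fun _ => true) = true := by decide +kernel

private theorem dead_ten_3 : ((cents.drop 40).take 8).all (fun c =>
    decide (c = 4928) || dead 443520 c 11 10 1 22 fun _ => true) = true := by decide +kernel

private theorem dead_ten_4 : ((cents.drop 48).take 8).all (fun c =>
    decide (c = 4928) || dead 443520 c 11 10 1 22 fun _ => true) = true := by decide +kernel

private theorem dead_ten_5 : (cents.drop 56).all (fun c =>
    decide (c = 4928) || dead 443520 c 11 10 1 22 fun _ => true) = true := by decide +kernel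

theorem dead_ten : cents.all (fun c =>
    decide (c = 4928) || dead 443520 c 11 10 1 22 fun _ => true) = true := by
  have key : ∀ (a b : ℕ) (l : List ℕ) (q : ℕ → Bool),
      ((l.drop a).take b).all q = true → (l.drop (a + b)).all q = true → (l.drop a).all q = true := by
    intro a b l q h1 h2
    rw [← List.take_append_drop b (l.drop a), List.all_append, List.drop_drop, h1, h2]
    rfl
  exact key 0 16 _ _ dead_ten_0 (key 16 14 _ _ dead_ten_1 (key 30 10 _ _ dead_ten_2 (key 40 8 _ _ dead_ten_3 (key 48 8 _ _ dead_ten_4 (dead_ten_5)))))

theorem dead_ten_square : [72, 28, 6].all (fun V : ℕ =>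
    dead 443520 4928 11 10 1 22 (sq V 4928)) = true := by decide +kernel

theorem opts_eleven : (Options.opts 443520 11 128 315).all (fun ne : ℕ × ℕ =>
    decide (ne = (8064, 5)) || [(56, 5), (56, 10), (144, 5), (144, 10), (672, 5), (672, 10)].elem ne)
      = true := by decide +kernel

end Cfsg.Agent.Lib.RecogM22.Eleven
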