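import Cfsg.Agent.Lib.RecogM22.Filter

/-!
The finite searches at the prime `5` for the order `443520`: no involution centralises a Sylow
`5`-subgroup, as the families at `11`, `7` and `5` do not fit together.
-/

set_option autoImplicit false

namespace Cfsg.Agent.Lib.RecogM22.Five

open Cfsg.Agent.Lib.RecogM22.Search Cfsg.Agent.Lib.RecogM22.Basic Cfsg.Agent.Lib.RecogM22.Fam
open Cfsg.Agent.Lib.RecogM22.Filter

/-- The centraliser orders left for an involution of `C(P)`. -/
def cents : List ℕ := (Options.divs 288).map (20 * ·)

/-- The values `|C : P|` left for a value of `|N : C|`. -/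
def vlist (e : ℕ) : List ℕ := if e = 2 then [192, 72, 32, 12, 2] else [96, 36, 16, 6]

/-- The class sum vanishes. -/
def zero (s : Sums) : Bool := decide (tVal 443520 s = 0)

/-- The square condition with `|C(P)| = 5 V`. -/
def sq (e c : ℕ) (s : Sums) : Bool :=
  (vlist e).any fun V : ℕ => (List.range (V + 1)).any fun j : ℕ =>
    decide (tVal 443520 s * (V : ℤ) = 5 * (c : ℤ) ^ 2 * (j : ℤ) ^ 2)

/-- A degree which a table with a family at `11` admits. -/
def deg11 (x : ℤ × ℤ) : Bool := [0, 1, 5, 6, 10].elem (x.1 % 11)

/-- An admissible member, given the family `B` at the prime `q`. -/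
def inFam (q : ℕ) (B : List (ℤ × ℤ)) (x : ℤ × ℤ) : Bool :=
  decide (x.1 % (q : ℤ) = 0) || B.elem x

/-- The signed degrees at `7`. -/
def ks7 : List ℤ :=
  [-6, 8, 15, -20, 22, 36, -48, -55, 64, -90, 99, 120, -132, -160, 176, 288, 330, -384, -440]

/-- The signed degrees at `5`, of absolute value at least ten. -/
def ks5 : List ℤ := [11, -14, 16, 21, -24, 36, -44, 56, -64, 66, -84, 96, -99, 126, -144, -154, 176,
  -224, 231, -264, 336, -384, 396, -504, 576, 616]

/-- The signed degrees at `11`. -/
def ks11 : List ℤ := [-10, 12, -21, -32, 45, 56, -120, 144, 210, -252, 320, -384, -560]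

theorem cands_seven : cands 443520 7 2 1 = ks7 := by decide +kernel

theorem cands_five : cands 443520 5 10 1 = ks5 := by decide +kernel

theorem cands_eleven : cands 443520 11 2 1 = ks11 := by decide +kernel

/-- No family at `11` fits with those at `7` and `5`. -/
def killA (c : ℕ) (B C : List (ℤ × ℤ)) : Bool :=
  noFamWith 443520 c 11 5 2 2 1 zero ks11 (inFam 7 B)
    ((merge B C).filter fun x => decide (x.1 % 11 ≠ 0))

/-- All families at the prime `5` fitting with one at `7` are killed. -/
def killC (c : ℕ) (B : List (ℤ × ℤ)) (e : ℕ) : Bool :=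
  allFamsF 443520 c 5 e (4 / e) 10 5 (sq e c) ks5 (fun x => deg11 x && inFam 7 B x)
    fun C => clash 443520 c 7 C B || killA c B C

/-- The three families are contradictory. -/
def dead (c : ℕ) : Bool :=
  allFamsF 443520 c 7 3 2 2 1 zero ks7 deg11 fun B => killC c B 2 && killC c B 4

theorem opts_cases : (Options.opts 443520 5 128 693).all (fun ne : ℕ × ℕ =>
    decide (ne = (22176, 4)) || decide (443520 / (ne.1 * ne.2) % 7 = 0) ||
      decide (443520 / (ne.1 * ne.2) % 11 = 0) ||
        ((decide (ne.2 = 2) || decide (ne.2 = 4)) &&
          (vlist ne.2).elem (443520 / (ne.1 * ne.2) / 5))) = true := by decide +kernel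

private theorem dead_0 : [20, 40, 60, 80, 120, 160].all dead = true := by decide +kernel

private theorem dead_1 : [180, 240, 320, 360].all dead = true := by decide +kernel

private theorem dead_2 : [480, 640].all dead = true := by decide +kernel

private theorem dead_3 : [720, 960].all dead = true := by decide +kernel

private theorem dead_4 : [1440].all dead = true := by decide +kernel

private theorem dead_5 : [1920].all dead = true := by decide +kernel

private theorem dead_6 : [2880, 5760].all dead = true := by decide +kernel

theorem cents_eq : cents = [20, 40, 60, 80, 120, 160] ++ [180, 240, 320, 360] ++ [480, 640] ++ [720, 960] ++ [1440] ++ [1920] ++ [2880, 5760] := by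
  decide +kernel

theorem dead_all : cents.all dead = true := by
  simp only [cents_eq, List.all_append, dead_0, dead_1, dead_2, dead_3, dead_4, dead_5, dead_6, Bool.and_self]

end Cfsg.Agent.Lib.RecogM22.Five
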