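import Cfsg.Agent.Lib.RecogM22.Fam

/-!
The finite searches at the prime `7` for the order `443520`.
-/

set_option autoImplicit false

namespace Cfsg.Agent.Lib.RecogM22.Seven

open Cfsg.Agent.Lib.RecogM22.Search Cfsg.Agent.Lib.RecogM22.Basic Cfsg.Agent.Lib.RecogM22.Fam

/-- The condition on the class sum: it vanishes for `e = 3`, is a square for `e = 6`. -/
def cond (e c : ℕ) (s : Sums) : Bool :=
  if e = 3 then decide (tVal 443520 s = 0) else [4, 60].any fun V : ℕ =>
    (List.range (V + 1)).any fun j : ℕ =>
      decide (tVal 443520 s * (V : ℤ) = 7 * (c : ℤ) ^ 2 * (j : ℤ) ^ 2)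

/-- A member of the family is impossible for the family at the prime `11`. -/
def kill (c : ℕ) (A : List (ℤ × ℤ)) : Bool :=
  A.any fun x => ! [0, 1, 5, 6, 10].elem (x.1 % 11) ||
    (decide (x.1 % 11 = 10) &&
      ! forced 443520 c 11 5 2 2 1 (fun s => decide (tVal 443520 s = 0)) (-x.1, -x.2))

/-- The family at the prime `7` always contradicts the prime `11`. -/
def deadAt (e c : ℕ) : Bool :=
  allFams 443520 c 7 e (6 / e) 14 7 (cond e c) (kill c)

/-- The centraliser orders which would give other numbers of Sylow `7`-subgroups. -/
def cents : List ℕ := [2016, 6720, 8064, 10080, 20160]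

theorem dead_three : (cents ++ [2240, 4032]).all (deadAt 3) = true := by decide +kernel

theorem dead_six_2016 : deadAt 6 2016 = true := by decide +kernel

theorem dead_six_6720 : deadAt 6 6720 = true := by decide +kernel

theorem dead_six_8064 : deadAt 6 8064 = true := by decide +kernel

theorem dead_six_10080 : deadAt 6 10080 = true := by decide +kernel

theorem dead_six_20160 : deadAt 6 20160 = true := by decide +kernel

theorem dead_six : cents.all (deadAt 6) = true := by
  simp only [cents, List.all_cons, List.all_nil, dead_six_2016, dead_six_6720, dead_six_8064,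
    dead_six_10080, dead_six_20160, Bool.and_self]

theorem opts_seven : (Options.opts 443520 7 128 495).all (fun ne : ℕ × ℕ =>
    decide (ne.2 = 2) || [(21120, 3), (120, 3), (120, 6), (960, 3), (960, 6), (1408, 3), (176, 3),
      (176, 6), (330, 3), (330, 6), (2640, 3), (2640, 6)].elem ne) = true := by decide +kernel

theorem opts_five : (Options.opts 443520 5 128 693).all (fun ne : ℕ × ℕ =>
    [(231, 2), (231, 4), (66, 2), (66, 4), (126, 2), (126, 4), (1386, 2), (1386, 4), (396, 2),
      (396, 4), (56, 2), (56, 4), (616, 2), (616, 4), (176, 2), (176, 4), (336, 2), (336, 4),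
      (3696, 2), (3696, 4), (96, 2), (96, 4), (1056, 2), (1056, 4), (2016, 2), (2016, 4),
      (22176, 2), (22176, 4), (576, 2), (6336, 2)].elem ne) = true := by decide +kernel

end Cfsg.Agent.Lib.RecogM22.Seven
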