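import Cfsg.Agent.Lib.RecogM22.Basic

/-!
The part of the character table of a simple group of order `443520` that the local analysis and
the action on `77` points use: the degrees and the values at the involutions.

Owner: helper16.
-/

set_option autoImplicit false
set_option linter.style.haveILetI false
set_option linter.unusedSectionVars false

namespace Cfsg.Agent.Lib.RecogM22.Table

open Cfsg.Agent.Lib.Characters Cfsg.Agent.Lib.Characters.Basic Cfsg.Agent.Lib.Characters.Complete
open Cfsg.Agent.Lib.Classif Cfsg.Agent.Lib.SmallGroups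
open Cfsg.Agent.Lib.Classif.PrimeExceptional (deg apply_one_eq)
open scoped ComplexConjugate

universe u

/-- The degrees. -/
def degs : List ℤ := [1, 21, 45, 45, 55, 99, 154, 210, 231, 280, 280, 385]

/-- The value at an involution of the character of a given degree. -/
def colT (d : ℤ) : ℤ :=
  if d = 21 then 5 else if d = 45 then -3 else if d = 55 then 7 else if d = 99 then 3
  else if d = 154 then 10 else if d = 210 then 2 else if d = 231 then 7 else if d = 280 then -8
  else 1

/-- The data. -/
structure TableData (G : Type u) [Group G] [Finite G] [IsSimpleGroup G] : Prop where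
  card : Nat.card G = 443520
  five : ∀ P : Sylow 5 G, Nat.card (Subgroup.centralizer ((P : Subgroup G) : Set G)) = 5 ∧
    Nat.card (Subgroup.normalizer ((P : Subgroup G) : Set G)) = 20
  degrees : ∀ [Fintype (Cfsg.IrrCharacter G)],
    (Finset.univ.val.map fun χ : Cfsg.IrrCharacter G => deg χ) = (degs : Multiset ℤ)
  inv : ∀ t : G, orderOf t = 2 → ∀ χ : Cfsg.IrrCharacter G,
    (χ : G → ℂ) t = ((colT (deg χ) : ℤ) : ℂ)

/-- A list with a permuted image can be rearranged. -/
theorem exists_map_eq {α β : Type*} (f : α → β) : ∀ (m : List β) (l : List α),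
    (l.map f).Perm m → ∃ l', List.Perm l' l ∧ l'.map f = m
  | [], l, h => ⟨l, List.Perm.refl l, h.eq_nil⟩
  | b :: m, l, h => by
    obtain ⟨a, ha, hab⟩ := List.mem_map.mp (h.mem_iff.mpr (List.mem_cons_self))
    obtain ⟨l₁, l₂, rfl⟩ := List.mem_iff_append.mp ha
    have h1 : ((a :: (l₁ ++ l₂)).map f).Perm (b :: m) :=
      ((List.perm_middle (a := a) (l₁ := l₁) (l₂ := l₂)).map f).symm.trans h
    rw [List.map_cons, hab] at h1
    obtain ⟨l', hl', hm⟩ := exists_map_eq f m (l₁ ++ l₂) h1.cons_inv
    exact ⟨a :: l', (hl'.cons a).trans List.perm_middle.symm, by rw [List.map_cons, hm, hab]⟩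

variable {G : Type u} [Group G] [Finite G] [IsSimpleGroup G] (h : TableData G)

include h

/-- The characters, numbered. -/
theorem exists_enum : ∃ c : Fin 12 → Cfsg.IrrCharacter G, Function.Bijective c ∧
    ∀ i, deg (c i) = ![(1 : ℤ), 21, 45, 45, 55, 99, 154, 210, 231, 280, 280, 385] i := by
  classical
  haveI := Fintype.ofFinite (Cfsg.IrrCharacter G)
  have hp : (((Finset.univ : Finset (Cfsg.IrrCharacter G)).toList.map fun χ => deg χ)).Perm degs := by
    rw [← Multiset.coe_eq_coe, ← Multiset.map_coe, Finset.coe_toList]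
    exact h.degrees
  obtain ⟨l, hl, hm⟩ := exists_map_eq _ degs _ hp
  have hlen : l.length = 12 := by
    have := congrArg List.length hm
    simpa [degs] using this
  have hnd : l.Nodup := hl.nodup_iff.mpr (Finset.nodup_toList _)
  refine ⟨fun i => l.get (i.cast hlen.symm), ⟨?_, ?_⟩, fun i => ?_⟩
  · intro i j hij
    exact Fin.cast_injective _ (hnd.injective_get hij)
  · intro χ
    obtain ⟨i, hi⟩ := List.get_of_mem (hl.mem_iff.mpr (Finset.mem_toList.mpr (Finset.mem_univ χ)))
    exact ⟨i.cast hlen, by simpa using hi⟩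
  · have h1 := List.getElem_of_eq hm (i := (i : ℕ)) (by simp [hlen, i.2])
    rw [List.getElem_map] at h1
    show deg (l.get (i.cast hlen.symm)) = _
    rw [List.get_eq_getElem]
    show deg l[(i : ℕ)] = _
    rw [h1]
    fin_cases i <;> rfl

/-- A sum over the characters. -/
theorem sum_deg {M : Type*} [AddCommMonoid M] [Fintype (Cfsg.IrrCharacter G)] (F : ℤ → M) :
    ∑ χ : Cfsg.IrrCharacter G, F (deg χ) = (degs.map F).sum := by
  change (Finset.univ.val.map fun χ => F (deg χ)).sum = _
  rw [show (Finset.univ.val.map fun χ : Cfsg.IrrCharacter G => F (deg χ)) =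
    (Finset.univ.val.map fun χ => deg χ).map F from (Multiset.map_map F _ _).symm, h.degrees]
  rfl

/-- The centralisers of the involutions. -/
theorem centT {t : G} (ht : orderOf t = 2) :
    Nat.card (Subgroup.centralizer ({t} : Set G)) = 384 := by
  classical
  haveI := Fintype.ofFinite (Cfsg.IrrCharacter G)
  have hs := sum_irr_mul_conj t t
  rw [if_pos (IsConj.refl t)] at hs
  simp only [h.inv t ht, map_intCast, ← Int.cast_mul] at hs
  rw [sum_deg h (F := fun d => ((colT d * colT d : ℤ) : ℂ))] at hs
  norm_num [degs, colT] at hs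
  exact_mod_cast hs.symm

/-- One class of involutions. -/
theorem isConj_inv {s t : G} (hs : orderOf s = 2) (ht : orderOf t = 2) : IsConj s t := by
  rw [isConj_iff_forall_irr]
  intro χ
  rw [h.inv s hs, h.inv t ht]

/-- The involutions commuting with an involution. -/
theorem count {t : G} (ht : orderOf t = 2) :
    Nat.card {u : G // orderOf u = 2 ∧ u * t = t * u} = 51 := by
  classical
  haveI := Fintype.ofFinite G
  haveI := Fintype.ofFinite (Cfsg.IrrCharacter G)
  have ht2 : t * t = 1 := by rw [← pow_two, ← ht, pow_orderOf_eq_one]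
  have horth : ∀ w : G, ∑ χ : Cfsg.IrrCharacter G, (χ : G → ℂ) w * ((colT (deg χ) : ℤ) : ℂ) =
      if orderOf w = 2 then (384 : ℂ) else 0 := by
    intro w
    have h1 := sum_irr_mul_conj w t
    simp only [h.inv t ht, map_intCast] at h1
    rw [h1]
    by_cases hw : orderOf w = 2
    · rw [if_pos (isConj_inv h hw ht), if_pos hw, centT h hw]; norm_num
    · rw [if_neg hw, if_neg fun hc => hw ?_]
      obtain ⟨c, rfl⟩ := isConj_iff.mp hc
      have := MulEquiv.orderOf_eq (MulAut.conj c) w
      rw [MulAut.conj_apply, ht] at this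
      exact this.symm
  -- the number of `a` with `t` times the conjugate of `t` an involution
  have hcount : ((Finset.univ.filter fun a : G => orderOf (t * (a * t * a⁻¹)) = 2).card : ℂ) =
      50 * 384 := by
    have h1 : ∑ a : G, ∑ χ : Cfsg.IrrCharacter G,
        (χ : G → ℂ) (t * (a * t * a⁻¹)) * ((colT (deg χ) : ℤ) : ℂ) =
        ((Finset.univ.filter fun a : G => orderOf (t * (a * t * a⁻¹)) = 2).card : ℂ) * 384 := by
      simp only [horth, Finset.sum_ite, Finset.sum_const_zero, add_zero, Finset.sum_const,
        nsmul_eq_mul]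
    rw [Finset.sum_comm] at h1
    simp only [← Finset.sum_mul, H80.ClassMult.sum_apply_mul_conj, h.inv t ht, apply_one_eq,
      h.card] at h1
    rw [sum_deg h (F := fun d => ((443520 : ℕ) : ℂ) * ((colT d : ℤ) : ℂ) * ((colT d : ℤ) : ℂ) /
      ((d : ℤ) : ℂ) * ((colT d : ℤ) : ℂ))] at h1
    norm_num [degs, colT] at h1
    linear_combination -(1 / 384 : ℂ) * h1
  have hcount' : (Finset.univ.filter fun a : G => orderOf (t * (a * t * a⁻¹)) = 2).card = 19200 := by
    have : ((Finset.univ.filter fun a : G => orderOf (t * (a * t * a⁻¹)) = 2).card : ℂ) =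
        ((19200 : ℕ) : ℂ) := by rw [hcount]; norm_num
    exact_mod_cast this
  -- each involution is a conjugate in `384` ways
  set S := Finset.univ.filter fun u : G => orderOf u = 2 ∧ u * t = t * u with hS
  have hfib : (Finset.univ.filter fun a : G => orderOf (t * (a * t * a⁻¹)) = 2).card =
      384 * (S.erase t).card := by
    rw [Finset.card_eq_sum_card_fiberwise (f := fun a => a * t * a⁻¹) (t := S.erase t) ?_]
    · rw [Finset.sum_congr rfl (fun u hu => ?_), Finset.sum_const, smul_eq_mul, mul_comm]
      simp only [hS, Finset.mem_erase, Finset.mem_filter, Finset.mem_univ, true_and] at hu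
      obtain ⟨hne, huo, hut⟩ := hu
      have hutu : orderOf (t * u) = 2 := by
        refine orderOf_eq_prime ?_ fun e => hne ?_
        · rw [(show Commute t u from hut.symm).mul_pow, pow_two t, ht2, ← huo, pow_orderOf_eq_one,
            one_mul]
        · calc u = t * (t * u) := by rw [← mul_assoc, ht2, one_mul]
            _ = t := by rw [e, mul_one]
      obtain ⟨b, hb⟩ := isConj_iff.mp (isConj_inv h ht huo)
      rw [← centT h ht, Nat.card_eq_fintype_card, ← Finset.card_univ]
      symm
      refine Finset.card_bij (fun c _ => b * (c : G)) ?_ ?_ ?_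
      · intro c _
        have hc := Subgroup.mem_centralizer_singleton_iff.mp c.2
        have he : b * (c : G) * t * (b * (c : G))⁻¹ = u := by
          rw [← hb]
          calc b * (c : G) * t * (b * (c : G))⁻¹ = b * ((c : G) * t) * (c : G)⁻¹ * b⁻¹ := by group
            _ = b * t * b⁻¹ := by rw [hc]; group
        simp only [Finset.mem_filter, Finset.mem_univ, true_and, he]
        exact ⟨hutu, trivial⟩
      · intro c _ c' _ hcc
        exact Subtype.ext (mul_left_cancel hcc)
      · intro a ha
        simp only [Finset.mem_filter, Finset.mem_univ, true_and] at ha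
        refine ⟨⟨b⁻¹ * a, ?_⟩, Finset.mem_univ _, by group⟩
        rw [Subgroup.mem_centralizer_singleton_iff]
        calc b⁻¹ * a * t = b⁻¹ * (a * t * a⁻¹) * a := by group
          _ = t * (b⁻¹ * a) := by rw [ha.2, ← hb]; group
    · intro a ha
      simp only [hS, Finset.coe_filter, Finset.coe_erase, Finset.mem_univ, true_and,
        Set.mem_setOf_eq, Set.mem_diff, Set.mem_singleton_iff] at ha ⊢
      have ho : orderOf (a * t * a⁻¹) = 2 := by
        rw [← MulAut.conj_apply, MulEquiv.orderOf_eq, ht]
      refine ⟨⟨ho, ?_⟩, fun he => ?_⟩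
      · have h1 : t * (a * t * a⁻¹) * (t * (a * t * a⁻¹)) = 1 := by
          rw [← pow_two, ← ha, pow_orderOf_eq_one]
        have h2 : a * t * a⁻¹ * (a * t * a⁻¹) = 1 := by rw [← pow_two, ← ho, pow_orderOf_eq_one]
        calc a * t * a⁻¹ * t = (t * t) * (a * t * a⁻¹) * t * ((a * t * a⁻¹) * (a * t * a⁻¹)) := by
              rw [ht2, h2, one_mul, mul_one]
          _ = t * (t * (a * t * a⁻¹) * (t * (a * t * a⁻¹))) * (a * t * a⁻¹) := by group
          _ = t * (a * t * a⁻¹) := by rw [h1, mul_one]
      · rw [he, ht2, orderOf_one] at ha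
        omega
  have htS : t ∈ S := by simp [hS, ht]
  rw [Nat.card_eq_fintype_card, Fintype.card_subtype, ← hS, ← Finset.card_erase_add_one htS]
  omega

end Cfsg.Agent.Lib.RecogM22.Table
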