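import Cfsg.Agent.Lib.RecogM22.CertFive
import Cfsg.Agent.Lib.RecogM22.TableData

/-!
The finite searches for the families at `11`, `7` and `5` at an involution of a simple group of
order `443520`: only one solution, with centraliser of order `384`.
-/

set_option autoImplicit false

namespace Cfsg.Agent.Lib.RecogM22.CertTableInv

open Cfsg.Agent.Lib.RecogM22.Search Cfsg.Agent.Lib.RecogM22.Basic Cfsg.Agent.Lib.RecogM22.Fam
open Cfsg.Agent.Lib.RecogM22.Filter Cfsg.Agent.Lib.RecogM22.Five

/-- The possible centraliser orders of involutions. -/
def cents4 : List ℕ := (Options.divs 288).map (4 * ·)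

/-- The class sum at the prime `5`. -/
def sq5 (c : ℕ) (s : Sums) : Bool :=
  decide (tVal 443520 s = 0) || decide (tVal 443520 s = 5 * (c : ℤ) ^ 2)

/-- The signed degrees at `5`. -/
def ks5all : List ℤ := [-4, 6, -9, 11, -14, 16, 21, -24, 36, -44, 56, -64, 66, -84, 96, -99, 126,
  -144, -154, 176, -224, 231, -264, 336, -384, 396, -504, 576, 616]

theorem cands_five_all : cands 443520 5 2 1 = ks5all := by decide +kernel

/-- The family at `11`. -/
def tA : List (ℤ × ℤ) := [(21, 5), (45, -3), (45, -3), (210, 2), (280, -8), (280, -8)]

/-- The family at `7`. -/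
def tB : List (ℤ × ℤ) := [(45, -3), (45, -3), (55, 7), (99, 3)]

/-- The family at `5`. -/
def tC : List (ℤ × ℤ) := [(21, 5), (99, 3), (154, 10), (231, 7)]

/-- A member fits in a table containing `M`. -/
def fits (c : ℕ) (M : List (ℤ × ℤ)) (x : ℤ × ℤ) : Bool :=
  M.elem x || (decide (1 + degSq M + x.1 * x.1 ≤ 443520) && decide (1 + valSq M + x.2 * x.2 ≤ (c : ℤ)))

/-- Each family at `5` fitting with those at `7` and `11` is killed or is the known one. -/
def killC (c : ℕ) (B A : List (ℤ × ℤ)) : Bool :=
  allFamsF 443520 c 5 4 1 2 1 (sq5 c) ks5all
    (fun x => inFam 7 B x && inFam 11 A x && fits c (merge A B) x) fun C =>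
    clash 443520 c 5 B C || clash 443520 c 5 A C ||
      (decide (c = 384) && A.isPerm tA && B.isPerm tB && C.isPerm tC)

/-- Each family at `11` fitting with that at `7` is killed or is the known one. -/
def killA (c : ℕ) (B : List (ℤ × ℤ)) : Bool :=
  allFamsWith 443520 c 11 5 2 2 1 zero ks11 (fun x => inFam 7 B x && fits c B x)
    (B.filter fun x => decide (x.1 % 11 ≠ 0)) fun A => clash 443520 c 7 A B || killC c B A

/-- The families at an involution with centraliser of order `c` are contradictory or known. -/
def known (c : ℕ) : Bool := allFamsF 443520 c 7 3 2 2 1 zero ks7 deg11 (killA c)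

private theorem known_0 : [4, 8, 12, 16, 24, 32, 36, 48, 64, 72].all known = true := by decide +kernel

private theorem known_1 : [96, 128, 144].all known = true := by decide +kernel

private theorem known_2 : [192].all known = true := by decide +kernel

private theorem known_3 : [288].all known = true := by decide +kernel

private theorem known_4 : [384].all known = true := by decide +kernel

private theorem known_5 : [576].all known = true := by decide +kernel

private theorem known_6 : [1152].all known = true := by decide +kernel

theorem cents4_eq : cents4 = [4, 8, 12, 16, 24, 32, 36, 48, 64, 72] ++ [96, 128, 144] ++ [192] ++ [288] ++ [384] ++ [576] ++ [1152] := by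
  decide +kernel

theorem known_all : cents4.all known = true := by
  simp only [cents4_eq, List.all_append, known_0, known_1, known_2, known_3, known_4, known_5, known_6, Bool.and_self]

end Cfsg.Agent.Lib.RecogM22.CertTableInv
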