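import Cfsg.Agent.Lib.RecogM22.CertEleven

/-!
Simple groups of order `443520`: the Sylow subgroups of order `11` are self-centralising, with
normalisers of order `55`.
-/

set_option autoImplicit false
set_option linter.style.haveILetI false
set_option linter.unusedSectionVars false

namespace Cfsg.Agent.Lib.RecogM22.Eleven

open Cfsg.Agent.Lib.Classif Cfsg.Agent.Lib.SmallGroups
open Cfsg.Agent.Lib.Classif.PrimeExceptional (deg)
open Cfsg.Agent.Lib.RecogM22.Search Cfsg.Agent.Lib.RecogM22.Basic
open Cfsg.Agent.Lib.RecogThree.M12 (Full.Extra Full.exists_full)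

universe u

variable {G : Type u} [Group G] [Finite G] [IsSimpleGroup G] (h : Nat.card G = 443520)

include h

theorem not_comm : ¬ IsMulCommutative G :=
  Classif.SmallOrderKills3.not_comm h (by norm_num)

theorem cent_mem {u : G} (hu : orderOf u = 2)
    (h11 : 11 ∣ Nat.card (Subgroup.centralizer ({u} : Set G))) :
    Nat.card (Subgroup.centralizer ({u} : Set G)) ∈ cents := by
  have h4 := four_dvd_centralizer (h ▸ by norm_num : 4 ∣ Nat.card G) hu
  obtain ⟨hfac, hidx⟩ := index_facts (not_comm h) (centralizer_ne_top (not_comm h)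
    (fun e => by rw [e, orderOf_one] at hu; omega : u ≠ 1))
  rw [h] at hfac hidx
  generalize Nat.card (Subgroup.centralizer ({u} : Set G)) = c at *
  generalize (Subgroup.centralizer ({u} : Set G)).index = k at *
  obtain ⟨m, rfl⟩ := (show Nat.Coprime 4 11 by norm_num).mul_dvd_of_dvd_of_dvd h4 h11
  have hk : 12 ≤ k := by
    by_contra hlt
    have hd : k ∣ 10080 := ⟨m, by nlinarith⟩
    interval_cases k <;> simp_all [Nat.factorial]
  simp only [cents, List.mem_filter, List.mem_map, List.mem_range, Bool.and_eq_true,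
    decide_eq_true_eq]
  refine ⟨⟨m, by nlinarith, by ring⟩, by intro e; rw [e] at hidx; simp at hidx, ?_⟩
  exact Nat.mod_eq_zero_of_dvd ⟨k, by rw [← hidx]; ring⟩

/-- The Sylow subgroups of order `11`. -/
theorem data [Fact (Nat.Prime 11)] : ∀ P : Sylow 11 G,
    Nat.card (P : Subgroup G) = 11 ∧ Nat.card (Sylow 11 G) = 8064 ∧
      Nat.card (Subgroup.centralizer ((P : Subgroup G) : Set G)) = 11 ∧
      Nat.card (Subgroup.normalizer ((P : Subgroup G) : Set G)) = 55 := by
  classical
  haveI := Fintype.ofFinite G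
  haveI : Fact (Nat.Prime 2) := ⟨Nat.prime_two⟩
  have hG := not_comm h
  have hn : Nat.card (Sylow 11 G) = 8064 := by
    obtain ⟨n, e, c, hmem, hP, hn, hce, -, hC, hN, hrel⟩ := Options.exists_opt hG (m₁ := 128)
      (m₂ := 315) h (by norm_num) (by norm_num) (by norm_num) (by norm_num)
      (default : Sylow 11 G)
    set P : Sylow 11 G := default
    have hl := List.all_eq_true.mp opts_eleven _ hmem
    simp only [Bool.or_eq_true, decide_eq_true_eq, List.elem_eq_mem, List.mem_cons,
      List.not_mem_nil, or_false] at hl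
    rcases hl with hl | hl
    · rw [hn]; exact (Prod.mk.inj hl).1
    exfalso
    obtain ⟨hc2, hc'⟩ : 2 ∣ c ∧ (c = 1584 ∨ c = 792 ∨ c = 616 ∨ c = 308 ∨ c = 132 ∨ c = 66) := by
      rcases hl with hl | hl | hl | hl | hl | hl <;> obtain ⟨rfl, rfl⟩ := Prod.mk.inj hl <;> omega
    obtain ⟨D, ⟨E⟩⟩ := Full.exists_full P hP hrel
    have h2 := hc2
    obtain ⟨⟨u, huC⟩, hu⟩ := exists_prime_orderOf_dvd_card'
      (G := Subgroup.centralizer ((P : Subgroup G) : Set G)) 2 (hC ▸ h2)
    rw [Subgroup.orderOf_mk] at hu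
    have hPu : (P : Subgroup G) ≤ Subgroup.centralizer ({u} : Set G) := fun y hy =>
      Subgroup.mem_centralizer_singleton_iff.mpr (Subgroup.mem_centralizer_iff.mp huC y hy)
    have hcu := cent_mem h hu (hP ▸ Subgroup.card_dvd_of_le hPu)
    set cu := Nat.card (Subgroup.centralizer ({u} : Set G)) with hcu'
    have hc11 : c ≠ 11 ∧ 11 ∣ c ∧ ¬ 11 ^ 2 ∣ c := by
      rcases hc' with rfl | rfl | rfl | rfl | rfl | rfl <;> norm_num
    have hlo := PrimeDegrees.two_mul_le_of_centralizer hG hP hC hc11.1 hc11.2.1 hc11.2.2 D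
    have hfam := D.fam_card
    have he : (e = 5 ∧ D.fam.card = 2) ∨ (e = 10 ∧ D.fam.card = 1) ∧
        (c = 11 * 72 ∨ c = 11 * 28 ∨ c = 11 * 6) := by
      rcases hl with hl | hl | hl | hl | hl | hl <;> obtain ⟨rfl, rfl⟩ := Prod.mk.inj hl <;>
        omega
    rcases he with ⟨rfl, ht⟩ | ⟨⟨rfl, ht⟩, hcV⟩
    · obtain ⟨s, hT, hd⟩ := exists_sums hG hP h D E ht hlo hu huC (by norm_num) hcu'.symm
      rw [Pairs.T_eq_zero hP D E (by norm_num) hrel (by decide) hu hu, zero_mul] at hT
      have h0 : tVal 443520 s = 0 := by exact_mod_cast hT.symm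
      have := hd (fun s => decide (tVal 443520 s = 0)) (decide_eq_true h0)
      rw [List.all_eq_true.mp dead_five _ hcu] at this
      exact Bool.noConfusion this
    · obtain ⟨s, hT, hd⟩ := exists_sums hG hP h D E ht hlo hu huC (by norm_num) hcu'.symm
      have hdead := List.all_eq_true.mp dead_ten _ hcu
      rw [Bool.or_eq_true, decide_eq_true_eq] at hdead
      rcases hdead with hdead | hdead
      · obtain ⟨j, hj, hsq⟩ := Pairs.exists_square hP D E (by norm_num) hrel hu
        rw [h, hC, ← hcu', hT, hdead] at hsq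
        have hle := Pairs.card_invCls_le (P := P) u
        rw [hj, hC] at hle
        obtain ⟨V, hV, rfl⟩ : ∃ V ∈ [72, 28, 6], c = 11 * V := by
          rcases hcV with h' | h' | h' <;> exact ⟨_, by simp, h'⟩
        have hz : tVal 443520 s * (V : ℤ) = 11 * ((4928 : ℕ) : ℤ) ^ 2 * (j : ℤ) ^ 2 := by
          have h' : tVal 443520 s * ((11 * V : ℕ) : ℤ) =
              ((11 ^ 2 * 4928 ^ 2 * j ^ 2 : ℕ) : ℤ) := by exact_mod_cast hsq
          push_cast at h' ⊢
          linarith
        have := hd (sq V 4928) (by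
          simp only [sq, List.any_eq_true, List.mem_range, decide_eq_true_eq]
          exact ⟨j, by omega, hz⟩)
        rw [hdead, List.all_eq_true.mp dead_ten_square V hV] at this
        exact Bool.noConfusion this
      · have := hd (fun _ => true) rfl
        rw [hdead] at this
        exact Bool.noConfusion this
  intro P
  have hP : Nat.card (P : Subgroup G) = 11 := by
    rw [Sylow.card_sylow_eq P (a := 1) (m := 40320) (by rw [h]; norm_num) (by norm_num), pow_one]
  have hN := Sylow.card_normalizer_mul P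
  rw [hn, h] at hN
  have hN' : Nat.card (Subgroup.normalizer ((P : Subgroup G) : Set G)) = 55 := by omega
  refine ⟨hP, hn, ?_, hN'⟩
  obtain ⟨e, c, he, he1, hc, hC, hce⟩ := Sylow.exists_normalizer_factor hG P hP
  rw [hN'] at hce
  obtain ⟨d, rfl⟩ := hc
  have he5 : e = 5 := by
    have h55 : e ∣ 55 := ⟨11 * d, by linarith⟩
    have := Nat.le_of_dvd (by norm_num) he
    interval_cases e <;> simp_all
  subst he5
  rw [hC]; omega

end Cfsg.Agent.Lib.RecogM22.Eleven
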