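import Cfsg.Agent.Lib.RecogM22.Options

/-!
All solutions of the bounded search for a family at one involution, as lists of pairs
(degree, value), and the comparison of the families of two primes, one of them self-centralising.
-/

set_option autoImplicit false
set_option linter.style.haveILetI false
set_option linter.unusedSectionVars false

namespace Cfsg.Agent.Lib.RecogM22.Fam

open Cfsg.Agent.Lib.Characters Cfsg.Agent.Lib.Characters.Basic
open Cfsg.Agent.Lib.Classif
open Cfsg.Agent.Lib.Classif.PrimeExceptional (deg apply_one_eq natAbs_deg)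
open Cfsg.Agent.Lib.RecogM22.Search Cfsg.Agent.Lib.RecogM22.Basic
open Cfsg.Agent.Lib.RecogThree.M12 (Full.Extra)

universe u

/-- All multisets of `n` items keeping `ok`. -/
def leaves {ι σ : Type*} (add : σ → ι → σ) (ok : σ → Bool) :
    List ι → ℕ → σ → List (List ι × σ)
  | [], n, s => if n = 0 then [([], s)] else []
  | it :: rest, n, s => (List.range (n + 1)).flatMap fun j =>
      if ok (rep add it j s) then
        (leaves add ok rest (n - j) (rep add it j s)).map fun l => (List.replicate j it ++ l.1, l.2)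
      else []

theorem leaves_complete {ι σ : Type*} [DecidableEq ι] {add : σ → ι → σ} {ok : σ → Bool}
    (hcomm : ∀ s a b, add (add s a) b = add (add s b) a)
    (hok : ∀ s it, ok (add s it) = true → ok s = true) :
    ∀ (items l : List ι) (s : σ), (∀ x ∈ l, x ∈ items) → ok (l.foldl add s) = true →
      ∃ l' : List ι, (l', l.foldl add s) ∈ leaves add ok items l.length s ∧ l'.Perm l
  | [], l, s, hl, _ => by
    rcases l with _ | ⟨x, l⟩
    · exact ⟨[], by simp [leaves], List.Perm.refl _⟩
    · exact absurd (hl x List.mem_cons_self) List.not_mem_nil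
  | it :: rest, l, s, hl, ho => by
    haveI : RightCommutative add := ⟨hcomm⟩
    have hperm : l.Perm (List.replicate (l.count it) it ++ l.filter (fun x => ! (x == it))) := by
      have h := (List.filter_append_perm (fun x => x == it) l).symm
      rwa [List.filter_beq] at h
    rw [hperm.foldl_eq, List.foldl_append, foldl_replicate] at ho
    have hlen : (l.filter fun x => ! (x == it)).length = l.length - l.count it := by
      have := hperm.length_eq
      rw [List.length_append, List.length_replicate] at this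
      omega
    obtain ⟨l₀, h0, hp⟩ := leaves_complete hcomm hok rest (l.filter fun x => ! (x == it)) _
      (fun x hx => by
        simp only [List.mem_filter, Bool.not_eq_true', beq_eq_false_iff_ne] at hx
        exact (List.mem_cons.mp (hl x hx.1)).resolve_left hx.2) ho
    refine ⟨List.replicate (l.count it) it ++ l₀, ?_, (List.Perm.append_left _ hp).trans hperm.symm⟩
    rw [hperm.foldl_eq, List.foldl_append, foldl_replicate]
    simp only [leaves, List.mem_flatMap, List.mem_range]
    refine ⟨l.count it, Nat.lt_succ_of_le List.count_le_length, ?_⟩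
    rw [if_pos (ok_foldl hok _ _ ho), ← hlen]
    exact List.mem_map.mpr ⟨_, h0, rfl⟩

/-- Admissible signed pairs; values congruent to one modulo `m`. -/
def items (g c p lo m : ℕ) : List (ℤ × ℤ) :=
  (cands g p lo 1).flatMap fun k => (vals g c m k 1).map fun w => (k, w)

/-- A signed pair as degree and value. -/
def flip (it : ℤ × ℤ) : ℤ × ℤ := if it.1 < 0 then (-it.1, -it.2) else it

/-- The families found by the search, as lists of degrees and values. -/
def fams (g c p e t lo m : ℕ) (extra : Sums → Bool) : List (List (ℤ × ℤ)) :=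
  ((leaves (add g) (ok g c) (items g c p lo m) (e - 1) (init g)).filter fun l =>
      fin g c p e t lo extra l.2).map fun l =>
    l.1.map flip ++ List.replicate t (flip (l.2.k, l.2.w))

/-- Some leaf satisfies `f`, without listing them. -/
def anyLeaf {ι σ : Type*} (add : σ → ι → σ) (ok : σ → Bool) (f : List ι → σ → Bool) :
    List ι → ℕ → σ → List ι → Bool
  | [], n, s, acc => n == 0 && f acc s
  | it :: rest, n, s, acc => (List.range (n + 1)).any fun j =>
      ok (rep add it j s) &&
        anyLeaf add ok f rest (n - j) (rep add it j s) (acc ++ List.replicate j it)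

theorem anyLeaf_eq {ι σ : Type*} (add : σ → ι → σ) (ok : σ → Bool) (f : List ι → σ → Bool) :
    ∀ (items : List ι) (n : ℕ) (s : σ) (acc : List ι),
      anyLeaf add ok f items n s acc =
        (leaves add ok items n s).any fun l => f (acc ++ l.1) l.2
  | [], n, s, acc => by
    by_cases h : n = 0 <;> simp [anyLeaf, leaves, h]
  | it :: rest, n, s, acc => by
    rw [anyLeaf, leaves, List.any_flatMap]
    congr 1
    funext j
    split_ifs with h
    · rw [h, Bool.true_and, anyLeaf_eq add ok f rest, List.any_map]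
      simp [Function.comp_def, List.append_assoc]
    · simp [Bool.eq_false_iff.mpr h]

/-- Every family found by the search is killed. -/
def allFams (g c p e t lo m : ℕ) (extra : Sums → Bool) (kill : List (ℤ × ℤ) → Bool) : Bool :=
  ! anyLeaf (add g) (ok g c) (fun l s => fin g c p e t lo extra s &&
      ! kill (l.map flip ++ List.replicate t (flip (s.k, s.w))))
    (items g c p lo m) (e - 1) (init g) []

theorem kill_of_allFams {g c p e t lo m : ℕ} {extra : Sums → Bool} {kill : List (ℤ × ℤ) → Bool}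
    (h : allFams g c p e t lo m extra kill = true) {L : List (ℤ × ℤ)}
    (hL : L ∈ fams g c p e t lo m extra) : kill L = true := by
  rw [allFams, anyLeaf_eq, Bool.not_eq_true', List.any_eq_false] at h
  obtain ⟨l, hl, rfl⟩ := List.mem_map.mp hL
  obtain ⟨hl, hf⟩ := List.mem_filter.mp hl
  have := h l hl
  simpa [hf] using this

/-- Some family contains the given signed pair. -/
def forced (g c p e t lo m : ℕ) (extra : Sums → Bool) (x : ℤ × ℤ) : Bool :=
  anyLeaf (add g) (ok g c) (fun _ s => fin g c p e t lo extra s) (items g c p lo m) (e - 2)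
    (add g (init g) x) []

/-- The union of two multisets. -/
def merge (A B : List (ℤ × ℤ)) : List (ℤ × ℤ) := A ++ B.diff A

/-- Squares of the degrees. -/
def degSq (L : List (ℤ × ℤ)) : ℤ := (L.map fun x => x.1 * x.1).sum

/-- Squares of the values. -/
def valSq (L : List (ℤ × ℤ)) : ℤ := (L.map fun x => x.2 * x.2).sum

/-- The first list cannot lie with the second in one table: a degree prime to `q` outside the
family at `q`, or too many squares. -/
def clash (g c q : ℕ) (A B : List (ℤ × ℤ)) : Bool :=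
  ! ((A.filter fun x => decide (x.1 % (q : ℤ) ≠ 0)).diff B).isEmpty ||
    decide ((g : ℤ) < 1 + degSq (merge A B)) || decide ((c : ℤ) < 1 + valSq (merge A B))

variable {G : Type u} [Group G] [Finite G]

open Classical in
/-- The value as an integer, if it is one. -/
noncomputable def val (u : G) (χ : Cfsg.IrrCharacter G) : ℤ :=
  if h : ∃ v : ℤ, (χ : G → ℂ) u = v then h.choose else 0

theorem val_eq {u : G} {χ : Cfsg.IrrCharacter G} {v : ℤ} (h : (χ : G → ℂ) u = v) : val u χ = v := by
  have h' : ∃ v : ℤ, (χ : G → ℂ) u = v := ⟨v, h⟩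
  rw [val, dif_pos h']
  exact_mod_cast h'.choose_spec.symm.trans h

theorem map_subperm {α β : Type*} (f : α → β) {l₁ l₂ : List α} (h : l₁.Subperm l₂) :
    (l₁.map f).Subperm (l₂.map f) :=
  let ⟨l, hp, hs⟩ := h
  ⟨l.map f, hp.map f, hs.map f⟩

/-- Degree and value. -/
noncomputable def dv (u : G) (χ : Cfsg.IrrCharacter G) : ℤ × ℤ := (deg χ, val u χ)

/-- The pairs of a set of characters. -/
noncomputable def pairsOf (u : G) (S : Finset (Cfsg.IrrCharacter G)) : List (ℤ × ℤ) :=
  S.toList.map (dv u)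

theorem pairsOf_subperm {u : G} {S T : Finset (Cfsg.IrrCharacter G)} (h : S ⊆ T) :
    (pairsOf u S).Subperm (pairsOf u T) := by
  classical
  exact map_subperm _ (List.Nodup.subperm S.nodup_toList fun x hx =>
    Finset.mem_toList.mpr (h (Finset.mem_toList.mp hx)))

theorem merge_subperm {A B S : List (ℤ × ℤ)} (hA : A.Subperm S) (hB : B.Subperm S) :
    (merge A B).Subperm S := by
  have hS : (A ++ S.diff A).Perm S :=
    List.subperm_append_diff_self_of_count_le fun x _ => hA.count_le x
  exact ((List.subperm_append_left A).mpr (hB.diff_right A)).trans hS.subperm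

theorem diff_eq_nil {A B : List (ℤ × ℤ)} (h : A.Subperm B) : A.diff B = [] := by
  have h1 := h.diff_right B
  have h2 : (B ++ B.diff B).Perm B := List.subperm_append_diff_self_of_count_le fun x _ => le_rfl
  have h3 : B.diff B = [] := by
    have := h2.length_eq
    rw [List.length_append] at this
    exact List.length_eq_zero_iff.mp (by omega)
  rw [h3] at h1
  exact List.subperm_nil.mp h1

theorem sum_map_le {A S : List (ℤ × ℤ)} (h : A.Subperm S) (f : ℤ × ℤ → ℤ) (hf : ∀ x, 0 ≤ f x) :
    (A.map f).sum ≤ (S.map f).sum := by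
  obtain ⟨A', hp, hs⟩ := h
  rw [← (hp.map f).sum_eq]
  refine (hs.map f).sum_le_sum fun x hx => ?_
  obtain ⟨y, -, rfl⟩ := List.mem_map.mp hx
  exact hf y

/-- The squares of any part of the table are bounded. -/
theorem sq_le {u : G} {L : List (ℤ × ℤ)} {S : Finset (Cfsg.IrrCharacter G)}
    (h1 : oneChar G ∉ S) (hS : ∀ χ ∈ S, ∃ v : ℤ, (χ : G → ℂ) u = v)
    (hL : L.Subperm (pairsOf u S)) :
    1 + degSq L ≤ (Nat.card G : ℤ) ∧
      1 + valSq L ≤ (Nat.card (Subgroup.centralizer ({u} : Set G)) : ℤ) := by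
  classical
  haveI := Fintype.ofFinite G
  haveI := Fintype.ofFinite (Cfsg.IrrCharacter G)
  have hd := sum_map_le hL (fun x => x.1 * x.1) fun x => mul_self_nonneg _
  have hv := sum_map_le hL (fun x => x.2 * x.2) fun x => mul_self_nonneg _
  simp only [pairsOf, List.map_map, Finset.sum_map_toList, Function.comp_apply, dv] at hd hv
  constructor
  · rw [← PrimeExceptional.sum_deg_sq (G := G)]
    refine le_trans ?_ (Finset.sum_le_sum_of_subset_of_nonneg
      (Finset.subset_univ (insert (oneChar G) S)) fun χ _ _ => sq_nonneg (deg χ))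
    rw [Finset.sum_insert h1, PrimeExceptional.deg_oneChar, one_pow]
    simp only [pow_two]
    exact add_le_add le_rfl hd
  · have h := Complete.sum_irr_mul_conj u u
    rw [if_pos (IsConj.refl u)] at h
    have hre : ∑ χ : Cfsg.IrrCharacter G, Complex.normSq ((χ : G → ℂ) u) =
        (Nat.card (Subgroup.centralizer ({u} : Set G)) : ℝ) := by
      apply Complex.ofReal_injective
      push_cast
      rw [← h]
      exact Finset.sum_congr rfl fun χ _ => (Complex.mul_conj _).symm
    have hle := Finset.sum_le_sum_of_subset_of_nonneg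
      (Finset.subset_univ (insert (oneChar G) S))
      fun χ _ _ => Complex.normSq_nonneg ((χ : G → ℂ) u)
    rw [hre, Finset.sum_insert h1, oneChar_apply, map_one,
      Finset.sum_congr rfl (g := fun χ => ((val u χ * val u χ : ℤ) : ℝ)) fun χ hχ => by
        obtain ⟨v, hv'⟩ := hS χ hχ
        rw [val_eq hv', hv', show ((v : ℤ) : ℂ) = ((v : ℝ) : ℂ) by simp, Complex.normSq_ofReal]
        push_cast; ring,
      ← Int.cast_sum, ← Int.cast_one (R := ℝ), ← Int.cast_add,
      ← Int.cast_natCast (R := ℝ), Int.cast_le] at hle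
    refine le_trans ?_ hle
    exact add_le_add le_rfl hv

/-- The comparison never fails for actual families. -/
theorem clash_eq_false [IsSimpleGroup G] {u : G} {g c q : ℕ} [Fact q.Prime] {Q : Sylow q G}
    (hQ : Nat.card (Q : Subgroup G) = q)
    (hCQ : Subgroup.centralizer ((Q : Subgroup G) : Set G) = Q) {eq : ℕ}
    (Dq : FirstPowerData.Data Q eq) {S S' : Finset (Cfsg.IrrCharacter G)}
    (h1 : oneChar G ∉ S) (hsub : ∀ χ, χ ∈ Dq.K ∨ χ ∈ Dq.fam → χ ∈ S') (h1' : oneChar G ∉ S')
    (hS : ∀ χ, χ ≠ oneChar G → ∃ v : ℤ, (χ : G → ℂ) u = v)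
    {A B : List (ℤ × ℤ)} (hA : A.Subperm (pairsOf u S)) (hB : B.Perm (pairsOf u S'))
    (hg : Nat.card G = g) (hc : Nat.card (Subgroup.centralizer ({u} : Set G)) = c) :
    clash g c q A B = false := by
  classical
  have hU : oneChar G ∉ S ∪ S' := by simp [h1, h1']
  have hA' : A.Subperm (pairsOf u (S ∪ S')) :=
    hA.trans (pairsOf_subperm Finset.subset_union_left)
  have hB' : B.Subperm (pairsOf u (S ∪ S')) :=
    hB.subperm.trans (pairsOf_subperm Finset.subset_union_right)
  obtain ⟨hd, hv⟩ := sq_le hU (fun χ hχ => hS χ fun e => hU (e ▸ hχ)) (merge_subperm hA' hB')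
  rw [hg] at hd
  rw [hc] at hv
  have hnil : (A.filter fun x => decide (x.1 % (q : ℤ) ≠ 0)).diff B = [] := by
    refine diff_eq_nil ((hA.filter _).trans ?_)
    refine List.Subperm.trans ?_ hB.symm.subperm
    rw [pairsOf, List.filter_map]
    refine map_subperm _ (List.Nodup.subperm (S.nodup_toList.filter _) fun χ hχ => ?_)
    simp only [List.mem_filter, Finset.mem_toList, Function.comp_apply, dv,
      decide_eq_true_eq] at hχ ⊢
    by_contra hn
    refine of_decide_eq_true hχ.2 (Int.emod_eq_zero_of_dvd ?_)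
    exact PrimeDegrees.dvd_deg_of_other hQ hCQ Dq χ (fun e => h1 (e ▸ hχ.1))
      (fun e => hn (hsub χ (Or.inl e))) (fun e => hn (hsub χ (Or.inr e)))
  simp only [clash, hnil, List.isEmpty_nil, Bool.not_true, Bool.false_or, Bool.or_eq_false_iff,
    decide_eq_false_iff_not, not_lt]
  exact ⟨hd, hv⟩

variable [IsSimpleGroup G] (hG : ¬ IsMulCommutative G) {p : ℕ} [hp : Fact p.Prime]
  {P : Sylow p G} (hP : Nat.card (P : Subgroup G) = p)

include hG in
theorem exists_val {u : G} (hu : orderOf u = 2) (χ : Cfsg.IrrCharacter G) :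
    ∃ v : ℤ, (χ : G → ℂ) u = v := by
  by_cases h : χ = oneChar G
  · exact ⟨1, by rw [h, oneChar_apply, Int.cast_one]⟩
  · obtain ⟨v, hv, -⟩ := RecogThree.M12.Basic.involution hG χ h hu
    exact ⟨v, hv⟩

open scoped Classical in
include hG hP in
/-- The family at an involution occurs among the solutions of the search. -/
theorem exists_fam {e t lo m g : ℕ} (hg : Nat.card G = g) (D : FirstPowerData.Data P e)
    (E : Full.Extra P D) (ht : D.fam.card = t)
    (hlo : (∀ χ ∈ D.K, lo ≤ (deg χ).natAbs) ∧ lo ≤ (deg D.θ).natAbs)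
    {u : G} (hu : orderOf u = 2) (hp2 : p ≠ 2)
    (hm : m = 1 ∨ (m = p ∧ u ∈ Subgroup.centralizer ((P : Subgroup G) : Set G))) {c : ℕ}
    (hc : Nat.card (Subgroup.centralizer ({u} : Set G)) = c) :
    ∃ s : Sums, Pairs.T D u u * (g : ℂ) = ((tVal g s : ℤ) : ℂ) ∧
      ∀ extra : Sums → Bool, extra s = true → (∃ L ∈ fams g c p e t lo m extra,
        L.Perm (pairsOf u (D.K ∪ D.fam))) ∧ ∀ χ ∈ D.K,
          forced g c p e t lo m extra (D.a χ * deg χ, D.a χ * val u χ) = true := by
  classical
  haveI := Fintype.ofFinite G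
  have hperf := Cfsg.Agent.Lib.SmallGroups.Sylow.commutator_eq_top hG
  have hu' : ¬ p ∣ orderOf u := by
    rw [hu]; exact fun h => hp2 ((Nat.prime_dvd_prime_iff_eq hp.out Nat.prime_two).mp h)
  have hval : ∀ χ : Cfsg.IrrCharacter G, χ ≠ oneChar G → (χ : G → ℂ) u = val u χ ∧
      (4 : ℤ) ∣ deg χ - val u χ ∧ |val u χ| < deg χ ∧
      deg χ ∣ ((g / c : ℕ) : ℤ) * val u χ := by
    intro χ hχ
    obtain ⟨v, h1, h2, h3, h4⟩ := RecogThree.M12.Basic.involution hG χ hχ hu
    rw [val_eq h1]
    refine ⟨h1, h2, h3, ?_⟩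
    rwa [show g / c = (Subgroup.centralizer ({u} : Set G)).index by
      rw [← hc, ← hg, ← Subgroup.index_mul_card (Subgroup.centralizer ({u} : Set G)),
        Nat.mul_div_cancel _ Nat.card_pos]]
  have hK1 : ∀ χ ∈ D.K, χ ≠ oneChar G := fun χ h h' => D.one_not_mem (h' ▸ h)
  set f : Cfsg.IrrCharacter G → ℤ × ℤ := fun χ => (D.a χ * deg χ, D.a χ * val u χ) with hf
  set l := D.K.toList.map f with hl
  set s := l.foldl (add (g : ℤ)) (init g) with hs
  have hcardK := D.card_K
  have hlen : l.length = e - 1 := by simp [hl]; omega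
  have hsum : ∀ F : ℤ × ℤ → ℤ, (l.map F).sum = ∑ χ ∈ D.K, F (f χ) := fun F => by
    rw [hl, List.map_map, Finset.sum_map_toList]; rfl
  have hsq : ∀ {a x : ℤ}, a = 1 ∨ a = -1 → a * x * (a * x) = x * x := by
    rintro a x (rfl | rfl) <;> ring
  obtain ⟨hθv, hθ4, hθlt, hθd⟩ := hval D.θ D.θ_ne_one
  set wθ := val u D.θ with hwθ
  have hk : s.k = D.δ * deg D.θ := by
    rw [hs, foldl_add, ← D.degree_eq]
    simp only [init, hsum, hf]
  have hw : s.w = D.δ * wθ := by
    have hw' : (s.w : ℂ) = (D.δ : ℂ) * (D.θ : G → ℂ) u := by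
      rw [hs, foldl_add, ← D.rel u hu']
      simp only [init, hsum, hf]
      push_cast
      congr 1
      exact Finset.sum_congr rfl fun χ hχ => by rw [(hval χ (hK1 χ hχ)).1]
    rw [hθv] at hw'; exact_mod_cast hw'
  have hkk : s.kk = 1 + ∑ χ ∈ D.K, deg χ ^ 2 := by
    rw [hs, foldl_add]
    simp only [init, hsum, hf]
    congr 1
    exact Finset.sum_congr rfl fun χ hχ => by rw [hsq (D.a_unit χ hχ), pow_two]
  have hww : s.ww = 1 + ∑ χ ∈ D.K, val u χ ^ 2 := by
    rw [hs, foldl_add]
    simp only [init, hsum, hf]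
    congr 1
    exact Finset.sum_congr rfl fun χ hχ => by rw [hsq (D.a_unit χ hχ), pow_two]
  have hdvd : ∀ χ : Cfsg.IrrCharacter G, (deg χ) ∣ (g : ℤ) := fun χ => by
    rw [← Int.natAbs_dvd_natAbs, natAbs_deg, Int.natAbs_natCast, ← hg]
    exact H80.ClassMult.charDegree_dvd_card χ
  have hpos : ∀ χ : Cfsg.IrrCharacter G, χ ≠ oneChar G → 2 ≤ deg χ := fun χ hχ =>
    PrimeExceptional.two_le_deg hperf χ hχ
  have hterm : ∀ (a : ℤ) (χ : Cfsg.IrrCharacter G), χ ≠ oneChar G → a = 1 ∨ a = -1 →
      ((a * val u χ * (a * val u χ) * ((g : ℤ) / (a * deg χ)) : ℤ) : ℂ) =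
        (g : ℂ) * ((a : ℂ) * ((χ : G → ℂ) u * (χ : G → ℂ) u / (deg χ : ℂ))) := by
    intro a χ hχ ha
    have h2 := hpos χ hχ
    rw [hsq ha, Int.cast_mul]
    have hd : a * deg χ ∣ (g : ℤ) := by
      rcases ha with rfl | rfl
      · simpa using hdvd χ
      · simpa using hdvd χ
    rw [Int.cast_div hd (by rcases ha with rfl | rfl <;> push_cast <;>
      simp <;> omega), (hval χ hχ).1]
    have : (deg χ : ℂ) ≠ 0 := Int.cast_ne_zero.mpr (by omega)
    rcases ha with rfl | rfl <;> push_cast <;> field_simp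
  have hT : Pairs.T D u u * (g : ℂ) = ((tVal g s : ℤ) : ℂ) := by
    rw [tVal, hk, hw, Int.cast_sub, hterm D.δ D.θ D.θ_ne_one D.δ_unit, hs, foldl_add]
    simp only [init, hsum, hf]
    rw [Int.cast_add, Int.cast_sum, Finset.sum_congr rfl fun χ hχ =>
      hterm (D.a χ) χ (hK1 χ hχ) (D.a_unit χ hχ), ← Finset.mul_sum, Pairs.T]
    push_cast
    ring
  refine ⟨s, hT, fun extra hextra => ?_⟩
  have hsqsum := D.square_sum
  have hcen := D.centralizer_le hu' (val u) wθ (fun χ hχ => (hval χ (hK1 χ hχ)).1) hθv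
  rw [hg, ht] at hsqsum
  rw [hc, ht] at hcen
  have hθ0 : 0 ≤ (t : ℤ) * (deg D.θ ^ 2) := mul_nonneg (Int.natCast_nonneg _) (sq_nonneg _)
  have hθ1 : 0 ≤ (t : ℤ) * (wθ ^ 2) := mul_nonneg (Int.natCast_nonneg _) (sq_nonneg _)
  have hmem : ∀ x ∈ l, x ∈ items g c p lo m := by
    intro x hx
    simp only [hl, List.mem_map, Finset.mem_toList] at hx
    obtain ⟨χ, hχ, rfl⟩ := hx
    obtain ⟨h1, h4, hlt, hd⟩ := hval χ (hK1 χ hχ)
    have hpk : (p : ℤ) ∣ D.a χ * deg χ - 1 := (FirstPowerKills.signed_facts hperf hP D hχ).1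
    have hmw : (m : ℤ) ∣ D.a χ * val u χ - 1 := by
      rcases hm with rfl | ⟨rfl, huC⟩
      · exact one_dvd _
      have h := D.value_cong hP hχ huC hu'
      rw [h1, ← Int.cast_sub] at h
      have h' := FirstPowerData.int_dvd_of_isIntegral hp.out.ne_zero h
      rcases D.a_unit χ hχ with e' | e' <;> rw [e'] at h' ⊢
      · simpa using h'
      · have := h'.neg_right; simpa [sub_eq_add_neg, add_comm] using this
    simp only [items, List.mem_flatMap, List.mem_map, hf]
    have habs : (D.a χ * deg χ).natAbs = (deg χ).natAbs := by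
      rcases D.a_unit χ hχ with e' | e' <;> simp [e']
    have habsv : (D.a χ * val u χ).natAbs = (val u χ).natAbs := by
      rcases D.a_unit χ hχ with e' | e' <;> simp [e']
    refine ⟨_, mem_cands (by rw [habs]; exact hlo.1 χ hχ) ?_ ?_ hpk, _,
      mem_vals ?_ ?_ hmw ?_ ?_, rfl⟩
    · rw [habs, ← Int.natAbs_natCast g, Int.natAbs_dvd_natAbs]; exact hdvd χ
    · rw [hsq (D.a_unit χ hχ)]
      have := Finset.single_le_sum (f := fun χ => deg χ ^ 2) (fun _ _ => sq_nonneg _) hχ
      nlinarith
    · rw [habs, habsv]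
      have := abs_lt.mp hlt
      omega
    · rw [← mul_sub]; exact Dvd.dvd.mul_left h4 _
    · rcases D.a_unit χ hχ with e' | e' <;> rw [e'] <;> simpa using hd
    · rw [hsq (D.a_unit χ hχ)]
      have := Finset.single_le_sum (f := fun χ => val u χ ^ 2) (fun _ _ => sq_nonneg _) hχ
      nlinarith
  have habs : (D.δ * deg D.θ).natAbs = (deg D.θ).natAbs := by
    rcases D.δ_unit with e' | e' <;> simp [e']
  have habsv : (D.δ * wθ).natAbs = wθ.natAbs := by
    rcases D.δ_unit with e' | e' <;> simp [e']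
  have hfin : fin g c p e t lo extra s = true := by
    simp only [fin, Bool.and_eq_true, decide_eq_true_eq, hk, hw, hextra, and_true, habs, habsv,
      hsq D.δ_unit]
    refine ⟨⟨⟨⟨⟨⟨⟨hlo.2, Nat.mod_eq_zero_of_dvd ?_⟩,
      Int.emod_eq_zero_of_dvd (D.θ_cong hP)⟩, ?_⟩, Int.emod_eq_zero_of_dvd ?_⟩,
      Int.emod_eq_zero_of_dvd ?_⟩, ?_⟩, ?_⟩
    · rw [← Int.natAbs_natCast g, Int.natAbs_dvd_natAbs]; exact hdvd D.θ
    · have := abs_lt.mp hθlt
      omega
    · rw [← mul_sub]; exact Dvd.dvd.mul_left hθ4 _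
    · rcases D.δ_unit with e' | e' <;> rw [e'] <;> simpa using hθd
    · rw [hkk]; linarith [hsqsum]
    · rw [hww]; linarith [hcen]
  have hok : ok g c (l.foldl (add (g : ℤ)) (init g)) = true := by
    rw [ok, Bool.and_eq_true, decide_eq_true_iff, decide_eq_true_iff, ← hs, hkk, hww]
    exact ⟨by linarith, by linarith⟩
  obtain ⟨l', hl', hperm⟩ := leaves_complete (add_comm' (g : ℤ)) (ok_mono (g : ℤ) c)
    (items g c p lo m) l (init g) hmem hok
  rw [hlen, ← hs] at hl'
  refine ⟨⟨_, List.mem_map.mpr ⟨_, List.mem_filter.mpr ⟨hl', hfin⟩, rfl⟩, ?_⟩, fun χ₀ hχ₀ => ?_⟩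
  swap
  · haveI : RightCommutative (add (g : ℤ)) := ⟨add_comm' (g : ℤ)⟩
    have hmem₀ : f χ₀ ∈ l := List.mem_map.mpr ⟨χ₀, Finset.mem_toList.mpr hχ₀, rfl⟩
    have hp₀ := List.perm_cons_erase hmem₀
    have hs₀ : (l.erase (f χ₀)).foldl (add (g : ℤ)) (add g (init g) (f χ₀)) = s := by
      rw [hs, hp₀.foldl_eq, List.foldl_cons]
    obtain ⟨l₀, hl₀, -⟩ := leaves_complete (add_comm' (g : ℤ)) (ok_mono (g : ℤ) c)
      (items g c p lo m) (l.erase (f χ₀)) (add g (init g) (f χ₀))
      (fun x hx => hmem x (List.mem_of_mem_erase hx)) (by rw [hs₀, hs]; exact hok)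
    rw [hs₀, List.length_erase_of_mem hmem₀, hlen, Nat.sub_sub] at hl₀
    rw [forced, anyLeaf_eq, List.any_eq_true]
    exact ⟨_, hl₀, hfin⟩
  have hflip : ∀ (a : ℤ) (χ : Cfsg.IrrCharacter G), χ ≠ oneChar G → a = 1 ∨ a = -1 →
      flip (a * deg χ, a * val u χ) = dv u χ := by
    intro a χ hχ ha
    have := hpos χ hχ
    rcases ha with rfl | rfl <;> simp [flip, dv] <;> omega
  have h1 : (l'.map flip).Perm (pairsOf u D.K) := by
    refine (hperm.map flip).trans (List.Perm.of_eq ?_)
    rw [hl, List.map_map]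
    exact List.map_congr_left fun χ hχ =>
      hflip _ χ (hK1 χ (Finset.mem_toList.mp hχ)) (D.a_unit χ (Finset.mem_toList.mp hχ))
  have h2 : List.replicate t (flip (s.k, s.w)) = pairsOf u D.fam := by
    symm
    rw [List.eq_replicate_iff]
    refine ⟨by simp [pairsOf, ht], fun x hx => ?_⟩
    simp only [pairsOf, List.mem_map, Finset.mem_toList] at hx
    obtain ⟨θ', hθ', rfl⟩ := hx
    rw [hk, hw, hflip D.δ D.θ D.θ_ne_one D.δ_unit, dv, dv, D.fam_deg θ' hθ']
    congr 1
    exact val_eq (by rw [D.fam_regular θ' hθ' u hu', hθv])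
  refine (h1.append_right _).trans ?_
  rw [h2, pairsOf, pairsOf, pairsOf, ← List.map_append]
  refine List.Perm.map _ ((List.perm_ext_iff_of_nodup ?_ (Finset.nodup_toList _)).mpr fun x => by
    simp)
  exact List.nodup_append'.mpr ⟨Finset.nodup_toList _, Finset.nodup_toList _,
    fun x hx hy => Finset.disjoint_left.mp D.fam_disj (Finset.mem_toList.mp hx)
      (Finset.mem_toList.mp hy)⟩

end Cfsg.Agent.Lib.RecogM22.Fam
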