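import Cfsg.Agent.Lib.RecogM22.Fam

/-!
Searches for families with admissible members, the signed degrees being given as a list, and for
completions of a part of a family.
-/

set_option autoImplicit false

namespace Cfsg.Agent.Lib.RecogM22.Filter

open Cfsg.Agent.Lib.RecogM22.Search Cfsg.Agent.Lib.RecogM22.Basic Cfsg.Agent.Lib.RecogM22.Fam

/-- Members of a leaf are items, their number and sums are the recorded ones. -/
theorem leaves_sound {ι σ : Type*} {add : σ → ι → σ} {ok : σ → Bool} :
    ∀ {items : List ι} {n : ℕ} {s : σ} {l : List ι × σ}, ok s = true →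
      l ∈ leaves add ok items n s →
        (∀ x ∈ l.1, x ∈ items) ∧ l.1.length = n ∧ l.1.foldl add s = l.2 ∧ ok l.2 = true
  | [], n, s, l, hs, h => by
    by_cases hn : n = 0
    · simp only [leaves, hn, if_true, List.mem_singleton] at h
      subst h
      simp [hn, hs]
    · simp [leaves, hn] at h
  | it :: rest, n, s, l, hs, h => by
    simp only [leaves, List.mem_flatMap, List.mem_range] at h
    obtain ⟨j, hj, h⟩ := h
    by_cases hr : ok (rep add it j s) = true
    · rw [if_pos hr, List.mem_map] at h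
      obtain ⟨l', hl', rfl⟩ := h
      obtain ⟨h1, h2, h3, h4⟩ := leaves_sound hr hl'
      refine ⟨fun x hx => ?_, ?_, ?_, h4⟩
      · rcases List.mem_append.mp hx with hx | hx
        · rw [List.eq_of_mem_replicate hx]; exact List.mem_cons_self
        · exact List.mem_cons_of_mem _ (h1 x hx)
      · simp only [List.length_append, List.length_replicate, h2]; omega
      · rw [List.foldl_append, foldl_replicate, h3]
    · rw [if_neg hr] at h
      exact absurd h List.not_mem_nil

/-- The items with signed degrees in `ks` and admissible member. -/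
def itemsF (g c m : ℕ) (ks : List ℤ) (one : ℤ × ℤ → Bool) : List (ℤ × ℤ) :=
  (ks.flatMap fun k => (vals g c m k 1).map fun w => (k, w)).filter fun x => one (flip x)

/-- Every family with admissible members is killed. -/
def allFamsF (g c p e t lo m : ℕ) (extra : Sums → Bool) (ks : List ℤ) (one : ℤ × ℤ → Bool)
    (kill : List (ℤ × ℤ) → Bool) : Bool :=
  ! anyLeaf (add g) (ok g c) (fun l s => fin g c p e t lo extra s &&
      ! kill (l.map flip ++ List.replicate t (flip (s.k, s.w))))
    (itemsF g c m ks one) (e - 1) (init g) []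

/-- The leaf of an admissible family, in the restricted items. -/
theorem exists_leaf {g c p e t lo m : ℕ} {extra : Sums → Bool} {ks : List ℤ}
    {one : ℤ × ℤ → Bool} (hks : cands g p lo 1 = ks) (hc : 0 < c) (hg : 0 < g) {L : List (ℤ × ℤ)}
    (hL : L ∈ fams g c p e t lo m extra) (hone : ∀ x ∈ L, one x = true) :
    ∃ (l : List (ℤ × ℤ)) (s : Sums), L = l.map flip ++ List.replicate t (flip (s.k, s.w)) ∧
      fin g c p e t lo extra s = true ∧ (∀ x ∈ l, x ∈ itemsF g c m ks one) ∧
      l.length = e - 1 ∧ l.foldl (add (g : ℤ)) (init g) = s ∧ ok (g : ℤ) c s = true := by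
  obtain ⟨l, hl, rfl⟩ := List.mem_map.mp hL
  obtain ⟨hl, hf⟩ := List.mem_filter.mp hl
  have h0 : ok (g : ℤ) c (init g) = true := by
    rw [ok, init, Bool.and_eq_true]
    exact ⟨decide_eq_true (by show (1 : ℤ) ≤ g; omega), decide_eq_true (by show (1 : ℤ) ≤ c; omega)⟩
  obtain ⟨hmem, hlen, hsum, hok⟩ := leaves_sound h0 hl
  refine ⟨l.1, l.2, rfl, hf, fun x hx => List.mem_filter.mpr ⟨?_,
    hone _ (List.mem_append_left _ (List.mem_map.mpr ⟨x, hx, rfl⟩))⟩, hlen, hsum, hok⟩
  rw [← hks]
  exact hmem x hx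

/-- The restricted search finds a permutation of every admissible family. -/
theorem exists_kill {g c p e t lo m : ℕ} {extra : Sums → Bool} {ks : List ℤ}
    {one : ℤ × ℤ → Bool} {kill : List (ℤ × ℤ) → Bool}
    (h : allFamsF g c p e t lo m extra ks one kill = true) (hks : cands g p lo 1 = ks) (hc : 0 < c)
    (hg : 0 < g) {L : List (ℤ × ℤ)} (hL : L ∈ fams g c p e t lo m extra)
    (hone : ∀ x ∈ L, one x = true) : ∃ L', L'.Perm L ∧ kill L' = true := by
  obtain ⟨l, s, rfl, hf, hmem, hlen, hsum, hok⟩ := exists_leaf hks hc hg hL hone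
  obtain ⟨l', hl', hperm⟩ := leaves_complete (add_comm' (g : ℤ)) (ok_mono (g : ℤ) c) _ l
    (init g) hmem (by rw [hsum]; exact hok)
  rw [hlen, hsum] at hl'
  refine ⟨l'.map flip ++ List.replicate t (flip (s.k, s.w)), (hperm.map flip).append_right _, ?_⟩
  rw [allFamsF, anyLeaf_eq, Bool.not_eq_true', List.any_eq_false] at h
  simpa [hf] using h _ hl'

/-- A degree of a member outside the exceptional part. -/
def isK (p : ℕ) (x : ℤ × ℤ) : Bool :=
  decide ((x.1 - 1) % (p : ℤ) = 0) || decide ((x.1 + 1) % (p : ℤ) = 0)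

/-- The signed pair of such a member. -/
def sgn (p : ℕ) (x : ℤ × ℤ) : ℤ × ℤ := if (x.1 - 1) % (p : ℤ) = 0 then x else (-x.1, -x.2)

/-- The signed pairs of the members outside the exceptional part among `M`. -/
def forcedK (p : ℕ) (M : List (ℤ × ℤ)) : List (ℤ × ℤ) := (M.filter (isK p)).map (sgn p)

/-- No admissible family contains `M`. -/
def noFamWith (g c p e t lo m : ℕ) (extra : Sums → Bool) (ks : List ℤ) (one : ℤ × ℤ → Bool)
    (M : List (ℤ × ℤ)) : Bool :=
  decide (e - 1 < (forcedK p M).length) ||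
    ! anyLeaf (add g) (ok g c) (fun _ s => fin g c p e t lo extra s) (itemsF g c m ks one)
      (e - 1 - (forcedK p M).length) ((forcedK p M).foldl (add g) (init g)) []

/-- The rest of an admissible family containing `M`, as a leaf after the forced members. -/
theorem exists_rest {g c p e t lo m : ℕ} {extra : Sums → Bool} {ks : List ℤ}
    {one : ℤ × ℤ → Bool} {M L : List (ℤ × ℤ)} (hks : cands g p lo 1 = ks) (hc : 0 < c) (hg : 0 < g)
    (hp : 2 < p) (he : (e : ℤ) % p ≠ 1 ∧ (e : ℤ) % p ≠ (p : ℤ) - 1)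
    (hL : L ∈ fams g c p e t lo m extra) (hone : ∀ x ∈ L, one x = true) (hM : M.Subperm L) :
    ∃ (r : List (ℤ × ℤ)) (s : Sums), (forcedK p M).length ≤ e - 1 ∧
      fin g c p e t lo extra s = true ∧
      (r, s) ∈ leaves (add (g : ℤ)) (ok (g : ℤ) c) (itemsF g c m ks one)
        (e - 1 - (forcedK p M).length) ((forcedK p M).foldl (add (g : ℤ)) (init g)) ∧
      ((forcedK p M ++ r).map flip ++ List.replicate t (flip (s.k, s.w))).Perm L := by
  obtain ⟨l, s, rfl, hf, hmem, hlen, hsum, hok⟩ := exists_leaf hks hc hg hL hone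
  have hneg : ∀ k : ℤ, (k - 1) % (p : ℤ) = 0 → ¬ (-k - 1) % (p : ℤ) = 0 := fun k h1 h2 => by
    have h3 := Int.dvd_add (Int.dvd_of_emod_eq_zero h1) (Int.dvd_of_emod_eq_zero h2)
    rw [show k - 1 + (-k - 1) = -2 by ring, dvd_neg] at h3
    have := Int.le_of_dvd (by norm_num) h3
    omega
  have hk1 : ∀ x ∈ l, (x.1 - 1) % (p : ℤ) = 0 := by
    intro x hx
    have h' := (List.mem_filter.mp (hmem x hx)).1
    rw [← hks] at h'
    simp only [List.mem_flatMap, List.mem_map, cands, List.mem_filter, List.mem_cons,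
      decide_eq_true_eq] at h'
    obtain ⟨k, ⟨d, -, -, hk⟩, w, -, rfl⟩ := h'
    exact hk
  have hisK : ∀ x ∈ l, isK p (flip x) = true ∧ sgn p (flip x) = x := by
    intro x hx
    have h1 := hk1 x hx
    rw [Fam.flip]
    split_ifs with hneg'
    · refine ⟨?_, ?_⟩
      · rw [isK, show -x.1 + 1 = -(x.1 - 1) by ring, Int.neg_emod_eq_sub_emod]
        have := Int.dvd_of_emod_eq_zero h1
        simp only [Bool.or_eq_true, decide_eq_true_eq]
        right
        rw [Int.sub_emod, h1]
        simp
      · rw [sgn, if_neg (hneg _ h1)]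
        simp
    · exact ⟨by simp [isK, h1], by rw [sgn, if_pos h1]⟩
  have hθ : ∀ x ∈ List.replicate t (flip (s.k, s.w)), ¬ isK p x = true := by
    intro x hx hK
    rw [List.eq_of_mem_replicate hx] at hK
    simp only [fin, Bool.and_eq_true, decide_eq_true_eq] at hf
    have hse : (p : ℤ) ∣ s.k - e := Int.dvd_of_emod_eq_zero hf.1.1.1.1.1.1.2
    have key : (p : ℤ) ∣ (e : ℤ) - 1 ∨ (p : ℤ) ∣ (e : ℤ) + 1 := by
      have hor : (p : ℤ) ∣ s.k - 1 ∨ (p : ℤ) ∣ s.k + 1 := by
        simp only [isK, Fam.flip, Bool.or_eq_true, decide_eq_true_eq] at hK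
        by_cases hn : s.k < 0
        · rw [if_pos hn] at hK
          rcases hK with h | h <;> have h' := (Int.dvd_of_emod_eq_zero h).neg_right
          · exact Or.inr (by simpa [add_comm, neg_sub, sub_neg_eq_add] using h')
          · exact Or.inl (by simpa [add_comm, sub_eq_add_neg] using h')
        · rw [if_neg hn] at hK
          exact hK.imp Int.dvd_of_emod_eq_zero Int.dvd_of_emod_eq_zero
      rcases hor with h | h
      · exact Or.inl (by simpa using h.sub hse)
      · exact Or.inr (by simpa [add_comm] using h.sub hse)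
    rcases key with ⟨k, hk⟩ | ⟨k, hk⟩
    · refine he.1 ?_
      rw [show (e : ℤ) = 1 + (p : ℤ) * k by omega, Int.add_mul_emod_self_left,
        Int.emod_eq_of_lt (by norm_num) (by omega)]
    · refine he.2 ?_
      rw [show (e : ℤ) = ((p : ℤ) - 1) + (p : ℤ) * (k - 1) by rw [mul_sub]; omega,
        Int.add_mul_emod_self_left, Int.emod_eq_of_lt (by omega) (by omega)]
  have hLK : (l.map flip ++ List.replicate t (flip (s.k, s.w))).filter (isK p) = l.map flip := by
    rw [List.filter_append, List.filter_eq_self.mpr, List.filter_eq_nil_iff.mpr hθ, List.append_nil]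
    intro x hx
    obtain ⟨y, hy, rfl⟩ := List.mem_map.mp hx
    exact (hisK y hy).1
  have hF : (forcedK p M).Subperm l := by
    have h1 := map_subperm (sgn p) (hLK ▸ hM.filter (isK p))
    have h2 : (l.map Fam.flip).map (sgn p) = l := by
      rw [List.map_map]
      exact (List.map_congr_left (g := id) fun x hx => (hisK x hx).2).trans (List.map_id _)
    rwa [h2] at h1
  set F := forcedK p M with hFdef
  have hS : (F ++ l.diff F).Perm l :=
    List.subperm_append_diff_self_of_count_le fun x _ => hF.count_le x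
  haveI : RightCommutative (add (g : ℤ)) := ⟨add_comm' (g : ℤ)⟩
  have hfold : (l.diff F).foldl (add (g : ℤ)) (F.foldl (add (g : ℤ)) (init g)) = s := by
    rw [← List.foldl_append, hS.foldl_eq, hsum]
  have hlen' : (l.diff F).length = e - 1 - F.length := by
    have := hS.length_eq
    rw [List.length_append] at this
    omega
  obtain ⟨l', hl', hperm⟩ := leaves_complete (add_comm' (g : ℤ)) (ok_mono (g : ℤ) c) _ (l.diff F)
    (F.foldl (add (g : ℤ)) (init g)) (fun x hx => hmem x (hS.mem_iff.mp (List.mem_append_right _ hx)))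
    (by rw [hfold]; exact hok)
  rw [hfold, hlen'] at hl'
  refine ⟨l', s, ?_, hf, hl', (((List.Perm.append_left F hperm).trans hS).map _).append_right _⟩
  have := hS.length_eq
  rw [List.length_append] at this
  omega

theorem noFamWith_eq_false {g c p e t lo m : ℕ} {extra : Sums → Bool} {ks : List ℤ}
    {one : ℤ × ℤ → Bool} {M L : List (ℤ × ℤ)} (hks : cands g p lo 1 = ks) (hc : 0 < c) (hg : 0 < g)
    (hp : 2 < p) (he : (e : ℤ) % p ≠ 1 ∧ (e : ℤ) % p ≠ (p : ℤ) - 1)
    (hL : L ∈ fams g c p e t lo m extra) (hone : ∀ x ∈ L, one x = true) (hM : M.Subperm L) :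
    noFamWith g c p e t lo m extra ks one M = false := by
  obtain ⟨r, s, hlen, hf, hr, -⟩ := exists_rest hks hc hg hp he hL hone hM
  rw [noFamWith, Bool.or_eq_false_iff, decide_eq_false_iff_not, Bool.not_eq_false', anyLeaf_eq,
    List.any_eq_true]
  exact ⟨not_lt.mpr hlen, _, hr, hf⟩

/-- Every admissible family containing `M` is killed. -/
def allFamsWith (g c p e t lo m : ℕ) (extra : Sums → Bool) (ks : List ℤ) (one : ℤ × ℤ → Bool)
    (M : List (ℤ × ℤ)) (kill : List (ℤ × ℤ) → Bool) : Bool :=
  decide (e - 1 < (forcedK p M).length) ||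
    ! anyLeaf (add g) (ok g c) (fun l s => fin g c p e t lo extra s &&
        ! kill (l.map flip ++ List.replicate t (flip (s.k, s.w))))
      (itemsF g c m ks one) (e - 1 - (forcedK p M).length) ((forcedK p M).foldl (add g) (init g))
      (forcedK p M)

theorem exists_kill_with {g c p e t lo m : ℕ} {extra : Sums → Bool} {ks : List ℤ}
    {one : ℤ × ℤ → Bool} {M L : List (ℤ × ℤ)} {kill : List (ℤ × ℤ) → Bool}
    (h : allFamsWith g c p e t lo m extra ks one M kill = true) (hks : cands g p lo 1 = ks)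
    (hc : 0 < c) (hg : 0 < g) (hp : 2 < p) (he : (e : ℤ) % p ≠ 1 ∧ (e : ℤ) % p ≠ (p : ℤ) - 1)
    (hL : L ∈ fams g c p e t lo m extra) (hone : ∀ x ∈ L, one x = true) (hM : M.Subperm L) :
    ∃ L', L'.Perm L ∧ kill L' = true := by
  obtain ⟨r, s, hlen, hf, hr, hperm⟩ := exists_rest hks hc hg hp he hL hone hM
  refine ⟨_, hperm, ?_⟩
  rw [allFamsWith, Bool.or_eq_true, decide_eq_true_eq, anyLeaf_eq, Bool.not_eq_true',
    List.any_eq_false] at h
  rcases h with h | h
  · omega
  · simpa [hf] using h _ hr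

end Cfsg.Agent.Lib.RecogM22.Filter
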