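import Cfsg.Agent.Lib.RecogM22.Eleven
import Cfsg.Agent.Lib.RecogM22.CertFive

/-!
Simple groups of order `443520` with self-centralising Sylow subgroups of order `7`: those of
order `5` are self-centralising too, with normalisers of order `20`.
-/

set_option autoImplicit false
set_option linter.style.haveILetI false
set_option linter.unusedSectionVars false

namespace Cfsg.Agent.Lib.RecogM22.Five

open Cfsg.Agent.Lib.Classif Cfsg.Agent.Lib.SmallGroups
open Cfsg.Agent.Lib.Classif.PrimeExceptional (deg)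
open Cfsg.Agent.Lib.Characters Cfsg.Agent.Lib.Characters.Basic
open Cfsg.Agent.Lib.RecogM22.Search Cfsg.Agent.Lib.RecogM22.Basic Cfsg.Agent.Lib.RecogM22.Fam
open Cfsg.Agent.Lib.RecogM22.Filter
open Cfsg.Agent.Lib.RecogThree.M12 (Full.Extra Full.exists_full)

universe u

/-- Two primes with self-centralising Sylow subgroup: what is needed of it. -/
structure Self (G : Type u) [Group G] [Finite G] (q : ℕ) [Fact q.Prime] (e : ℕ) where
  Q : Sylow q G
  card : Nat.card (Q : Subgroup G) = q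
  cent : Subgroup.centralizer ((Q : Subgroup G) : Set G) = Q
  rel : (Subgroup.centralizer ((Q : Subgroup G) : Set G)).relIndex
      (Subgroup.normalizer ((Q : Subgroup G) : Set G)) = e

theorem nonempty_self {G : Type u} [Group G] [Finite G] {q : ℕ} [Fact q.Prime] {e : ℕ}
    (Q : Sylow q G) (hQ : Nat.card (Q : Subgroup G) = q)
    (hC : Nat.card (Subgroup.centralizer ((Q : Subgroup G) : Set G)) = q)
    (hN : Nat.card (Subgroup.normalizer ((Q : Subgroup G) : Set G)) = q * e) :
    Nonempty (Self G q e) := by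
  refine ⟨⟨Q, hQ, ?_, ?_⟩⟩
  · symm
    refine Subgroup.eq_of_le_of_card_ge (fun a ha => ?_) (by rw [hC, hQ])
    rw [Subgroup.mem_centralizer_iff]
    intro b hb
    haveI := isCyclic_of_prime_card hQ
    exact congrArg Subtype.val
      ((IsCyclic.commGroup (α := (Q : Subgroup G))).mul_comm ⟨b, hb⟩ ⟨a, ha⟩)
  · have h' := Sylow.card_centralizer_mul_relIndex (Q : Subgroup G)
    rw [hC, hN] at h'
    exact Nat.eq_of_mul_eq_mul_left (Fact.out : q.Prime).pos h'

/-- A prime with self-centralising Sylow subgroup divides no other centraliser. -/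
theorem not_dvd_centralizer {G : Type u} [Group G] [Finite G] {q : ℕ} [hq : Fact q.Prime]
    (hdata : ∀ Q : Sylow q G, Nat.card (Q : Subgroup G) = q ∧
      Nat.card (Subgroup.centralizer ((Q : Subgroup G) : Set G)) = q)
    {H : Subgroup G} {x : G} (hx : x ≠ 1) (hxq : Nat.Coprime (orderOf x) q)
    (hH : ∀ y ∈ H, y * x = x * y) : ¬ q ∣ Nat.card H := by
  intro hd
  obtain ⟨⟨y, hy⟩, hyo⟩ := exists_prime_orderOf_dvd_card' (G := H) q hd
  rw [Subgroup.orderOf_mk] at hyo
  obtain ⟨Q, hQ⟩ := (IsPGroup.of_card (n := 1)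
    (show Nat.card (Subgroup.zpowers y) = q ^ 1 by rw [Nat.card_zpowers, hyo, pow_one])
    ).exists_le_sylow
  obtain ⟨hQc, hC⟩ := hdata Q
  have hQ' := Subgroup.eq_of_le_of_card_ge hQ (by rw [Nat.card_zpowers, hyo, hQc])
  have hxC : x ∈ Subgroup.centralizer ((Q : Subgroup G) : Set G) := by
    rw [← hQ', Subgroup.mem_centralizer_iff]
    intro z hz
    obtain ⟨i, rfl⟩ := Subgroup.mem_zpowers_iff.mp hz
    exact ((show Commute y x from hH y hy).zpow_left i).eq
  have h1 := Subgroup.orderOf_dvd_natCard _ hxC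
  rw [hC] at h1
  exact hx (orderOf_eq_one_iff.mp (Nat.Coprime.eq_one_of_dvd hxq h1))

variable {G : Type u} [Group G] [Finite G] [IsSimpleGroup G] (h : Nat.card G = 443520)
  [Fact (Nat.Prime 7)] [Fact (Nat.Prime 11)]
  (h7 : ∀ P : Sylow 7 G, Nat.card (P : Subgroup G) = 7 ∧
    Nat.card (Subgroup.centralizer ((P : Subgroup G) : Set G)) = 7 ∧
      Nat.card (Subgroup.normalizer ((P : Subgroup G) : Set G)) = 21)

include h h7

/-- The centraliser of an element of order prime to `77` is prime to `77`. -/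
theorem not_dvd_cent {H : Subgroup G} {x : G} (hx : x ≠ 1) (hx7 : Nat.Coprime (orderOf x) 77)
    (hH : ∀ y ∈ H, y * x = x * y) : ¬ 7 ∣ Nat.card H ∧ ¬ 11 ∣ Nat.card H :=
  ⟨not_dvd_centralizer (fun Q => ⟨(h7 Q).1, (h7 Q).2.1⟩) hx
      (hx7.coprime_dvd_right (by norm_num)) hH,
    not_dvd_centralizer (fun Q => ⟨(Eleven.data h Q).1, (Eleven.data h Q).2.2.1⟩) hx
      (hx7.coprime_dvd_right (by norm_num)) hH⟩

/-- The centraliser of an involution has order dividing `5760`. -/
theorem cent_dvd {t : G} (ht : orderOf t = 2) :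
    Nat.card (Subgroup.centralizer ({t} : Set G)) ∣ 5760 := by
  obtain ⟨n7, n11⟩ := not_dvd_cent h h7 (H := Subgroup.centralizer ({t} : Set G)) (x := t)
    (fun e => by rw [e, orderOf_one] at ht; omega) (by rw [ht]; norm_num)
    fun y hy => Subgroup.mem_centralizer_singleton_iff.mp hy
  have hd : Nat.card (Subgroup.centralizer ({t} : Set G)) ∣ (7 * 11) * 5760 :=
    (h ▸ Subgroup.card_subgroup_dvd_card _ : _ ∣ 443520)
  refine Nat.Coprime.dvd_of_dvd_mul_left ?_ hd
  exact (((Nat.Prime.coprime_iff_not_dvd (by norm_num)).mpr n7).symm.mul_right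
    ((Nat.Prime.coprime_iff_not_dvd (by norm_num)).mpr n11).symm)

open scoped Classical in
/-- The Sylow subgroups of order `5`. -/
theorem data [Fact (Nat.Prime 5)] : ∀ P : Sylow 5 G,
    Nat.card (P : Subgroup G) = 5 ∧
      Nat.card (Subgroup.centralizer ((P : Subgroup G) : Set G)) = 5 ∧
      Nat.card (Subgroup.normalizer ((P : Subgroup G) : Set G)) = 20 := by
  haveI : Fact (Nat.Prime 2) := ⟨Nat.prime_two⟩
  have hG := Eleven.not_comm h
  intro P
  obtain ⟨n, e, c, hmem, hP, -, hce, hc5, hC, hN, hrel⟩ := Options.exists_opt hG (m₁ := 128)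
    (m₂ := 693) h (by norm_num) (by norm_num) (by norm_num) (by norm_num) P
  refine ⟨hP, ?_⟩
  have hcq : 443520 / (n * e) = c := by
    have hp : 0 < n * e := by
      rcases Nat.eq_zero_or_pos (n * e) with h0 | h0
      · rw [mul_assoc, mul_comm e n, h0, mul_zero] at hce; omega
      · exact h0
    rw [← hce, mul_assoc, mul_comm e n, Nat.mul_div_cancel _ hp]
  have hl := List.all_eq_true.mp opts_cases _ hmem
  simp only [hcq, Bool.or_eq_true, decide_eq_true_eq, List.elem_eq_mem, Prod.mk.injEq] at hl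
  obtain ⟨y, hyP, hy⟩ : ∃ y ∈ (P : Subgroup G), orderOf y = 5 := by
    obtain ⟨⟨y, hy⟩, hyo⟩ := exists_prime_orderOf_dvd_card' (G := (P : Subgroup G)) 5 (by rw [hP])
    exact ⟨y, hy, by simpa using hyo⟩
  obtain ⟨n7, n11⟩ := not_dvd_cent h h7
    (H := Subgroup.centralizer ((P : Subgroup G) : Set G)) (x := y)
    (fun e => by rw [e, orderOf_one] at hy; omega) (by rw [hy]; norm_num)
    fun a ha => (Subgroup.mem_centralizer_iff.mp ha y hyP).symm
  rw [hC] at n7 n11
  rcases hl with ((⟨rfl, rfl⟩ | h') | h') | hopt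
  · rw [hC, hN, ← hcq]
    norm_num
  · exact absurd (Nat.dvd_of_mod_eq_zero h') n7
  · exact absurd (Nat.dvd_of_mod_eq_zero h') n11
  exfalso
  obtain ⟨V, rfl⟩ := hc5
  rw [Nat.mul_div_cancel_left _ (by norm_num : 0 < 5)] at hopt
  simp only [Bool.and_eq_true, Bool.or_eq_true, decide_eq_true_eq] at hopt
  obtain ⟨he24, hVl⟩ := hopt
  have hVm : V ∈ vlist e := by simpa using hVl
  have hV : 2 ∣ V := by
    rcases he24 with rfl | rfl <;>
      simp only [vlist, List.mem_cons, List.not_mem_nil, or_false, if_true,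
        show ¬ (4 : ℕ) = 2 by norm_num, if_false] at hVm <;> omega
  obtain ⟨⟨t, htC⟩, ht⟩ := exists_prime_orderOf_dvd_card'
    (G := Subgroup.centralizer ((P : Subgroup G) : Set G)) 2 (hC ▸ hV.mul_left 5)
  rw [Subgroup.orderOf_mk] at ht
  have hPt : (P : Subgroup G) ≤ Subgroup.centralizer ({t} : Set G) := fun a ha =>
    Subgroup.mem_centralizer_singleton_iff.mpr (Subgroup.mem_centralizer_iff.mp htC a ha)
  have h5 := hP ▸ Subgroup.card_dvd_of_le hPt
  have h4 := four_dvd_centralizer (h ▸ by norm_num : 4 ∣ Nat.card G) ht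
  have hd := cent_dvd h h7 ht
  set ct := Nat.card (Subgroup.centralizer ({t} : Set G)) with hct
  have hmemc : ct ∈ cents := by
    obtain ⟨m, hm⟩ := (show Nat.Coprime 4 5 by norm_num).mul_dvd_of_dvd_of_dvd h4 h5
    refine List.mem_map.mpr ⟨m, Options.mem_divs (by norm_num) ?_, by omega⟩
    rw [hm] at hd
    exact Nat.dvd_of_mul_dvd_mul_left (by norm_num : 0 < 20) hd
  -- the families
  obtain ⟨D, ⟨E⟩⟩ := Full.exists_full P hP hrel
  have hlo := PrimeDegrees.two_mul_le_of_centralizer hG hP hC (by omega) (dvd_mul_right 5 V)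
    (fun hd => by
      rw [pow_two] at hd
      have := hd.trans (hC ▸ h ▸ Subgroup.card_subgroup_dvd_card _ : _ ∣ 443520)
      norm_num at this) D
  have hfam := D.fam_card
  have htD : D.fam.card = 4 / e := by rcases he24 with rfl | rfl <;> omega
  obtain ⟨s, hT, hfams⟩ := exists_fam hG hP h D E htD hlo ht (by norm_num)
    (Or.inr ⟨rfl, htC⟩) hct.symm
  have hsq : sq e ct s = true := by
    haveI := Fintype.ofFinite G
    obtain ⟨j, hj, hsq⟩ := Pairs.exists_square hP D E (by norm_num) hrel ht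
    rw [h, hC, ← hct, hT] at hsq
    have hle := Pairs.card_invCls_le (P := P) t
    rw [hj, hC] at hle
    simp only [sq, List.any_eq_true, List.mem_range, decide_eq_true_eq]
    refine ⟨V, hVm, j, by omega, ?_⟩
    have h' : tVal 443520 s * ((5 * V : ℕ) : ℤ) = ((5 ^ 2 * ct ^ 2 * j ^ 2 : ℕ) : ℤ) := by
      exact_mod_cast hsq
    push_cast at h' ⊢
    linarith
  obtain ⟨⟨C, hCm, hCp⟩, -⟩ := hfams _ hsq
  -- the families at seven and eleven
  obtain ⟨S7⟩ := nonempty_self (e := 3) (default : Sylow 7 G) (h7 _).1 (h7 _).2.1 (h7 _).2.2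
  obtain ⟨S11⟩ := nonempty_self (e := 5) (default : Sylow 11 G) (Eleven.data h _).1
    (Eleven.data h _).2.2.1 (Eleven.data h _).2.2.2
  obtain ⟨D7, ⟨E7⟩⟩ := Full.exists_full S7.Q S7.card S7.rel
  obtain ⟨D11, ⟨E11⟩⟩ := Full.exists_full S11.Q S11.card S11.rel
  have hf7 := D7.fam_card
  have hf11 := D11.fam_card
  have hperf := Sylow.commutator_eq_top hG
  obtain ⟨s7, hT7, hfams7⟩ := exists_fam hG S7.card h D7 E7 (t := 2) (by omega) (lo := 2)
    ⟨fun ψ hψ => by have := (D7.two_le hperf).1 ψ hψ; omega, by have := (D7.two_le hperf).2; omega⟩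
    ht (by norm_num) (Or.inl rfl) hct.symm
  obtain ⟨s11, hT11, hfams11⟩ := exists_fam hG S11.card h D11 E11 (t := 2) (by omega) (lo := 2)
    ⟨fun ψ hψ => by have := (D11.two_le hperf).1 ψ hψ; omega, by have := (D11.two_le hperf).2; omega⟩
    ht (by norm_num) (Or.inl rfl) hct.symm
  rw [Pairs.T_eq_zero S7.card D7 E7 (by norm_num) S7.rel (by decide) ht ht, zero_mul] at hT7
  rw [Pairs.T_eq_zero S11.card D11 E11 (by norm_num) S11.rel (by decide) ht ht, zero_mul] at hT11
  have h07 : zero s7 = true := decide_eq_true (by exact_mod_cast hT7.symm)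
  have h011 : zero s11 = true := decide_eq_true (by exact_mod_cast hT11.symm)
  obtain ⟨⟨B, hBm, hBp⟩, -⟩ := hfams7 _ h07
  obtain ⟨⟨A, hAm, hAp⟩, -⟩ := hfams11 _ h011
  have hone : ∀ {q e : ℕ} [Fact q.Prime] {Q : Sylow q G} (D : FirstPowerData.Data Q e),
      oneChar G ∉ D.K ∪ D.fam := fun D => by
    simp only [Finset.mem_union, not_or]; exact ⟨D.one_not_mem, D.fam_one⟩
  have hval : ∀ χ, χ ≠ oneChar G → ∃ v : ℤ, (χ : G → ℂ) t = v := fun χ _ => exists_val hG ht χ
  have clash7 : ∀ (L : List (ℤ × ℤ)), L.Subperm (pairsOf t (D.K ∪ D.fam)) →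
      ∀ B' : List (ℤ × ℤ), B'.Perm B → clash 443520 ct 7 L B' = false := fun L hL B' hB' =>
    clash_eq_false S7.card S7.cent D7 (hone D) (fun χ hχ => Finset.mem_union.mpr hχ) (hone D7) hval
      hL (hB'.trans hBp) h hct.symm
  have hdeg : ∀ (L : List (ℤ × ℤ)) (S : Finset (Cfsg.IrrCharacter G)), oneChar G ∉ S →
      L.Perm (pairsOf t S) → ∀ x ∈ L, deg11 x = true := by
    intro L S h1 hL x hx
    have hx' := hL.mem_iff.mp hx
    simp only [pairsOf, List.mem_map, Finset.mem_toList] at hx'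
    obtain ⟨χ, hχ, rfl⟩ := hx'
    have hne : χ ≠ oneChar G := fun e' => h1 (e' ▸ hχ)
    simp only [deg11, dv, List.elem_eq_mem, List.mem_cons, List.not_mem_nil, or_false,
      decide_eq_true_eq]
    by_cases hK : χ ∈ D11.K
    · have := (FirstPowerKills.signed_facts hperf S11.card D11 hK).1
      rcases D11.a_unit χ hK with ha | ha <;> rw [ha] at this <;> omega
    by_cases hf : χ ∈ D11.fam
    · have h' := D11.θ_cong S11.card
      rw [← D11.fam_deg χ hf] at h'
      rcases D11.δ_unit with hd' | hd' <;> rw [hd'] at h' <;> omega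
    have := PrimeDegrees.dvd_deg_of_other S11.card S11.cent D11 χ hne hK hf
    omega
  have hin : ∀ (L : List (ℤ × ℤ)) (S : Finset (Cfsg.IrrCharacter G)), oneChar G ∉ S →
      L.Perm (pairsOf t S) → ∀ B' : List (ℤ × ℤ), B'.Perm B → ∀ x ∈ L, inFam 7 B' x = true := by
    intro L S h1 hL B' hB' x hx
    have hx' := hL.mem_iff.mp hx
    simp only [pairsOf, List.mem_map, Finset.mem_toList] at hx'
    obtain ⟨χ, hχ, rfl⟩ := hx'
    simp only [inFam, Bool.or_eq_true, decide_eq_true_eq, List.elem_eq_mem]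
    by_cases hmem : χ ∈ D7.K ∪ D7.fam
    · exact Or.inr ((hB'.trans hBp).mem_iff.mpr
        (List.mem_map.mpr ⟨χ, Finset.mem_toList.mpr hmem, rfl⟩))
    · rw [Finset.mem_union, not_or] at hmem
      exact Or.inl (Int.emod_eq_zero_of_dvd (PrimeDegrees.dvd_deg_of_other S7.card S7.cent D7 χ
        (fun e' => h1 (e' ▸ hχ)) hmem.1 hmem.2))
  -- the searches
  have hcp : 0 < ct := Nat.card_pos
  obtain ⟨B', hB', hkB⟩ := exists_kill (List.all_eq_true.mp dead_all _ hmemc) cands_seven hcp
    (by norm_num) hBm (hdeg B _ (hone D7) hBp)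
  have hkC : killC ct B' e = true := by
    rw [Bool.and_eq_true] at hkB
    rcases he24 with rfl | rfl
    exacts [hkB.1, hkB.2]
  obtain ⟨C', hC', hk⟩ := exists_kill hkC cands_five hcp (by norm_num) hCm
    fun x hx => by
      rw [Bool.and_eq_true]
      exact ⟨hdeg C _ (hone D) hCp x hx, hin C _ (hone D) hCp B' hB' x hx⟩
  rw [clash7 C' (hC'.trans hCp).subperm B' hB', Bool.false_or, killA] at hk
  have hM : ((merge B' C').filter fun x => decide (x.1 % 11 ≠ 0)).Subperm A := by
    have hS : oneChar G ∉ (D7.K ∪ D7.fam) ∪ (D.K ∪ D.fam) :=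
      Finset.notMem_union.mpr ⟨hone D7, hone D⟩
    have h1 : (merge B' C').Subperm (pairsOf t ((D7.K ∪ D7.fam) ∪ (D.K ∪ D.fam))) :=
      merge_subperm ((hB'.trans hBp).subperm.trans (pairsOf_subperm Finset.subset_union_left))
        ((hC'.trans hCp).subperm.trans (pairsOf_subperm Finset.subset_union_right))
    refine (h1.filter _).trans ?_
    refine List.Subperm.trans ?_ hAp.symm.subperm
    rw [pairsOf, List.filter_map]
    refine map_subperm _ (List.Nodup.subperm ((Finset.nodup_toList _).filter _) fun χ hχ => ?_)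
    simp only [List.mem_filter, Finset.mem_toList, Function.comp_apply, dv,
      decide_eq_true_eq] at hχ ⊢
    rw [Finset.mem_union]
    by_contra hn
    rw [not_or] at hn
    exact of_decide_eq_true hχ.2 (Int.emod_eq_zero_of_dvd (PrimeDegrees.dvd_deg_of_other S11.card S11.cent D11 χ
      (fun e' => hS (e' ▸ hχ.1)) hn.1 hn.2))
  rw [noFamWith_eq_false cands_eleven hcp (by norm_num) (by norm_num) (by norm_num) hAm
    (hin A _ (hone D11) hAp B' hB') hM] at hk
  exact Bool.noConfusion hk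

end Cfsg.Agent.Lib.RecogM22.Five
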