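import Cfsg.Agent.Lib.RecogM22.Orbits

/-!
The graph of valency `16` of the action of degree `77`: no triangles, the vertices not adjacent to
the base point are the cosets of fifteen lines of `E`, and the adjacency between them.

Owner: helper41.
-/

set_option autoImplicit false
set_option linter.style.haveILetI false
set_option linter.unusedSectionVars false

universe u w

namespace Cfsg.Agent.Lib.RecogM22.Max77

open MulAction
open scoped Pointwise

variable {G : Type u} [Group G] [Finite G] {Ω : Type w} [MulAction G Ω] [Finite Ω]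
  (D : Max77 G Ω)

/-- A neighbour of the base point. -/
def Near (x : Ω) : Prop := x ≠ D.p ∧ Nat.card (D.ES x) = 1

/-- A point at distance two from the base point. -/
def Far (x : Ω) : Prop := x ≠ D.p ∧ Nat.card (D.ES x) = 4

theorem far_not_near {x : Ω} (h : D.Far x) : ¬ D.Near x := fun h' => by
  have := h.2
  rw [h'.2] at this
  omega

theorem p_not_near : ¬ D.Near D.p := fun h => h.1 rfl

theorem smul_ne {m : G} (hm : m ∈ stabilizer G D.p) {x : Ω} (hx : x ≠ D.p) : m • x ≠ D.p :=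
  fun e => hx (smul_left_cancel m (e.trans (D.smul_p hm).symm))

theorem near_smul {m : G} (hm : m ∈ stabilizer G D.p) {x : Ω} (hx : D.Near x) : D.Near (m • x) :=
  ⟨D.smul_ne hm hx.1, (D.card_ES_smul hm x).trans hx.2⟩

theorem far_smul {m : G} (hm : m ∈ stabilizer G D.p) {x : Ω} (hx : D.Far x) : D.Far (m • x) :=
  ⟨D.smul_ne hm hx.1, (D.card_ES_smul hm x).trans hx.2⟩

include D in
theorem exists_base : ∃ w v : Ω, D.Near w ∧ D.Far v ∧ {x | D.Near x} = D.orb w ∧
    {x | D.Far x} = D.orb v ∧ (D.orb w).ncard = 16 ∧ (D.orb v).ncard = 60 ∧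
    ∀ x, x ≠ D.p → D.Near x ∨ D.Far x := by
  obtain ⟨w, v, hw, hv, hw16, hw1, hv60, hv4, hall⟩ := D.exists_suborbits
  have h1 : ∀ x ∈ D.orb w, D.Near x := by
    rintro x ⟨m, hm, rfl⟩
    exact D.near_smul hm ⟨hw, hw1⟩
  have h2 : ∀ x ∈ D.orb v, D.Far x := by
    rintro x ⟨m, hm, rfl⟩
    exact D.far_smul hm ⟨hv, hv4⟩
  refine ⟨w, v, ⟨hw, hw1⟩, ⟨hv, hv4⟩, Set.ext fun x => ⟨fun hx => ?_, h1 x⟩,
    Set.ext fun x => ⟨fun hx => ?_, h2 x⟩, hw16, hv60, fun x hx => (hall x hx).imp (h1 x) (h2 x)⟩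
  · exact (hall x hx.1).resolve_right fun h => D.far_not_near (h2 x h) hx
  · exact (hall x hx.1).resolve_left fun h => D.far_not_near hx (h1 x h)

theorem near_or_far {x : Ω} (hx : x ≠ D.p) : D.Near x ∨ D.Far x := by
  obtain ⟨w, v, -, -, -, -, -, -, h⟩ := D.exists_base
  exact h x hx

theorem ncard_near : {x | D.Near x}.ncard = 16 := by
  obtain ⟨w, v, -, -, h, -, h', -⟩ := D.exists_base
  rw [h, h']

theorem ncard_far : {x | D.Far x}.ncard = 60 := by
  obtain ⟨w, v, -, -, -, h, -, h', -⟩ := D.exists_base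
  rw [h, h']

theorem near_trans {x y : Ω} (hx : D.Near x) (hy : D.Near y) :
    ∃ m ∈ stabilizer G D.p, m • x = y := by
  obtain ⟨w, v, -, -, h, -⟩ := D.exists_base
  have hx' : x ∈ D.orb w := h ▸ hx
  have hy' : y ∈ D.orb w := h ▸ hy
  show y ∈ D.orb x
  rw [D.orb_eq hx']
  exact hy'

theorem far_trans {x y : Ω} (hx : D.Far x) (hy : D.Far y) :
    ∃ m ∈ stabilizer G D.p, m • x = y := by
  obtain ⟨w, v, -, -, -, h, -⟩ := D.exists_base
  have hx' : x ∈ D.orb v := h ▸ hx
  have hy' : y ∈ D.orb v := h ▸ hy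
  show y ∈ D.orb x
  rw [D.orb_eq hx']
  exact hy'

/-- `E` is regular on the neighbours. -/
theorem eq_one_of_fix_near {x : Ω} (hx : D.Near x) {e : G} (he : e ∈ D.E) (h : e • x = x) : e = 1 :=
  Subgroup.mem_bot.1 (Subgroup.card_eq_one.1 hx.2 ▸ (⟨he, h⟩ : e ∈ D.ES x))

theorem near_eq_image {ω : Ω} (hω : D.Near ω) :
    (fun e : G => e • ω) '' (D.E : Set G) = {x | D.Near x} := by
  refine Set.eq_of_subset_of_ncard_le ?_ ?_ (Set.toFinite _)
  · rintro _ ⟨e, he, rfl⟩
    exact D.near_smul (D.le_stab he) hω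
  · rw [Set.ncard_image_of_injOn, D.ncard_near, ← Nat.card_coe_set_eq]
    · exact D.card_E.ge
    · intro a ha b hb (h : a • ω = b • ω)
      exact inv_mul_eq_one.1 (D.eq_one_of_fix_near hω (mul_mem (inv_mem ha) hb)
        (by rw [mul_smul, ← h, inv_smul_smul]))

theorem exists_smul_near {x y : Ω} (hx : D.Near x) (hy : D.Near y) : ∃ e ∈ D.E, e • x = y := by
  have : y ∈ (fun e : G => e • x) '' (D.E : Set G) := by rw [D.near_eq_image hx]; exact hy
  exact this

/-- Adjacency. -/
def adj (x y : Ω) : Prop := ∃ g : G, g • D.p = x ∧ D.Near (g⁻¹ • y)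

theorem adj_iff {g : G} {x y : Ω} (hg : g • D.p = x) : D.adj x y ↔ D.Near (g⁻¹ • y) := by
  refine ⟨fun ⟨g', hg', h⟩ => ?_, fun h => ⟨g, hg, h⟩⟩
  have hm : g⁻¹ * g' ∈ stabilizer G D.p := by
    show (g⁻¹ * g') • D.p = D.p
    rw [mul_smul, hg', ← hg, inv_smul_smul]
  have := D.near_smul hm h
  rwa [mul_smul, smul_inv_smul] at this

theorem adj_p {y : Ω} : D.adj D.p y ↔ D.Near y := by
  rw [D.adj_iff (one_smul G D.p), inv_one, one_smul]

theorem adj_smul (h : G) {x y : Ω} : D.adj (h • x) (h • y) ↔ D.adj x y := by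
  haveI := D.pretransitive
  obtain ⟨g, hg⟩ := exists_smul_eq G D.p x
  rw [D.adj_iff hg, D.adj_iff (g := h * g) (by rw [mul_smul, hg]), mul_inv_rev, mul_smul,
    inv_smul_smul]

theorem not_adj_self (x : Ω) : ¬ D.adj x x := by
  haveI := D.pretransitive
  obtain ⟨g, hg⟩ := exists_smul_eq G D.p x
  rw [D.adj_iff hg, ← hg, inv_smul_smul]
  exact D.p_not_near

theorem adj_symm {x y : Ω} (h : D.adj x y) : D.adj y x := by
  haveI := D.pretransitive
  obtain ⟨g, hg⟩ := exists_smul_eq G D.p x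
  rw [D.adj_iff hg] at h
  set z := g⁻¹ • y with hz
  obtain ⟨k, hk⟩ := exists_smul_eq G D.p z
  have key : D.Near (k⁻¹ • D.p) := by
    set z' := k⁻¹ • D.p with hz'
    have hne : z' ≠ D.p := fun e => h.1 (by rw [← hk]; exact (inv_smul_eq_iff.1 e).symm)
    refine (D.near_or_far hne).resolve_right fun hfar => ?_
    have hc : Nat.card ↥(stabilizer G D.p ⊓ stabilizer G z') =
        Nat.card ↥(stabilizer G D.p ⊓ stabilizer G z) := by
      rw [← Subgroup.card_map_of_injective (f := (MulAut.conj k).toMonoidHom)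
        (MulAut.conj k).injective (K := stabilizer G D.p ⊓ stabilizer G z'),
        Subgroup.map_inf _ _ (MulAut.conj k).toMonoidHom (MulAut.conj k).injective,
        ← stabilizer_smul_eq_stabilizer_map_conj, ← stabilizer_smul_eq_stabilizer_map_conj, hk, hz',
        smul_inv_smul, inf_comm]
    obtain ⟨w, v, -, -, hN, hF, hw, hv, -⟩ := D.exists_base
    have hN' : z ∈ D.orb w := hN ▸ h
    have hF' : z' ∈ D.orb v := hF ▸ hfar
    have h1 := D.ncard_orb_mul z
    have h2 := D.ncard_orb_mul z'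
    rw [D.orb_eq hN', hw] at h1
    rw [D.orb_eq hF', hv, hc] at h2
    omega
  have h3 : D.adj z D.p := (D.adj_iff hk).2 key
  have h4 := (D.adj_smul g).2 h3
  rwa [hz, smul_inv_smul, hg] at h4

theorem adj_comm {x y : Ω} : D.adj x y ↔ D.adj y x := ⟨D.adj_symm, D.adj_symm⟩

theorem ncard_adj (x : Ω) : {y | D.adj x y}.ncard = 16 := by
  haveI := D.pretransitive
  obtain ⟨g, hg⟩ := exists_smul_eq G D.p x
  have h : {y | D.adj x y} = (fun z => g • z) '' {z | D.Near z} := by
    ext y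
    rw [Set.mem_setOf_eq, D.adj_iff hg]
    exact ⟨fun hn => ⟨_, hn, smul_inv_smul g y⟩, fun ⟨z, hz, e⟩ => by
      rw [← e, inv_smul_smul]; exact hz⟩
  rw [h, Set.ncard_image_of_injective _ (MulAction.injective g), D.ncard_near]

theorem conj_trans {ω : Ω} (hω : D.Near ω) {a b : G} (ha : a ∈ D.E) (ha1 : a ≠ 1) (hb : b ∈ D.E)
    (hb1 : b ≠ 1) : ∃ m ∈ stabilizer G D.p, m • ω = ω ∧ m * a * m⁻¹ = b := by
  obtain ⟨m, hm, hmab⟩ := D.trans a ha ha1 b hb hb1
  obtain ⟨e, he, hew⟩ := D.exists_smul_near (D.near_smul hm hω) hω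
  refine ⟨e * m, mul_mem (D.le_stab he) hm, by rw [mul_smul, hew], ?_⟩
  calc e * m * a * (e * m)⁻¹ = e * (m * a * m⁻¹) * e⁻¹ := by group
    _ = b * e * e⁻¹ := by rw [hmab, D.comm he hb]
    _ = b := mul_inv_cancel_right b e

/-- No triangle at the base point. -/
theorem not_adj_near {x y : Ω} (hx : D.Near x) (hy : D.Near y) : ¬ D.adj x y := by
  intro h
  haveI := D.pretransitive
  obtain ⟨e, he, rfl⟩ := D.exists_smul_near hx hy
  have he1 : e ≠ 1 := fun e1 => D.not_adj_self x (by rwa [e1, one_smul] at h)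
  -- every neighbour of `p` is adjacent to `x`
  have hall : ∀ z, D.Near z → z ≠ x → D.adj x z := by
    intro z hz hzx
    obtain ⟨b, hb, rfl⟩ := D.exists_smul_near hx hz
    obtain ⟨m, hm, hmx, hme⟩ := D.conj_trans hx he he1 hb fun e1 => hzx (by rw [e1, one_smul])
    have h' := (D.adj_smul m).2 h
    rwa [hmx, ← mul_smul, show m * e = b * m by rw [← hme, inv_mul_cancel_right], mul_smul,
      hmx] at h'
  obtain ⟨g, hg⟩ := exists_smul_eq G D.p x
  set T : Set Ω := insert D.p {z | D.Near z}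
  have hT : T.ncard = 17 := by
    rw [Set.ncard_insert_of_notMem (show D.p ∉ {z | D.Near z} from D.p_not_near) (Set.toFinite _),
      D.ncard_near]
  -- the seventeen points form a block
  have hnb : {z | D.adj x z} = T \ {x} := by
    refine (Set.eq_of_subset_of_ncard_le ?_ ?_ (Set.toFinite _)).symm
    · rintro z ⟨rfl | hz, hzx⟩
      · exact D.adj_symm (D.adj_p.2 hx)
      · exact hall z hz hzx
    · rw [D.ncard_adj, Set.ncard_sdiff (Set.singleton_subset_iff.2 (show x ∈ T from Or.inr hx)), hT,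
        Set.ncard_singleton]
  have hgT : ∀ z ∈ T, g • z ∈ T := by
    rintro z (rfl | hz)
    · rw [hg]; exact Or.inr hx
    · have h1 : g • z ∈ {z | D.adj x z} := (D.adj_iff hg).2 (by rwa [inv_smul_smul])
      exact (hnb ▸ h1).1
  have hmT : ∀ m ∈ stabilizer G D.p, ∀ z ∈ T, m • z ∈ T := by
    rintro m hm z (rfl | hz)
    · rw [D.smul_p hm]; exact Or.inl rfl
    · exact Or.inr (D.near_smul hm hz)
  set H := Subgroup.closure (insert g (stabilizer G D.p : Set G))
  have hHT : ∀ k ∈ H, ∀ z ∈ T, k • z ∈ T := by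
    have key : H ≤ stabilizer G T := by
      refine (Subgroup.closure_le _).2 ?_
      intro k hk
      have hsub : (fun z => k • z) '' T ⊆ T := by
        rintro _ ⟨z, hz, rfl⟩
        rcases hk with rfl | hk
        exacts [hgT z hz, hmT k hk z hz]
      show k • T = T
      rw [← Set.image_smul]
      exact Set.eq_of_subset_of_ncard_le hsub
        (Set.ncard_image_of_injective T (MulAction.injective k)).ge (Set.toFinite _)
    intro k hk z hz
    have : k • z ∈ (fun y => k • y) '' T := ⟨z, hz, rfl⟩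
    rwa [Set.image_smul, (key hk : k • T = T)] at this
  have horb : T = orbit H D.p := by
    refine Set.Subset.antisymm ?_ ?_
    · rintro z (rfl | hz)
      · exact mem_orbit_self _
      · obtain ⟨m, hm, rfl⟩ := D.near_trans hx hz
        exact ⟨⟨m * g, mul_mem (Subgroup.subset_closure (Or.inr hm))
          (Subgroup.subset_closure (Or.inl rfl))⟩, by
          show (m * g) • D.p = m • x
          rw [mul_smul, hg]⟩
    · rintro _ ⟨k, rfl⟩
      exact hHT k k.2 _ (Or.inl rfl)
  have h17 : 17 ∣ Nat.card G := by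
    refine dvd_trans ?_ (Subgroup.card_subgroup_dvd_card H)
    rw [← hT, horb, ← index_stabilizer]
    exact Subgroup.index_dvd_card _
  rw [D.card_G] at h17
  norm_num at h17

theorem no_triangle {x y z : Ω} (hxy : D.adj x y) (hxz : D.adj x z) : ¬ D.adj y z := by
  haveI := D.pretransitive
  obtain ⟨g, hg⟩ := exists_smul_eq G D.p x
  intro h
  exact D.not_adj_near ((D.adj_iff hg).1 hxy) ((D.adj_iff hg).1 hxz) ((D.adj_smul g⁻¹).2 h)

/-- The neighbours of `p` adjacent to a point. -/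
def A (v : Ω) : Set Ω := {x | D.Near x ∧ D.adj x v}

theorem A_smul {m : G} (hm : m ∈ stabilizer G D.p) (v : Ω) :
    D.A (m • v) = (fun x => m • x) '' D.A v := by
  ext x
  refine ⟨fun ⟨h1, h2⟩ => ⟨m⁻¹ • x, ⟨D.near_smul (inv_mem hm) h1, ?_⟩, smul_inv_smul m x⟩, ?_⟩
  · have := (D.adj_smul m⁻¹).2 h2
    rwa [inv_smul_smul] at this
  · rintro ⟨z, ⟨h1, h2⟩, rfl⟩
    exact ⟨D.near_smul hm h1, (D.adj_smul m).2 h2⟩

/-- A point at distance two is adjacent to four neighbours of `p`. -/
theorem ncard_A {v : Ω} (hv : D.Far v) : (D.A v).ncard = 4 := by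
  classical
  haveI := Fintype.ofFinite Ω
  let N : Finset Ω := Finset.univ.filter D.Near
  let F : Finset Ω := Finset.univ.filter D.Far
  have hN : N.card = 16 := by
    rw [← Set.ncard_coe_finset, show (N : Set Ω) = {x | D.Near x} by simp [N], D.ncard_near]
  have hF : F.card = 60 := by
    rw [← Set.ncard_coe_finset, show (F : Set Ω) = {x | D.Far x} by simp [F], D.ncard_far]
  have hcount := Finset.sum_card_bipartiteAbove_eq_sum_card_bipartiteBelow (s := N) (t := F) D.adj
  have h15 : ∀ x ∈ N, (Finset.bipartiteAbove D.adj F x).card = 15 := by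
    intro x hx
    have hx' : D.Near x := (Finset.mem_filter.1 hx).2
    rw [← Set.ncard_coe_finset]
    have h : ((Finset.bipartiteAbove D.adj F x : Finset Ω) : Set Ω) = {y | D.adj x y} \ {D.p} := by
      ext y
      simp only [Finset.bipartiteAbove, Finset.coe_filter, Set.mem_setOf_eq, Set.mem_sdiff,
        Set.mem_singleton_iff, F, Finset.mem_filter, Finset.mem_univ, true_and]
      refine ⟨fun ⟨h1, h2⟩ => ⟨h2, h1.1⟩, fun ⟨h1, h2⟩ => ⟨?_, h1⟩⟩
      exact (D.near_or_far h2).resolve_left fun hy => D.not_adj_near hx' hy h1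
    rw [h, Set.ncard_sdiff (Set.singleton_subset_iff.2
      (show D.p ∈ {y | D.adj x y} from D.adj_symm (D.adj_p.2 hx'))), D.ncard_adj,
      Set.ncard_singleton]
  have ha : ∀ y ∈ F, (Finset.bipartiteBelow D.adj N y).card = (D.A v).ncard := by
    intro y hy
    rw [← Set.ncard_coe_finset]
    have h : ((Finset.bipartiteBelow D.adj N y : Finset Ω) : Set Ω) = D.A y := by
      ext z
      simp [Finset.bipartiteBelow, N, A]
    obtain ⟨m, hm, rfl⟩ := D.far_trans hv (Finset.mem_filter.1 hy).2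
    rw [h, D.A_smul hm, Set.ncard_image_of_injective _ (MulAction.injective m)]
  rw [Finset.sum_congr rfl h15, Finset.sum_congr rfl ha, Finset.sum_const, Finset.sum_const, hN,
    hF] at hcount
  simp only [smul_eq_mul] at hcount
  omega

/-- `A v` is a coset of the line of `v`. -/
theorem A_eq {v a : Ω} (hv : D.Far v) (ha : a ∈ D.A v) :
    D.A v = (fun e : G => e • a) '' (D.ES v : Set G) := by
  refine (Set.eq_of_subset_of_ncard_le ?_ ?_ (Set.toFinite _)).symm
  · rintro _ ⟨e, ⟨he, hev⟩, rfl⟩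
    refine ⟨D.near_smul (D.le_stab he) ha.1, ?_⟩
    have := (D.adj_smul e).2 ha.2
    rwa [(hev : e • v = v)] at this
  · rw [D.ncard_A hv, Set.ncard_image_of_injOn, ← Nat.card_coe_set_eq]
    · exact hv.2.ge
    · intro x hx y hy (h : x • a = y • a)
      exact inv_mul_eq_one.1 (D.eq_one_of_fix_near ha.1 (mul_mem (inv_mem hx.1) hy.1)
        (by rw [mul_smul, ← h, inv_smul_smul]))

theorem exists_mem_A {v : Ω} (hv : D.Far v) : ∃ a, a ∈ D.A v :=
  Set.nonempty_of_ncard_ne_zero (by rw [D.ncard_A hv]; norm_num)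

theorem ES_smul {e : G} (he : e ∈ D.E) (x : Ω) : D.ES (e • x) = D.ES x := by
  ext d
  refine and_congr_right fun hd => ?_
  show d • e • x = e • x ↔ d • x = x
  rw [← mul_smul, D.comm hd he, mul_smul]
  exact (MulAction.injective e).eq_iff

/-- The points fixed by an involution of `E` are at distance two, and it lies in their lines. -/
theorem ncard_fix_far {t : G} (ht : t ∈ D.E) (ht1 : t ≠ 1) :
    {x | D.Far x ∧ t ∈ D.ES x}.ncard = 12 := by
  have h : {x | D.Far x ∧ t ∈ D.ES x} = {x | t • x = x} \ {D.p} := by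
    ext x
    refine ⟨fun ⟨h1, h2⟩ => ⟨h2.2, h1.1⟩, fun ⟨h1, h2⟩ => ⟨?_, ht, h1⟩⟩
    exact (D.near_or_far h2).resolve_left fun hn => ht1 (D.eq_one_of_fix_near hn ht h1)
  rw [h, Set.ncard_sdiff (Set.singleton_subset_iff.2
    (show D.p ∈ {x | t • x = x} from D.smul_p (D.le_stab ht))),
    ← Nat.card_coe_set_eq, Set.ncard_singleton]
  exact congrArg (· - 1) (D.fix t ht ht1)

/-- The points with the line of `v`. -/
def fiber (v : Ω) : Set Ω := {u | D.Far u ∧ D.ES u = D.ES v}

theorem fiber_smul_ncard {m : G} (hm : m ∈ stabilizer G D.p) (v : Ω) :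
    (D.fiber (m • v)).ncard = (D.fiber v).ncard := by
  have hES : ∀ x, D.ES (m • x) = (D.ES x).map (MulAut.conj m).toMonoidHom := by
    intro x
    ext e
    constructor
    · intro he
      refine ⟨m⁻¹ * e * m, ⟨by simpa using D.conj_mem (inv_mem hm) he.1, ?_⟩, by simp [mul_assoc]⟩
      show (m⁻¹ * e * m) • x = x
      rw [mul_smul, mul_smul, (he.2 : e • m • x = m • x), inv_smul_smul]
    · rintro ⟨a, ⟨ha, hax⟩, rfl⟩
      refine ⟨D.conj_mem hm ha, ?_⟩
      show (m * a * m⁻¹) • m • x = m • x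
      rw [smul_smul, inv_mul_cancel_right, mul_smul, (hax : a • x = x)]
  have h : D.fiber (m • v) = (fun u => m • u) '' D.fiber v := by
    ext u
    refine ⟨fun ⟨h1, h2⟩ => ⟨m⁻¹ • u, ⟨D.far_smul (inv_mem hm) h1, ?_⟩, smul_inv_smul m u⟩, ?_⟩
    · apply Subgroup.map_injective (f := (MulAut.conj m).toMonoidHom) (MulAut.conj m).injective
      rw [← hES, ← hES, smul_inv_smul, h2]
    · rintro ⟨z, ⟨h1, h2⟩, rfl⟩
      exact ⟨D.far_smul hm h1, by rw [hES, hES, h2]⟩
  rw [h, Set.ncard_image_of_injective _ (MulAction.injective m)]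

theorem E_orbit_subset_fiber {v : Ω} (hv : D.Far v) : orbit ↥D.E v ⊆ D.fiber v := by
  rintro _ ⟨e, rfl⟩
  exact ⟨D.far_smul (D.le_stab e.2) hv, D.ES_smul e.2 v⟩

/-- An element of `E` in two lines through `t`. -/
theorem fiber_subset_fix {v : Ω} {t : G} (ht : t ∈ D.ES v) :
    D.fiber v ⊆ {x | D.Far x ∧ t ∈ D.ES x} := fun _ ⟨h1, h2⟩ => ⟨h1, h2 ▸ ht⟩

theorem exists_ne_one {v : Ω} (hv : D.Far v) : ∃ t ∈ D.ES v, t ≠ 1 := by
  rcases (D.ES v).bot_or_exists_ne_one with h | h
  · have := hv.2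
    rw [h, Subgroup.card_bot] at this
    omega
  · exact h

theorem fiber_bounds {v : Ω} (hv : D.Far v) : 4 ≤ (D.fiber v).ncard ∧ (D.fiber v).ncard ≤ 12 := by
  obtain ⟨t, ht, ht1⟩ := D.exists_ne_one hv
  refine ⟨?_, (Set.ncard_le_ncard (D.fiber_subset_fix ht)).trans (D.ncard_fix_far ht.1 ht1).le⟩
  have h := D.orbit_E_ncard v
  rw [hv.2] at h
  have := Set.ncard_le_ncard (D.E_orbit_subset_fiber hv)
  omega

theorem card_ne_one (H : Subgroup G) : Nat.card {e : H // (e : G) ≠ 1} = Nat.card H - 1 := by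
  classical
  haveI := Fintype.ofFinite H
  rw [Nat.card_eq_fintype_card, Fintype.card_subtype_compl fun e : H => (e : G) = 1,
    ← Nat.card_eq_fintype_card, ← Nat.card_eq_fintype_card (α := {e : H // (e : G) = 1}),
    Nat.card_congr (⟨fun _ => (), fun _ => ⟨1, rfl⟩,
      fun e => Subtype.ext (Subtype.ext e.2.symm), fun _ => rfl⟩ :
        {e : H // (e : G) = 1} ≃ Unit), Nat.card_unique (α := Unit)]

/-- The lines do not form a spread. -/
theorem no_spread
    (hsp : ∀ u u', D.Far u → D.Far u' → ∀ e, e ∈ D.ES u → e ∈ D.ES u' → e ≠ 1 → D.ES u = D.ES u') :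
    False := by
  classical
  haveI := Fintype.ofFinite Ω
  haveI : Fact (Nat.Prime 3) := ⟨Nat.prime_three⟩
  haveI : Fact (Nat.Prime 5) := ⟨by norm_num⟩
  obtain ⟨ω, v, hω, hv, hN, -, hω16, -, -⟩ := D.exists_base
  set X := stabilizer G D.p ⊓ stabilizer G ω
  have hX : Nat.card X = 360 := by
    have h := D.ncard_orb_mul ω
    rw [hω16] at h
    change 16 * Nat.card X = 5760 at h
    omega
  -- the lines
  let Λ := {W : Subgroup G // ∃ u, D.Far u ∧ D.ES u = W}
  have hcov : ∀ e ∈ D.E, e ≠ 1 → ∃ u, D.Far u ∧ e ∈ D.ES u := fun e he he1 =>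
    Set.nonempty_of_ncard_ne_zero (s := {x | D.Far x ∧ e ∈ D.ES x})
      (by rw [D.ncard_fix_far he he1]; norm_num)
  have hlines : Nat.card Λ = 5 := by
    haveI := Fintype.ofFinite G
    haveI : Fintype Λ := Fintype.ofFinite _
    let P := Σ W : Λ, {e : W.1 // (e : G) ≠ 1}
    let φ : P → {e : D.E // (e : G) ≠ 1} := fun q => ⟨⟨q.2.1, by
      obtain ⟨u, -, hu⟩ := q.1.2
      have h : (q.2.1 : G) ∈ D.ES u := hu.symm ▸ q.2.1.2
      exact h.1⟩, q.2.2⟩
    have hφ : Function.Bijective φ := by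
      constructor
      · rintro ⟨⟨W, u, hu, rfl⟩, ⟨⟨e, he⟩, he1⟩⟩ ⟨⟨W', u', hu', rfl⟩, ⟨⟨e', he'⟩, he1'⟩⟩ h
        have h' : e = e' := congrArg (fun x : {e : D.E // (e : G) ≠ 1} => (x.1 : G)) h
        subst h'
        have hW := hsp u u' hu hu' e he he' he1
        have key : ∀ (V V' : Λ) (a : {e : V.1 // (e : G) ≠ 1}) (b : {e : V'.1 // (e : G) ≠ 1}),
            V = V' → (a.1 : G) = b.1 → (⟨V, a⟩ : P) = ⟨V', b⟩ := by
          rintro V _ a b rfl hab
          exact congrArg _ (Subtype.ext (Subtype.ext hab))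
        exact key _ _ _ _ (Subtype.ext hW) rfl
      · rintro ⟨⟨e, he⟩, he1⟩
        obtain ⟨u, hu, heu⟩ := hcov e he he1
        exact ⟨⟨⟨D.ES u, u, hu, rfl⟩, ⟨⟨e, heu⟩, he1⟩⟩, rfl⟩
    have h3 : ∀ W : Λ, Nat.card {e : W.1 // (e : G) ≠ 1} = 3 := fun W => by
      obtain ⟨u, hu, huW⟩ := W.2
      rw [card_ne_one, ← huW, hu.2]
    have h15 : Nat.card {e : D.E // (e : G) ≠ 1} = 15 := by rw [card_ne_one, D.card_E]
    have h := Nat.card_eq_of_bijective φ hφ
    rw [h15, Nat.card_sigma, Finset.sum_congr rfl fun W _ => h3 W, Finset.sum_const,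
      Finset.card_univ, ← Nat.card_eq_fintype_card, smul_eq_mul] at h
    omega
  -- the action of `X` on them
  have hmapES : ∀ m ∈ stabilizer G D.p, ∀ u : Ω,
      (D.ES u).map (MulAut.conj m).toMonoidHom = D.ES (m • u) := by
    intro m hm u
    ext e
    constructor
    · rintro ⟨a, ⟨ha, hax⟩, rfl⟩
      refine ⟨D.conj_mem hm ha, ?_⟩
      show (m * a * m⁻¹) • m • u = m • u
      rw [smul_smul, inv_mul_cancel_right, mul_smul, (hax : a • u = u)]
    · intro he
      refine ⟨m⁻¹ * e * m, ⟨by simpa using D.conj_mem (inv_mem hm) he.1, ?_⟩, by simp [mul_assoc]⟩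
      show (m⁻¹ * e * m) • u = u
      rw [mul_smul, mul_smul, (he.2 : e • m • u = m • u), inv_smul_smul]
  letI : MulAction X Λ :=
    { smul := fun x W => ⟨W.1.map (MulAut.conj (x : G)).toMonoidHom, by
        obtain ⟨u, hu, e⟩ := W.2
        exact ⟨(x : G) • u, D.far_smul x.2.1 hu, by rw [← e, hmapES _ x.2.1]⟩⟩
      one_smul := fun W => Subtype.ext (by
        show W.1.map (MulAut.conj (1 : G)).toMonoidHom = W.1
        rw [map_one]; exact Subgroup.map_id _)
      mul_smul := fun x y W => Subtype.ext (by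
        show W.1.map (MulAut.conj ((x : G) * y)).toMonoidHom =
          (W.1.map (MulAut.conj (y : G)).toMonoidHom).map (MulAut.conj (x : G)).toMonoidHom
        rw [Subgroup.map_map, map_mul]
        rfl) }
  set K := (MulAction.toPermHom X Λ).ker
  have hK : 3 ∣ Nat.card K := by
    have h1 := K.card_mul_index
    rw [hX] at h1
    have h2 : K.index ∣ 120 := by
      rw [Subgroup.index_ker]
      have := (MulAction.toPermHom X Λ).range.card_subgroup_dvd_card
      rwa [Nat.card_perm, hlines] at this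
    obtain ⟨k, hk⟩ := h2
    refine ⟨k, Nat.eq_of_mul_eq_mul_right (Nat.pos_of_ne_zero Subgroup.index_ne_zero_of_finite :
      0 < K.index) ?_⟩
    rw [h1, mul_assoc, mul_comm k, ← hk]
    norm_num
  -- the kernel is faithful on each line
  obtain ⟨t, ht, ht1⟩ := D.exists_ne_one hv
  set W₁ := D.ES v
  have hKW : ∀ k : K, ∀ u, D.Far u → ∀ e ∈ D.ES u, ((k : X) : G) * e * ((k : X) : G)⁻¹ ∈ D.ES u := by
    intro k u hu e he
    have h1 : (k : X) • (⟨D.ES u, u, hu, rfl⟩ : Λ) = ⟨D.ES u, u, hu, rfl⟩ := by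
      have h := MonoidHom.mem_ker.1 k.2
      exact congrArg (fun π : Equiv.Perm Λ => π ⟨D.ES u, u, hu, rfl⟩) h
    have h2 : (D.ES u).map (MulAut.conj ((k : X) : G)).toMonoidHom = D.ES u := congrArg Subtype.val h1
    exact h2.le ⟨e, he, rfl⟩
  let P₁ := {e : W₁ // (e : G) ≠ 1}
  let ψ : K →* Equiv.Perm P₁ :=
    { toFun := fun k => Equiv.ofBijective
        (fun e => (⟨⟨_, hKW k v hv e.1 e.1.2⟩, fun h => e.2 (by simpa using h)⟩ : P₁))
        (Finite.injective_iff_bijective.1 fun a b h => by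
          have := congrArg (fun x : P₁ => (x.1 : G)) h
          exact Subtype.ext (Subtype.ext (by simpa using this)))
      map_one' := Equiv.ext fun e => Subtype.ext (Subtype.ext (by simp))
      map_mul' := fun a b => Equiv.ext fun e => Subtype.ext (Subtype.ext (by simp [mul_assoc])) }
  have hψ : Function.Injective ψ := by
    rw [← MonoidHom.ker_eq_bot_iff, eq_bot_iff]
    intro k hk
    have hfix1 : ∀ e ∈ W₁, ((k : X) : G) * e * ((k : X) : G)⁻¹ = e := fun e he => by
      by_cases h1 : e = 1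
      · subst h1; group
      · exact congrArg (fun π : Equiv.Perm P₁ => ((π ⟨⟨e, he⟩, h1⟩).1 : G)) (MonoidHom.mem_ker.1 hk)
    have hall : ∀ e ∈ D.E, ((k : X) : G) * e * ((k : X) : G)⁻¹ = e := by
      intro e he
      by_cases he1 : e = 1
      · subst he1; group
      obtain ⟨u, hu, heu⟩ := hcov e he he1
      by_cases hW : D.ES u = W₁
      · exact hfix1 e (hW ▸ heu)
      -- compare the lines of `e` and of `t e`
      have hte : t * e ≠ 1 := fun h => hW (hsp u v hu hv e heu
        (by rw [← inv_eq_of_mul_eq_one_right h]; exact inv_mem ht) he1)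
      obtain ⟨u', hu', hu'e⟩ := hcov (t * e) (mul_mem ht.1 he) hte
      have h2 := hKW k u' hu' _ hu'e
      have h3 : ((k : X) : G) * (t * e) * ((k : X) : G)⁻¹ =
          t * (((k : X) : G) * e * ((k : X) : G)⁻¹) := by
        conv_rhs => rw [← hfix1 t ht]
        group
      rw [h3] at h2
      have h4 : ((k : X) : G) * e * ((k : X) : G)⁻¹ * e⁻¹ ∈ D.ES u' := by
        have h5 := mul_mem h2 (inv_mem hu'e)
        have h7 := hKW k u hu e heu
        rw [mul_inv_rev, show t * (((k : X) : G) * e * ((k : X) : G)⁻¹) * (e⁻¹ * t⁻¹) =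
          t * (((k : X) : G) * e * ((k : X) : G)⁻¹ * e⁻¹) * t⁻¹ by group,
          D.comm ht.1 (mul_mem h7.1 (inv_mem he)), mul_inv_cancel_right] at h5
        exact h5
      have h6 := mul_mem (hKW k u hu e heu) (inv_mem heu)
      by_contra hne
      have hne' : ((k : X) : G) * e * ((k : X) : G)⁻¹ * e⁻¹ ≠ 1 := fun h => hne (mul_inv_eq_one.1 h)
      have huu := hsp u u' hu hu' _ h6 h4 hne'
      have ht' : t ∈ D.ES u := by
        have : t * e * e⁻¹ ∈ D.ES u := mul_mem (huu ▸ hu'e) (inv_mem heu)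
        rwa [mul_inv_cancel_right] at this
      exact hW (hsp u v hu hv t ht' ht ht1)
    have hkE : ((k : X) : G) ∈ D.E := D.cent _ fun e he => mul_inv_eq_iff_eq_mul.1 (hall e he)
    exact Subgroup.mem_bot.2 (Subtype.ext (Subtype.ext (D.eq_one_of_fix_near hω hkE (k : X).2.2)))
  -- at most two elements of order three
  have hP₁ : Nat.card (Equiv.Perm P₁) = 6 := by
    haveI := Fintype.ofFinite W₁
    rw [Nat.card_perm, card_ne_one, show Nat.card W₁ = 4 from hv.2]
    rfl
  obtain ⟨k, hk3⟩ := exists_prime_orderOf_dvd_card' (G := K) 3 hK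
  obtain ⟨y, hy⟩ := exists_prime_orderOf_dvd_card' (G := X) 5 (by rw [hX]; norm_num)
  have hconj : y * (k : X) * y⁻¹ ∈ Subgroup.zpowers (k : X) := by
    have hy3 : y * (k : X) * y⁻¹ ∈ K := (MonoidHom.normal_ker _).conj_mem _ k.2 y
    have hcard : Nat.card K ∣ 6 := hP₁ ▸ Subgroup.card_dvd_of_injective ψ hψ
    -- the subgroup of order three is the only one
    haveI := Fintype.ofFinite K
    have hS : ∀ P Q : Sylow 3 K, P = Q := by
      intro P Q
      have h1 : Nat.card (Sylow 3 K) ∣ Nat.card K := by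
        rw [Sylow.card_eq_index_normalizer P]
        exact Subgroup.index_dvd_card _
      have h2 := card_sylow_modEq_one 3 K
      have h3 : Nat.card (Sylow 3 K) ∈ Nat.divisors 6 :=
        Nat.mem_divisors.2 ⟨h1.trans hcard, by norm_num⟩
      rw [show Nat.divisors 6 = {1, 2, 3, 6} by decide +kernel] at h3
      simp only [Finset.mem_insert, Finset.mem_singleton] at h3
      have h4 : Nat.card (Sylow 3 K) = 1 := by
        rcases h3 with h | h | h | h <;> rw [h] at h2 ⊢ <;> simp [Nat.ModEq] at h2 ⊢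
      obtain ⟨h5, -⟩ := Nat.card_eq_one_iff_unique.1 h4
      exact Subsingleton.elim P Q
    set k' : K := ⟨_, hy3⟩
    have hk' : orderOf k' = 3 := by
      rw [← Subgroup.orderOf_coe]
      show orderOf (MulAut.conj y (k : X)) = 3
      rw [MulEquiv.orderOf_eq, Subgroup.orderOf_coe, hk3]
    have hpg : ∀ z : K, orderOf z = 3 → ∃ P : Sylow 3 K, (P : Subgroup K) = Subgroup.zpowers z := by
      intro z hz
      refine ⟨⟨Subgroup.zpowers z, IsPGroup.of_card (n := 1) (by rw [Nat.card_zpowers, hz, pow_one]),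
        fun {Q} hQ hle => ?_⟩, rfl⟩
      obtain ⟨n, hn⟩ := IsPGroup.iff_card.1 hQ
      refine (Subgroup.eq_of_le_of_card_ge hle ?_).symm
      rw [Nat.card_zpowers, hz, hn]
      have hdvd := (Subgroup.card_subgroup_dvd_card Q).trans hcard
      rw [hn] at hdvd
      rcases n with _ | _ | n
      · norm_num
      · norm_num
      · have h9 : 3 ^ 2 ≤ 3 ^ (n + 1 + 1) := Nat.pow_le_pow_right (by norm_num) (by omega)
        have := Nat.le_of_dvd (by norm_num) hdvd
        norm_num at h9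
        omega
    obtain ⟨P, hPk⟩ := hpg k hk3
    obtain ⟨Q, hQk⟩ := hpg k' hk'
    have h5 : k' ∈ Subgroup.zpowers k := by
      rw [← hPk, hS P Q, hQk]
      exact Subgroup.mem_zpowers k'
    obtain ⟨i, hi⟩ := Subgroup.mem_zpowers_iff.1 h5
    exact Subgroup.mem_zpowers_iff.2 ⟨i, by
      have := congrArg Subtype.val hi
      simpa [k'] using this⟩
  have hcomm : y * (k : X) = (k : X) * y := by
    obtain ⟨i, hi⟩ := Subgroup.mem_zpowers_iff.1 hconj
    have hk3' : orderOf (k : X) = 3 := by rw [Subgroup.orderOf_coe, hk3]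
    -- the conjugation is a power `r` with `r ^ 5 = 1` modulo three
    have hpow : ∀ n : ℕ, y ^ n * (k : X) * (y ^ n)⁻¹ = (k : X) ^ (i ^ n) := by
      intro n
      induction n with
      | zero => simp
      | succ n ih =>
        calc y ^ (n + 1) * (k : X) * (y ^ (n + 1))⁻¹
            = y * (y ^ n * (k : X) * (y ^ n)⁻¹) * y⁻¹ := by rw [pow_succ']; group
          _ = (y * (k : X) * y⁻¹) ^ (i ^ n) := by rw [ih, ← conj_zpow]
          _ = (k : X) ^ (i ^ (n + 1)) := by rw [← hi, ← zpow_mul, pow_succ' i n]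
    have h5 := hpow 5
    rw [← hy, pow_orderOf_eq_one, one_mul, inv_one, mul_one, hy] at h5
    have h6 : ((3 : ℕ) : ℤ) ∣ i ^ 5 - 1 := by
      rw [← hk3']
      exact orderOf_dvd_iff_zpow_eq_one.2 (by rw [zpow_sub_one, ← h5, mul_inv_cancel])
    have h7 : (3 : ℤ) ∣ i - 1 := by
      obtain ⟨q, r, hr, rfl⟩ : ∃ q r : ℤ, (r = 0 ∨ r = 1 ∨ r = 2) ∧ i = 3 * q + r :=
        ⟨i / 3, i % 3, by omega, (Int.ediv_mul_add_emod i 3).symm.trans (by ring)⟩
      rcases hr with rfl | rfl | rfl
      · obtain ⟨w, hw⟩ := h6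
        ring_nf at hw
        omega
      · exact ⟨q, by ring⟩
      · obtain ⟨w, hw⟩ := h6
        ring_nf at hw
        omega
    rw [← mul_inv_eq_iff_eq_mul, ← hi]
    obtain ⟨w, hw⟩ := h7
    rw [show i = 3 * w + 1 by omega, zpow_add, zpow_mul, show ((3 : ℤ)) = ((3 : ℕ) : ℤ) from rfl,
      zpow_natCast, ← hk3', pow_orderOf_eq_one, one_zpow, zpow_one, one_mul]
  have hy5 : orderOf ((y : X) : G) = 5 := by rw [Subgroup.orderOf_coe, hy]
  have hmem := D.five _ ((k : X) : G) hy5 (congrArg Subtype.val hcomm)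
  have hd := orderOf_dvd_of_mem_zpowers hmem
  rw [Subgroup.orderOf_coe, Subgroup.orderOf_coe, hk3, hy5] at hd
  norm_num at hd

/-- The fifteen lines are pairwise different: the fibres are the orbits of `E`. -/
theorem fiber_eq {v : Ω} (hv : D.Far v) : D.fiber v = orbit ↥D.E v := by
  classical
  have horb : (orbit ↥D.E v).ncard = 4 := by
    have h := D.orbit_E_ncard v
    rw [hv.2] at h
    omega
  refine (Set.eq_of_subset_of_ncard_le (D.E_orbit_subset_fiber hv) ?_ (Set.toFinite _)).symm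
  rw [horb]
  by_contra hcon
  push Not at hcon
  -- then the fibres have twelve points and the lines form a spread
  have hf : ∀ u, D.Far u → (D.fiber u).ncard = (D.fiber v).ncard := fun u hu => by
    obtain ⟨m, hm, rfl⟩ := D.far_trans hv hu
    exact D.fiber_smul_ncard hm v
  haveI := Fintype.ofFinite Ω
  haveI := Fintype.ofFinite G
  have hpart : ∀ s : Finset Ω, (∀ x ∈ s, D.Far x) → (∀ x ∈ s, D.fiber x ⊆ s) →
      (D.fiber v).ncard ∣ s.card := by
    intro s hs hcl
    rw [Finset.card_eq_sum_card_image D.ES s]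
    refine Finset.dvd_sum fun W hW => ?_
    obtain ⟨x, hx, rfl⟩ := Finset.mem_image.1 hW
    rw [← hf x (hs x hx), ← Set.ncard_coe_finset, Finset.coe_filter]
    refine dvd_of_eq (congrArg Set.ncard (Set.ext fun z => ?_))
    exact ⟨fun ⟨h1, h2⟩ => ⟨hcl x hx ⟨h1, h2⟩, h2⟩, fun ⟨h1, h2⟩ => ⟨hs z h1, h2⟩⟩
  obtain ⟨t, ht, ht1⟩ := D.exists_ne_one hv
  have h12 := hpart (Finset.univ.filter fun x => D.Far x ∧ t ∈ D.ES x)
    (fun x hx => (Finset.mem_filter.1 hx).2.1) (fun x hx z hz => by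
      simp only [Finset.coe_filter, Finset.mem_univ, true_and, Set.mem_setOf_eq]
      exact ⟨hz.1, hz.2 ▸ (Finset.mem_filter.1 hx).2.2⟩)
  have h60 := hpart (Finset.univ.filter D.Far) (fun x hx => (Finset.mem_filter.1 hx).2)
    (fun x _ z hz => by simp [hz.1])
  rw [← Set.ncard_coe_finset, Finset.coe_filter] at h12 h60
  simp only [Finset.mem_univ, true_and] at h12 h60
  rw [D.ncard_fix_far ht.1 ht1] at h12
  rw [show {x | D.Far x}.ncard = 60 from D.ncard_far] at h60
  have hfix12 : (D.fiber v).ncard = 12 := by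
    have hle := (D.fiber_bounds hv).2
    have h4 : 4 ∣ (D.fiber v).ncard := by
      rw [← horb]
      -- unions of orbits of `E`
      have : ∀ z ∈ D.fiber v, orbit ↥D.E z ⊆ D.fiber v := fun z hz y hy => by
        obtain ⟨e, rfl⟩ := hy
        exact ⟨D.far_smul (D.le_stab e.2) hz.1, (D.ES_smul e.2 z).trans hz.2⟩
      set s := (D.fiber v).toFinset
      rw [Set.ncard_eq_toFinset_card' (D.fiber v)]
      rw [Finset.card_eq_sum_card_image (fun z => orbit ↥D.E z) s]
      refine Finset.dvd_sum fun O hO => ?_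
      obtain ⟨z, hz, rfl⟩ := Finset.mem_image.1 hO
      rw [← Set.ncard_coe_finset, Finset.coe_filter]
      have hz' : z ∈ D.fiber v := Set.mem_toFinset.1 hz
      have h := D.orbit_E_ncard z
      rw [hz'.1.2] at h
      have : {y | y ∈ s ∧ orbit ↥D.E y = orbit ↥D.E z} = orbit ↥D.E z := by
        ext y
        exact ⟨fun ⟨_, h2⟩ => h2 ▸ mem_orbit_self y,
          fun hy => ⟨Set.mem_toFinset.2 (this z hz' hy), orbit_eq_iff.2 hy⟩⟩
      rw [this]
      exact dvd_of_eq (by omega)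
    have hd : ∀ f : ℕ, f ≤ 12 → 4 < f → 4 ∣ f → f ∣ 60 → f = 12 := by decide +kernel
    exact hd _ hle hcon h4 h60
  exact D.no_spread fun u u' hu hu' e he he' he1 => by
    have h1 : D.fiber u = {x | D.Far x ∧ e ∈ D.ES x} := Set.eq_of_subset_of_ncard_le
      (D.fiber_subset_fix he) (by rw [D.ncard_fix_far he.1 he1, hf u hu, hfix12]) (Set.toFinite _)
    have h2 : u' ∈ D.fiber u := by rw [h1]; exact ⟨hu', he'⟩
    exact h2.2.symm

end Cfsg.Agent.Lib.RecogM22.Max77
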