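import Mathlib

/-!
The 2-local part of the recognition of the simple group of order `443520`: from the orders of the
centralisers of involutions and of elements of order three commuting with one, an elementary abelian
subgroup of order `16` with normaliser of order `5760` (`exists_maximal`).

Owner: helper41.
-/

set_option autoImplicit false
set_option linter.style.haveILetI false
set_option linter.unusedSectionVars false

universe u

namespace Cfsg.Agent.Lib.RecogM22

/-- The data of the character tables used by the local analysis. -/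
structure LocalData (G : Type u) [Group G] : Prop where
  card : Nat.card G = 443520
  centT : ∀ t : G, orderOf t = 2 → Nat.card (Subgroup.centralizer ({t} : Set G)) = 384
  centR : ∀ x t : G, orderOf x = 3 → orderOf t = 2 → x * t = t * x →
    Nat.card (Subgroup.centralizer ({x} : Set G)) = 36
  five : ∀ y z : G, orderOf y = 5 → y * z = z * y → z ∈ Subgroup.zpowers y
  count : ∀ t : G, orderOf t = 2 → Nat.card {u : G // orderOf u = 2 ∧ u * t = t * u} = 51

namespace Local

open Subgroup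

variable {G : Type u} [Group G]

theorem mem_cs {a g : G} : g ∈ centralizer ({a} : Set G) ↔ g * a = a * g :=
  mem_centralizer_singleton_iff

theorem orderOf_two_of {g : G} (h : g * g = 1) (h1 : g ≠ 1) : orderOf g = 2 :=
  orderOf_eq_prime (by rw [pow_two]; exact h) h1

theorem sq_one_of {g : G} (h : orderOf g = 2) : g * g = 1 := by
  rw [← pow_two, ← h, pow_orderOf_eq_one]

theorem sign_comm : ∀ p q : Equiv.Perm (Fin 4), Equiv.Perm.sign p = 1 →
    Equiv.Perm.sign q = 1 → p * p = 1 → q * q = 1 → p * q = q * p := by decide +kernel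

theorem alt_comm (p q : Equiv.Perm (Fin 4)) (hp : p ∈ alternatingGroup (Fin 4))
    (hq : q ∈ alternatingGroup (Fin 4)) : p * p = 1 → q * q = 1 → p * q = q * p :=
  sign_comm p q (Equiv.Perm.mem_alternatingGroup.1 hp) (Equiv.Perm.mem_alternatingGroup.1 hq)

theorem sign_sq : ∀ p : Equiv.Perm (Fin 4), Equiv.Perm.sign p = 1 →
    (p * p) * (p * p) = 1 → p * p = 1 := by decide +kernel

theorem alt_sq (p : Equiv.Perm (Fin 4)) (hp : p ∈ alternatingGroup (Fin 4)) :
    (p * p) * (p * p) = 1 → p * p = 1 :=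
  sign_sq p (Equiv.Perm.mem_alternatingGroup.1 hp)

variable [Finite G]

theorem sylow_card {X : Type*} [Group X] [Finite X] {p k m : ℕ} [hp : Fact p.Prime] (P : Sylow p X)
    (h : Nat.card X = p ^ k * m) (hm : ¬ p ∣ m) : Nat.card (P : Subgroup X) = p ^ k := by
  have hm0 : m ≠ 0 := fun e => hm (e ▸ dvd_zero p)
  rw [Sylow.card_eq_multiplicity, h, Nat.factorization_mul (pow_ne_zero k hp.out.ne_zero) hm0,
    Finsupp.add_apply, hp.out.factorization_pow, Finsupp.single_eq_same,
    Nat.factorization_eq_zero_of_not_dvd hm, add_zero]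

/-- The number of elements of a subgroup is congruent to the number of those fixed by a `p`-group. -/
theorem card_modEq {p : ℕ} [Fact p.Prime] {H Q : Subgroup G} (hH : IsPGroup p H)
    (hn : ∀ h ∈ H, ∀ q ∈ Q, h * q * h⁻¹ ∈ Q) :
    Nat.card Q ≡ Nat.card ↥(Q ⊓ centralizer (H : Set G)) [MOD p] := by
  letI : MulAction H Q :=
    { smul := fun h q => ⟨h.1 * q.1 * h.1⁻¹, hn h.1 h.2 q.1 q.2⟩
      one_smul := fun q => Subtype.ext (show (1 : G) * q.1 * 1⁻¹ = q.1 by simp)
      mul_smul := fun g h q => Subtype.ext (show (g.1 * h.1) * q.1 * (g.1 * h.1)⁻¹ =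
        g.1 * (h.1 * q.1 * h.1⁻¹) * g.1⁻¹ by group) }
  refine (hH.card_modEq_card_fixedPoints Q).trans (congrArg (fun n => n % p) ?_)
  refine Nat.card_congr ⟨fun q => ⟨q.1.1, q.1.2, mem_centralizer_iff.2 fun h hh => ?_⟩,
    fun q => ⟨⟨q.1, q.2.1⟩, fun h => Subtype.ext ?_⟩, fun q => rfl, fun q => rfl⟩
  · exact mul_inv_eq_iff_eq_mul.1 (congrArg Subtype.val (q.2 ⟨h, hh⟩))
  · show h.1 * q.1 * h.1⁻¹ = q.1
    rw [mem_centralizer_iff.1 q.2.2 h.1 h.2, mul_inv_cancel_right]

theorem isPGroup_three {x : G} (hx : orderOf x = 3) : IsPGroup 3 (zpowers x) :=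
  IsPGroup.of_card (n := 1) (by rw [Nat.card_zpowers, hx, pow_one])

theorem centralizer_zpowers' (x : G) :
    centralizer (zpowers x : Set G) = centralizer ({x} : Set G) := by
  ext g
  rw [mem_centralizer_iff, mem_centralizer_singleton_iff]
  exact ⟨fun h => (h x (mem_zpowers x)).symm, fun h y hy => by
    obtain ⟨i, rfl⟩ := mem_zpowers_iff.1 hy
    exact ((show Commute g x from h).zpow_right i).eq.symm⟩

theorem conj_zpowers {x : G} {Q : Subgroup G} (hn : ∀ q ∈ Q, x * q * x⁻¹ ∈ Q) :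
    ∀ h ∈ zpowers x, ∀ q ∈ Q, h * q * h⁻¹ ∈ Q := by
  have hmem : x ∈ normalizer (Q : Set G) := mem_normalizer_fintype hn
  intro h hh q hq
  exact (mem_normalizer_iff.1 (zpowers_le.2 hmem hh) q).1 hq

theorem four_eq {U : Subgroup G} (hU : Nat.card U = 4) {u v w : G} (hu : u ∈ U) (hv : v ∈ U)
    (hu1 : u ≠ 1) (hv1 : v ≠ 1) (huv : v ≠ u) (hw : w ∈ U) (hsq : u * u = 1) :
    w = 1 ∨ w = u ∨ w = v ∨ w = u * v := by
  classical
  by_contra h
  push Not at h
  have hsub : ({w, 1, u, v, u * v} : Set G) ⊆ U := by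
    rintro z (rfl | rfl | rfl | rfl | rfl)
    exacts [hw, one_mem _, hu, hv, mul_mem hu hv]
  have h1 : u * v ≠ 1 := fun e => huv ((eq_inv_of_mul_eq_one_right e).trans
    (inv_eq_of_mul_eq_one_right hsq))
  have h2 : u * v ≠ u := fun e => hv1 (mul_eq_left.1 e)
  have h3 : u * v ≠ v := fun e => hu1 (mul_eq_right.1 e)
  have hle := Set.ncard_le_ncard hsub (Set.toFinite _)
  rw [Set.ncard_insert_of_notMem (by simp [h.1, h.2.1, h.2.2.1, h.2.2.2]),
    Set.ncard_insert_of_notMem (by simp [hu1.symm, hv1.symm, h1.symm]),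
    Set.ncard_insert_of_notMem (by simp [huv.symm, h2.symm]),
    Set.ncard_insert_of_notMem (by simp [h3.symm]), Set.ncard_singleton, ← Nat.card_coe_set_eq] at hle
  have : Nat.card ↥(U : Set G) = 4 := hU
  omega

theorem relIndex_eq_index_subgroupOf {A B : Subgroup G} (h : A ≤ B) :
    Nat.card A * (A.subgroupOf B).index = Nat.card B := by
  rw [← Nat.card_congr (subgroupOfEquivOfLe h).toEquiv]
  exact card_mul_index _

variable (D : LocalData G) {t x : G} (ht : orderOf t = 2) (hx : orderOf x = 3) (htx : x * t = t * x)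
include D ht hx htx

theorem card_cx : Nat.card (centralizer ({x} : Set G)) = 36 := D.centR x t hx ht htx

/-- A Sylow `3`-subgroup of `C(x)` commutes with no involution. -/
theorem not_comm_nine {P : Subgroup G} (hP : Nat.card P = 9) {v : G} (hv : orderOf v = 2) :
    ¬ P ≤ centralizer ({v} : Set G) := fun h => by
  have := card_dvd_of_le h
  rw [hP, D.centT v hv] at this
  norm_num at this

theorem exists_nine : ∃ P : Subgroup G, P ≤ centralizer ({x} : Set G) ∧ Nat.card P = 9 ∧ x ∈ P := by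
  haveI : Fact (Nat.Prime 3) := ⟨Nat.prime_three⟩
  set CX := centralizer ({x} : Set G)
  have hxC : x ∈ CX := mem_cs.2 rfl
  let x' : CX := ⟨x, hxC⟩
  obtain ⟨P, hP⟩ := (isPGroup_three (G := CX) (x := x') (by rw [orderOf_mk, hx])).exists_le_sylow
  have hcard : Nat.card (P : Subgroup CX) = 9 := by
    exact sylow_card P (k := 2) (m := 4) (card_cx D ht hx htx) (by norm_num)
  exact ⟨(P : Subgroup CX).map CX.subtype, map_subtype_le _,
    (card_map_of_injective CX.subtype_injective).trans hcard, ⟨x', hP (mem_zpowers x'), rfl⟩⟩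

/-- The structure of the centraliser of `x`: a four-group permuted transitively. -/
theorem exists_four : ∃ (U P : Subgroup G) (a : G), Nat.card U = 4 ∧ t ∈ U ∧ (∀ u ∈ U, u * u = 1) ∧
    (∀ u ∈ U, u * x = x * u) ∧
    (∀ (g : G) (j : ℕ), g * x = x * g → orderOf g ∣ 2 ^ j → g ∈ U) ∧
    P ≤ centralizer ({x} : Set G) ∧ Nat.card P = 9 ∧ x ∈ P ∧ a ∈ P ∧
    (∀ g ∈ centralizer ({x} : Set G), ∀ u ∈ U, g * u * g⁻¹ ∈ U) ∧
    (∀ u ∈ U, u ≠ 1 → a * u * a⁻¹ ≠ u) ∧ a ∉ zpowers x ∧ (∀ u ∈ U, u * t = t * u) := by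
  classical
  haveI : Fact (Nat.Prime 3) := ⟨Nat.prime_three⟩
  haveI : Fact (Nat.Prime 2) := ⟨Nat.prime_two⟩
  obtain ⟨P, hPX, hP, hxP⟩ := exists_nine D ht hx htx
  set CX := centralizer ({x} : Set G)
  have hCX : Nat.card CX = 36 := card_cx D ht hx htx
  set x' : CX := ⟨x, mem_cs.2 rfl⟩
  have hx' : orderOf x' = 3 := by rw [orderOf_mk, hx]
  have hxc : ∀ g : CX, x' * g = g * x' := fun g => Subtype.ext (mem_cs.1 g.2).symm
  set P₀ := P.subgroupOf CX
  have hP₀ : Nat.card P₀ = 9 := (Nat.card_congr (subgroupOfEquivOfLe hPX).toEquiv).trans hP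
  have hidx : P₀.index = 4 := by
    have := P₀.card_mul_index
    rw [hP₀, hCX] at this
    omega
  set K := P₀.normalCore
  have hxK : x' ∈ K := fun g => by
    rw [← hxc, mul_inv_cancel_right]
    exact mem_subgroupOf.2 hxP
  -- `C(x)` moves the Sylow subgroup
  have hKne : K ≠ P₀ := by
    intro hK
    obtain ⟨T, hT⟩ : ∃ T : Subgroup CX, Nat.card T = 4 ∧ ⟨t, mem_cs.2 htx.symm⟩ ∈ T := by
      obtain ⟨T, hT⟩ := (IsPGroup.of_card (p := 2) (n := 1) (by
        rw [Nat.card_zpowers, orderOf_mk, ht, pow_one] :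
          Nat.card (zpowers (⟨t, mem_cs.2 htx.symm⟩ : CX)) = 2 ^ 1)).exists_le_sylow
      refine ⟨T, ?_, hT (mem_zpowers _)⟩
      exact sylow_card T (k := 2) (m := 9) hCX (by norm_num)
    haveI : P₀.Normal := hK ▸ normalCore_normal P₀
    obtain ⟨hT4, -⟩ := hT
    obtain ⟨z, hz, hzR⟩ : ∃ z ∈ P₀, z ∉ zpowers x' := by
      by_contra h
      push Not at h
      have := card_le_of_le (h : P₀ ≤ zpowers x')
      rw [hP₀, Nat.card_zpowers, hx'] at this
      omega
    set R := zpowers x'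
    have hz2 : z * z ∉ R := fun h => hzR (by
      have h9 : z ^ 9 = 1 := congrArg Subtype.val (hP₀ ▸ pow_card_eq_one' (x := (⟨z, hz⟩ : P₀)))
      have : z = (z * z) ^ 5 := by
        rw [← pow_two, ← pow_mul, show (2 * 5 : ℕ) = 9 + 1 from rfl, pow_succ, h9, one_mul]
      rw [this]
      exact pow_mem h 5)
    -- the three cosets
    have hcos : ∀ w ∈ P₀, w ∈ R ∨ z⁻¹ * w ∈ R ∨ z * w ∈ R := by
      intro w hw
      have hR : (R : Set CX).ncard = 3 := by rw [← Nat.card_coe_set_eq]; exact (Nat.card_zpowers x').trans hx'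
      set S₁ := (fun r => z * r) '' (R : Set CX)
      set S₂ := (fun r => z⁻¹ * r) '' (R : Set CX)
      have hsub : (R : Set CX) ∪ S₁ ∪ S₂ ⊆ P₀ := by
        have hRP : R ≤ P₀ := zpowers_le.2 (mem_subgroupOf.2 hxP)
        rintro y ((hy | ⟨r, hr, rfl⟩) | ⟨r, hr, rfl⟩)
        exacts [hRP hy, mul_mem hz (hRP hr), mul_mem (inv_mem hz) (hRP hr)]
      have heq := Set.eq_of_subset_of_ncard_le hsub (by
        rw [Set.ncard_union_eq ?_ (Set.toFinite _) (Set.toFinite _), Set.ncard_union_eq ?_ (Set.toFinite _)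
          (Set.toFinite _), Set.ncard_image_of_injective _ (mul_right_injective z),
          Set.ncard_image_of_injective _ (mul_right_injective z⁻¹), hR, ← Nat.card_coe_set_eq]
        · exact hP₀.le
        · refine Set.disjoint_left.2 ?_
          rintro y hy ⟨r, hr, rfl⟩
          exact hzR (by simpa using mul_mem hy (inv_mem hr))
        · refine Set.disjoint_left.2 ?_
          rintro y (hy | ⟨l, hl, rfl⟩) ⟨r, hr, he⟩
          · refine hzR ?_
            have : z = r * y⁻¹ := by rw [← he]; group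
            rw [this]; exact mul_mem hr (inv_mem hy)
          · refine hz2 ?_
            have : z * z = r * l⁻¹ := by
              rw [eq_mul_inv_iff_mul_eq]
              rw [show r = z * (z * l) from inv_mul_eq_iff_eq_mul.1 he, mul_assoc]
            rw [this]; exact mul_mem hr (inv_mem hl)) (Set.toFinite _)
      rcases (heq ▸ hw : w ∈ (R : Set CX) ∪ S₁ ∪ S₂) with (h | ⟨r, hr, rfl⟩) | ⟨r, hr, rfl⟩
      · exact Or.inl h
      · exact Or.inr (Or.inl (by rw [inv_mul_cancel_left]; exact hr))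
      · exact Or.inr (Or.inr (by rw [mul_inv_cancel_left]; exact hr))
    have hconjR : ∀ (g : CX) (i : ℤ), g * x' ^ i * g⁻¹ = x' ^ i := fun g i => by
      rw [((show Commute x' g from hxc g).zpow_left i).symm.eq, mul_inv_cancel_right]
    -- an involution fixing the coset of `z` centralises it
    have key : ∀ r : CX, r * r = 1 → r ≠ 1 → z⁻¹ * (r * z * r⁻¹) ∉ R := by
      intro r hr hr1 h
      obtain ⟨i, hi⟩ := mem_zpowers_iff.1 h
      have e1 : r * z * r⁻¹ = z * x' ^ i := by rw [hi]; group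
      have e2 : z = z * x' ^ i * x' ^ i := by
        calc z = r * (r * z * r⁻¹) * r⁻¹ := by
              rw [show r * (r * z * r⁻¹) * r⁻¹ = (r * r) * z * (r * r)⁻¹ by group, hr]
              group
          _ = r * (z * x' ^ i) * r⁻¹ := by rw [e1]
          _ = (r * z * r⁻¹) * (r * x' ^ i * r⁻¹) := by group
          _ = z * x' ^ i * x' ^ i := by rw [hconjR, e1]
      have h2 : x' ^ (2 * i) = 1 := by
        rw [two_mul, zpow_add]
        exact mul_eq_left.1 (by rw [← mul_assoc]; exact e2.symm)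
      have h3 : x' ^ i = 1 := by
        refine orderOf_dvd_iff_zpow_eq_one.1 ?_
        have := orderOf_dvd_iff_zpow_eq_one.2 h2
        rw [hx'] at this ⊢
        omega
      rw [h3, mul_one] at e1
      refine not_comm_nine D ht hx htx hP (v := (r : G)) ?_ ?_
      · rw [orderOf_coe]; exact orderOf_two_of hr hr1
      intro w hw
      refine mem_cs.2 (congrArg Subtype.val (show (⟨w, hPX hw⟩ : CX) * r = r * ⟨w, hPX hw⟩ from ?_))
      set w' : CX := ⟨w, hPX hw⟩
      have hzr : Commute r z := mul_inv_eq_iff_eq_mul.1 e1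
      have hxr : ∀ j : ℤ, Commute r (x' ^ j) := fun j =>
        ((show Commute x' r from hxc r).zpow_left j).symm
      rcases hcos w' (mem_subgroupOf.2 hw) with h | h | h <;> obtain ⟨j, hj⟩ := mem_zpowers_iff.1 h
      · rw [← hj]; exact (hxr j).symm.eq
      · rw [show w' = z * x' ^ j by rw [hj]; group]; exact (hzr.mul_right (hxr j)).symm.eq
      · rw [show w' = z⁻¹ * x' ^ j by rw [hj]; group]; exact (hzr.inv_right.mul_right (hxr j)).symm.eq
    have hmove : ∀ r : CX, z⁻¹ * (r * z * r⁻¹) ∈ R ∨ z * (r * z * r⁻¹) ∈ R := fun r => by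
      refine (hcos _ (Normal.conj_mem inferInstance z hz r)).resolve_left fun h => hzR ?_
      obtain ⟨i, hi⟩ := mem_zpowers_iff.1 h
      refine mem_zpowers_iff.2 ⟨i, ?_⟩
      calc x' ^ i = r⁻¹ * (r * x' ^ i * r⁻¹) * r := by group
        _ = r⁻¹ * (r * z * r⁻¹) * r := by rw [hconjR, hi]
        _ = z := by group
    -- the product of two elements moving the coset fixes it
    have hprod : ∀ r s : CX, z * (r * z * r⁻¹) ∈ R → z * (s * z * s⁻¹) ∈ R →
        z⁻¹ * ((r * s) * z * (r * s)⁻¹) ∈ R := by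
      intro r s hr hs
      obtain ⟨i, hi⟩ := mem_zpowers_iff.1 hr
      obtain ⟨j, hj⟩ := mem_zpowers_iff.1 hs
      have : (r * s) * z * (r * s)⁻¹ = z * (x' ^ (-i) * x' ^ j) := by
        calc (r * s) * z * (r * s)⁻¹ = r * (z⁻¹ * x' ^ j) * r⁻¹ := by rw [hj]; group
          _ = (r * z * r⁻¹)⁻¹ * (r * x' ^ j * r⁻¹) := by group
          _ = (z⁻¹ * x' ^ i)⁻¹ * x' ^ j := by rw [hconjR, hi]; group
          _ = z * (x' ^ (-i) * x' ^ j) := by
            rw [mul_inv_rev, inv_inv, ← zpow_neg,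
              ((show Commute x' z from hxc z).zpow_left (-i)).eq, mul_assoc]
      rw [this, inv_mul_cancel_left]
      exact mul_mem (zpow_mem (mem_zpowers x') _) (zpow_mem (mem_zpowers x') _)
    by_cases hsq : ∃ s ∈ T, s * s ≠ 1
    · obtain ⟨s, hs, hs1⟩ := hsq
      refine key (s * s) ?_ hs1 ?_
      · rw [show s * s * (s * s) = s ^ 4 by simp [pow_succ, mul_assoc]]
        exact orderOf_dvd_iff_pow_eq_one.1 (hT4 ▸ Subgroup.orderOf_dvd_natCard T hs)
      · rcases hmove s with h | h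
        · obtain ⟨i, hi⟩ := mem_zpowers_iff.1 h
          have : s * s * z * (s * s)⁻¹ = z * (x' ^ i * x' ^ i) := by
            calc s * s * z * (s * s)⁻¹ = s * (z * x' ^ i) * s⁻¹ := by rw [hi]; group
              _ = (s * z * s⁻¹) * (s * x' ^ i * s⁻¹) := by group
              _ = z * (x' ^ i * x' ^ i) := by
                rw [hconjR, show s * z * s⁻¹ = z * x' ^ i by rw [hi]; group, mul_assoc]
          rw [this, inv_mul_cancel_left]
          exact mul_mem (zpow_mem (mem_zpowers x') _) (zpow_mem (mem_zpowers x') _)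
        · exact hprod s s h h
    · push Not at hsq
      obtain ⟨r, hr, hr1⟩ := T.bot_or_exists_ne_one.resolve_left fun h => by
        rw [h, card_bot] at hT4; omega
      obtain ⟨s, hs, hsr⟩ := SetLike.not_le_iff_exists.1 fun h : T ≤ zpowers r => by
        have := card_le_of_le h
        rw [hT4, Nat.card_zpowers, orderOf_two_of (hsq r hr) hr1] at this
        omega
      have hs1 : s ≠ 1 := fun e => hsr (e ▸ one_mem _)
      rcases hmove r with h | h
      · exact key r (hsq r hr) hr1 h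
      rcases hmove s with h' | h'
      · exact key s (hsq s hs) hs1 h'
      refine key (r * s) (hsq _ (mul_mem hr hs)) (fun e => hsr ?_) (hprod r s h h')
      rw [eq_inv_of_mul_eq_one_right e]
      exact inv_mem (mem_zpowers r)
  have hK3 : Nat.card K = 3 := by
    have h1 : 3 ∣ Nat.card K := hx' ▸ Subgroup.orderOf_dvd_natCard K hxK
    have h2 : Nat.card K ∣ 9 := hP₀ ▸ card_dvd_of_le (normalCore_le P₀)
    have h3 : Nat.card K ≠ 9 := fun h =>
      hKne (eq_of_le_of_card_ge (normalCore_le P₀) (by rw [h, hP₀]))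
    have h4 := Nat.le_of_dvd (by norm_num) h2
    interval_cases hk : Nat.card K <;> omega
  let π := MulAction.toPermHom CX (CX ⧸ P₀)
  have hker : π.ker = K := (normalCore_eq_ker P₀).symm
  let e : Equiv.Perm (CX ⧸ P₀) ≃* Equiv.Perm (Fin 4) := Equiv.permCongrHom (Finite.equivFinOfCardEq hidx)
  let ρ : CX →* Equiv.Perm (Fin 4) := e.toMonoidHom.comp π
  have hρker : ρ.ker = K := by
    rw [← hker]
    ext g
    simp [ρ, MonoidHom.mem_ker]
  have hA : ρ.range = alternatingGroup (Fin 4) := by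
    refine Equiv.Perm.eq_alternatingGroup_of_index_eq_two ?_
    have h1 := ρ.ker.card_mul_index
    rw [index_ker, hρker, hK3, hCX] at h1
    have h2 := ρ.range.card_mul_index
    rw [Nat.card_perm, Nat.card_fin, show (4 : ℕ).factorial = 24 by rfl] at h2
    rw [show Nat.card ρ.range = 12 by omega] at h2
    omega
  have hmemA : ∀ g, ρ g ∈ alternatingGroup (Fin 4) := fun g => hA ▸ ⟨g, rfl⟩
  have hK2 : ∀ g : CX, g ∈ K → ∀ j, orderOf g ∣ 2 ^ j → g = 1 := fun g hg j hj => by
    rw [← orderOf_eq_one_iff]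
    exact Nat.eq_one_of_dvd_coprimes (Nat.Coprime.pow_left j (by norm_num : Nat.Coprime 2 3)) hj
      (hK3 ▸ Subgroup.orderOf_dvd_natCard K hg)
  -- elements of `2`-power order are involutions and commute
  have hsq2 : ∀ (g : CX) (j : ℕ), orderOf g ∣ 2 ^ j → g * g = 1 := by
    intro g j hj
    have h4 : orderOf g ∣ 4 := by
      have h36 : orderOf g ∣ 36 := hCX ▸ orderOf_dvd_natCard g
      have := Nat.dvd_gcd hj h36
      refine this.trans ?_
      have h := Nat.gcd_dvd_right (2 ^ j) 36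
      have hcop : Nat.Coprime (Nat.gcd (2 ^ j) 36) 9 :=
        Nat.Coprime.coprime_dvd_left (Nat.gcd_dvd_left _ _) (Nat.Coprime.pow_left j (by norm_num))
      exact hcop.dvd_of_dvd_mul_right (show Nat.gcd (2 ^ j) 36 ∣ 4 * 9 from h)
    have h1 : ρ (g * g) = 1 := by
      rw [map_mul]
      refine alt_sq _ (hmemA g) ?_
      rw [← map_mul, ← map_mul, show g * g * (g * g) = g ^ 4 by simp [pow_succ, mul_assoc],
        orderOf_dvd_iff_pow_eq_one.1 h4, map_one]
    exact hK2 _ (hρker ▸ MonoidHom.mem_ker.2 h1) 1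
      (orderOf_dvd_of_pow_eq_one (by
        rw [pow_one, pow_two, show g * g * (g * g) = g ^ 4 by simp [pow_succ, mul_assoc]]
        exact orderOf_dvd_iff_pow_eq_one.1 h4))
  have hcomm : ∀ g h : CX, g * g = 1 → h * h = 1 → g * h = h * g := by
    intro g h hg hh
    have h1 : ρ (g * h * g * h) = 1 := by
      rw [map_mul, map_mul, map_mul, alt_comm _ _ (hmemA g) (hmemA h) (by rw [← map_mul, hg, map_one])
        (by rw [← map_mul, hh, map_one]), mul_assoc (ρ h), ← map_mul, hg, map_one, mul_one, ← map_mul,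
        hh, map_one]
    set c := g * h * g * h
    have hc : c ∈ K := hρker ▸ MonoidHom.mem_ker.2 h1
    -- `g` inverts and centralises `c`
    have h3 : c ^ 3 = 1 := orderOf_dvd_iff_pow_eq_one.1 (hK3 ▸ Subgroup.orderOf_dvd_natCard K hc)
    have hKx : K = zpowers x' := (eq_of_le_of_card_ge (zpowers_le.2 hxK)
      (by rw [Nat.card_zpowers, hx', hK3])).symm
    obtain ⟨i, hi⟩ := mem_zpowers_iff.1 (hKx ▸ hc)
    have hgc : g * c = c * g := by
      rw [← hi]; exact ((show Commute x' g from hxc g).zpow_left i).eq.symm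
    have hinv : g * c * g = c⁻¹ := by
      rw [eq_inv_iff_mul_eq_one]
      simp only [c]
      calc g * (g * h * g * h) * g * (g * h * g * h)
          = (g * g) * h * g * h * (g * g) * h * g * h := by group
        _ = h * g * (h * h) * g * h := by rw [hg]; group
        _ = 1 := by rw [hh, mul_one, mul_assoc h g g, hg, mul_one, hh]
    rw [hgc, mul_assoc, hg, mul_one] at hinv
    have hc1 : c = 1 := by
      have h2 : c * c = 1 := by
        conv_lhs => arg 2; rw [hinv]
        exact mul_inv_cancel c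
      rw [pow_succ, pow_two, h2, one_mul] at h3
      exact h3
    calc g * h = c * (h⁻¹ * g⁻¹) := by simp only [c]; group
      _ = h * g := by rw [hc1, one_mul, inv_eq_of_mul_eq_one_right hh, inv_eq_of_mul_eq_one_right hg]
  -- the four-group
  let U₀ : Subgroup CX :=
    { carrier := {g | g * g = 1}
      one_mem' := by simp
      mul_mem' := fun {g h} hg hh => by
        show g * h * (g * h) = 1
        rw [mul_assoc, ← mul_assoc h, ← hcomm g h hg hh, mul_assoc g h h, hh, mul_one, hg]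
      inv_mem' := fun {g} hg => by
        show g⁻¹ * g⁻¹ = 1
        rw [← mul_inv_rev, (hg : g * g = 1), inv_one] }
  have hU₀ : Nat.card U₀ = 4 := by
    obtain ⟨T⟩ := (inferInstance : Nonempty (Sylow 2 CX))
    have hT : Nat.card (T : Subgroup CX) = 4 := by
      exact sylow_card T (k := 2) (m := 9) hCX (by norm_num)
    have hU2 : IsPGroup 2 U₀ := fun g => ⟨1, Subtype.ext (by
      show (g : CX) ^ 2 ^ 1 = 1
      rw [pow_one, pow_two]; exact g.2)⟩
    obtain ⟨n, hn⟩ := IsPGroup.iff_card.1 hU2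
    have hTU : (T : Subgroup CX) ≤ U₀ := fun g hg => hsq2 g 2 (by
      have := hT ▸ Subgroup.orderOf_dvd_natCard (T : Subgroup CX) hg
      exact this)
    exact (hT ▸ congrArg (fun H : Subgroup CX => Nat.card H) (T.is_maximal' hU2 hTU))
  set U := U₀.map CX.subtype
  have hU : Nat.card U = 4 := (card_map_of_injective CX.subtype_injective).trans hU₀
  have hmemU : ∀ {g : G}, g ∈ U ↔ g * x = x * g ∧ g * g = 1 := by
    intro g
    constructor
    · rintro ⟨g, hg, rfl⟩
      exact ⟨mem_cs.1 g.2, congrArg Subtype.val hg⟩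
    · rintro ⟨h1, h2⟩
      exact ⟨⟨g, mem_cs.2 h1⟩, Subtype.ext h2, rfl⟩
  have hconj : ∀ g ∈ CX, ∀ u ∈ U, g * u * g⁻¹ ∈ U := by
    intro g hg u hu
    obtain ⟨h1, h2⟩ := hmemU.1 hu
    refine hmemU.2 ⟨mem_cs.1 (mul_mem (mul_mem hg (mem_cs.2 h1)) (inv_mem hg)), ?_⟩
    rw [show g * u * g⁻¹ * (g * u * g⁻¹) = g * (u * u) * g⁻¹ by group, h2, mul_one, mul_inv_cancel]
  obtain ⟨a, ha, hax⟩ : ∃ a ∈ P, a ∉ zpowers x := by
    by_contra h
    push Not at h
    have := card_le_of_le (h : P ≤ zpowers x)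
    rw [hP, Nat.card_zpowers, hx] at this
    omega
  have hUt : ∀ u ∈ U, u * t = t * u := by
    rintro _ ⟨v, hv, rfl⟩
    exact congrArg Subtype.val (hcomm v ⟨t, mem_cs.2 htx.symm⟩ hv (Subtype.ext (sq_one_of ht)))
  refine ⟨U, P, a, hU, hmemU.2 ⟨htx.symm, sq_one_of ht⟩, fun u hu => (hmemU.1 hu).2,
    fun u hu => (hmemU.1 hu).1, fun g j hg hj => hmemU.2 ⟨hg, ?_⟩, hPX, hP, hxP, ha, hconj,
    fun u hu hu1 hfix => ?_, hax, hUt⟩
  · exact congrArg Subtype.val (hsq2 ⟨g, mem_cs.2 hg⟩ j (by rw [orderOf_mk]; exact hj))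
  · obtain ⟨h1, h2⟩ := hmemU.1 hu
    refine not_comm_nine D ht hx htx hP (orderOf_two_of h2 hu1) ?_
    have hgen : P = zpowers x ⊔ zpowers a := by
      refine (eq_of_le_of_card_ge (sup_le (zpowers_le.2 hxP) (zpowers_le.2 ha)) ?_).symm
      have h3 : 3 ∣ Nat.card ↥(zpowers x ⊔ zpowers a) := by
        rw [← hx, ← Nat.card_zpowers]
        exact card_dvd_of_le le_sup_left
      have h4 : Nat.card ↥(zpowers x ⊔ zpowers a) ∣ 9 :=
        hP ▸ card_dvd_of_le (sup_le (zpowers_le.2 hxP) (zpowers_le.2 ha))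
      have h5 : Nat.card ↥(zpowers x ⊔ zpowers a) ≠ 3 := fun h => hax (by
        have := eq_of_le_of_card_ge (le_sup_left : zpowers x ≤ zpowers x ⊔ zpowers a)
          (by rw [h, Nat.card_zpowers, hx])
        rw [this]
        exact mem_sup_right (mem_zpowers a))
      have := Nat.le_of_dvd (by norm_num) h4
      rw [hP]
      interval_cases hk : Nat.card ↥(zpowers x ⊔ zpowers a) <;> omega
    rw [hgen]
    exact sup_le (zpowers_le.2 (mem_cs.2 h1.symm))
      (zpowers_le.2 (mem_cs.2 (mul_inv_eq_iff_eq_mul.1 hfix)))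

omit D ht hx htx in
theorem conj_subgroup_eq {Q : Subgroup G} {g : G} (h : ∀ q ∈ Q, g * q * g⁻¹ ∈ Q) :
    g ∈ normalizer (Q : Set G) := mem_normalizer_fintype h

/-- `x` is inverted in `C(t)`. -/
theorem exists_inverter : ∃ z ∈ centralizer ({t} : Set G), z * x * z⁻¹ = x⁻¹ := by
  classical
  haveI : Fact (Nat.Prime 3) := ⟨Nat.prime_three⟩
  obtain ⟨U, -, -, hU, -, -, hUx, -, -, -, -, -, -, -, -, hUt⟩ := exists_four D ht hx htx
  by_contra hcon
  push Not at hcon
  set C := centralizer ({t} : Set G)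
  set CX := centralizer ({x} : Set G)
  have hC : Nat.card C = 384 := D.centT t ht
  have hxC : x ∈ C := mem_cs.2 htx
  set x' : C := ⟨x, hxC⟩
  have hx' : orderOf x' = 3 := by rw [orderOf_mk, hx]
  obtain ⟨P, hP⟩ := (isPGroup_three (G := C) hx').exists_le_sylow
  have hPc : Nat.card (P : Subgroup C) = 3 := sylow_card P (k := 1) (m := 128) hC (by norm_num)
  have hPx : (P : Subgroup C) = zpowers x' :=
    (eq_of_le_of_card_ge hP (by rw [hPc, Nat.card_zpowers, hx'])).symm
  have hN : normalizer (P : Set C) ≤ CX.subgroupOf C := by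
    intro g hg
    have hmem : g * x' * g⁻¹ ∈ zpowers x' := hPx ▸ (mem_normalizer_iff.1 hg x').1 (hP (mem_zpowers x'))
    obtain ⟨i, hi⟩ := mem_zpowers_iff.1 hmem
    have hi' : x ^ (i % 3) = (g : G) * x * (g : G)⁻¹ := by
      have := congrArg Subtype.val hi
      simp only [x', coe_zpow, coe_mul, coe_inv] at this
      rw [← this, ← zpow_mod_orderOf x i, hx]
      norm_num
    rcases (show i % 3 = 0 ∨ i % 3 = 1 ∨ i % 3 = 2 by omega) with h | h | h <;> rw [h] at hi'
    · rw [zpow_zero] at hi'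
      have : x = 1 := conj_eq_one_iff.1 hi'.symm
      rw [this, orderOf_one] at hx
      omega
    · rw [zpow_one] at hi'
      exact mem_subgroupOf.2 (mem_cs.2 (mul_inv_eq_iff_eq_mul.1 hi'.symm))
    · refine absurd ?_ (hcon g g.2)
      rw [← hi', eq_inv_iff_mul_eq_one, show x ^ (2 : ℤ) * x = x ^ 3 by
        rw [pow_succ, ← zpow_natCast]; norm_num, ← hx, pow_orderOf_eq_one]
  have hCX : Nat.card ↥(C ⊓ CX) = 12 := by
    have h1 : Nat.card ↥(C ⊓ CX) ∣ 12 := by
      have := Nat.dvd_gcd (hC ▸ card_dvd_of_le (inf_le_left : C ⊓ CX ≤ C))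
        (card_cx D ht hx htx ▸ card_dvd_of_le (inf_le_right : C ⊓ CX ≤ CX))
      norm_num at this
      exact this
    have h3 : 3 ∣ Nat.card ↥(C ⊓ CX) := hx ▸ orderOf_dvd_natCard _ ⟨hxC, mem_cs.2 rfl⟩
    have h4 : 4 ∣ Nat.card ↥(C ⊓ CX) := hU ▸ card_dvd_of_le (fun u hu =>
      ⟨mem_cs.2 (hUt u hu), mem_cs.2 (hUx u hu)⟩)
    exact Nat.dvd_antisymm h1 ((show Nat.Coprime 3 4 by norm_num).mul_dvd_of_dvd_of_dvd h3 h4)
  have hN12 : Nat.card (normalizer (P : Set C)) ∣ 12 := by
    refine (card_dvd_of_le hN).trans (dvd_of_eq (Eq.trans ?_ hCX))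
    exact Nat.card_congr ⟨fun g => ⟨g.1.1, g.1.2, g.2⟩, fun g => ⟨⟨g.1, g.2.1⟩, g.2.2⟩,
      fun _ => rfl, fun _ => rfl⟩
  have hn := card_sylow_modEq_one 3 C
  rw [Sylow.card_eq_index_normalizer P] at hn
  have hmul := (normalizer (P : Set C)).card_mul_index
  rw [hC] at hmul
  have h3 : 3 ∣ Nat.card (normalizer (P : Set C)) := by
    have := card_dvd_of_le (le_normalizer : (P : Subgroup C) ≤ normalizer (P : Set C))
    rwa [hPc] at this
  obtain ⟨T, hT⟩ : ∃ T : ℕ, T = (normalizer (P : Set C)).index := ⟨_, rfl⟩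
  rw [← hT] at hn hmul
  have h4 : 4 ∣ Nat.card (normalizer (P : Set C)) := by
    refine hU ▸ ?_
    have hUle : U.subgroupOf C ≤ normalizer (P : Set C) := fun u hu => by
      refine centralizer_le_normalizer _ ?_
      show u ∈ centralizer ((P : Subgroup C) : Set C)
      rw [hPx, centralizer_zpowers']
      exact mem_cs.2 (Subtype.ext (hUx u (mem_subgroupOf.1 hu)))
    refine dvd_trans (dvd_of_eq ?_) (card_dvd_of_le hUle)
    exact (Nat.card_congr (subgroupOfEquivOfLe fun u hu =>
      mem_cs.2 (hUt u hu)).toEquiv).symm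
  have e : Nat.card (normalizer (P : Set C)) = 12 :=
    Nat.dvd_antisymm hN12 ((show Nat.Coprime 3 4 by norm_num).mul_dvd_of_dvd_of_dvd h3 h4)
  rw [e] at hmul
  have : T = 32 := by omega
  rw [this] at hn
  simp [Nat.ModEq] at hn

end Local

end Cfsg.Agent.Lib.RecogM22
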