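import Cfsg.Agent.Lib.RecogM22.Eleven
import Cfsg.Agent.Lib.RecogM22.CertSeven

/-!
Simple groups of order `443520`: centralisers of the involutions centralising a Sylow subgroup of
order `7`, for `|N : C| ∈ {3, 6}`.
-/

set_option autoImplicit false
set_option linter.style.haveILetI false
set_option linter.unusedSectionVars false

namespace Cfsg.Agent.Lib.RecogM22.Seven

open Cfsg.Agent.Lib.Characters Cfsg.Agent.Lib.Characters.Basic
open Cfsg.Agent.Lib.Classif Cfsg.Agent.Lib.SmallGroups
open Cfsg.Agent.Lib.Classif.PrimeExceptional (deg)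
open Cfsg.Agent.Lib.RecogM22.Search Cfsg.Agent.Lib.RecogM22.Basic Cfsg.Agent.Lib.RecogM22.Fam
open Cfsg.Agent.Lib.RecogThree.M12 (Full.Extra Full.exists_full)

universe u

/-- The arithmetic of `c = k |N ∩ C(t)|`. -/
theorem cent_arith : ((Options.divs 128).flatMap fun a => (Options.divs 315).map fun b => a * b).all
    (fun c => (Options.divs 2520).all fun Nc =>
      decide (Nc % 28 ≠ 0) || decide (Nc % 16 = 0) || decide (c % Nc ≠ 0) ||
        decide (c / Nc % 7 ≠ 1) ||
          ((decide (c % 128 ≠ 0) || cents.elem c || decide (c = 40320 ∧ Nc = 140)) &&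
            (decide (Nc % 8 ≠ 0) || decide (c % 16 ≠ 0) || cents.elem c ||
              decide (c = 8 * Nc)))) = true := by decide +kernel

variable {G : Type u} [Group G] [Finite G] [IsSimpleGroup G] (h : Nat.card G = 443520)

include h

/-- An involution has a centraliser of order prime to eleven. -/
theorem cent_dvd [Fact (Nat.Prime 11)] {t : G} (ht : orderOf t = 2) :
    Nat.card (Subgroup.centralizer ({t} : Set G)) ∣ 40320 := by
  have hd : Nat.card (Subgroup.centralizer ({t} : Set G)) ∣ 11 * 40320 :=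
    (h ▸ Subgroup.card_subgroup_dvd_card _ : _ ∣ 443520)
  refine Nat.Coprime.dvd_of_dvd_mul_left ?_ hd
  refine (Nat.Prime.coprime_iff_not_dvd (by norm_num : Nat.Prime 11)).mpr (fun h11 => ?_) |>.symm
  obtain ⟨⟨y, hy⟩, hyo⟩ := exists_prime_orderOf_dvd_card'
    (G := Subgroup.centralizer ({t} : Set G)) 11 h11
  rw [Subgroup.orderOf_mk] at hyo
  obtain ⟨Q, hQ⟩ := (IsPGroup.of_card (n := 1)
    (show Nat.card (Subgroup.zpowers y) = 11 ^ 1 by rw [Nat.card_zpowers, hyo, pow_one])
    ).exists_le_sylow
  obtain ⟨hQc, -, hCQ, -⟩ := Eleven.data h Q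
  have hQ' := Subgroup.eq_of_le_of_card_ge hQ (by rw [Nat.card_zpowers, hyo, hQc])
  have htC : t ∈ Subgroup.centralizer ((Q : Subgroup G) : Set G) := by
    rw [← hQ', Subgroup.mem_centralizer_iff]
    intro z hz
    obtain ⟨i, rfl⟩ := Subgroup.mem_zpowers_iff.mp hz
    have hc : Commute y t := (Subgroup.mem_centralizer_singleton_iff.mp hy :)
    exact (hc.zpow_left i).eq
  have := Subgroup.orderOf_dvd_natCard _ htC
  rw [hCQ, ht] at this
  norm_num at this

/-- No element of order `11` centralises an element of order `7`. -/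
theorem not_eleven_dvd [Fact (Nat.Prime 7)] [Fact (Nat.Prime 11)] (P : Sylow 7 G) :
    ¬ 11 ∣ Nat.card (Subgroup.centralizer ((P : Subgroup G) : Set G)) := by
  intro h11
  obtain ⟨⟨y, hy⟩, hyo⟩ := exists_prime_orderOf_dvd_card'
    (G := Subgroup.centralizer ((P : Subgroup G) : Set G)) 11 h11
  rw [Subgroup.orderOf_mk] at hyo
  obtain ⟨Q, hQ⟩ := (IsPGroup.of_card (n := 1)
    (show Nat.card (Subgroup.zpowers y) = 11 ^ 1 by rw [Nat.card_zpowers, hyo, pow_one])
    ).exists_le_sylow
  obtain ⟨hQc, -, hCQ, -⟩ := Eleven.data h Q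
  have hQ' := Subgroup.eq_of_le_of_card_ge hQ (by rw [Nat.card_zpowers, hyo, hQc])
  have hPC : (P : Subgroup G) ≤ Subgroup.centralizer ((Q : Subgroup G) : Set G) := by
    intro x hx
    rw [← hQ', Subgroup.mem_centralizer_iff]
    intro z hz
    obtain ⟨i, rfl⟩ := Subgroup.mem_zpowers_iff.mp hz
    have hc : Commute x y := (Subgroup.mem_centralizer_iff.mp hy x hx :)
    exact (hc.zpow_right i).symm.eq
  have := Subgroup.card_dvd_of_le hPC
  rw [hCQ, Sylow.card_sylow_eq P (a := 1) (m := 63360) (by rw [h]; norm_num) (by norm_num)] at this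
  norm_num at this

section Cent

variable [Fact (Nat.Prime 7)] [Fact (Nat.Prime 11)] {P : Sylow 7 G}
  (hP : Nat.card (P : Subgroup G) = 7) {e V : ℕ}
  (heV : e = 3 ∨ (e = 6 ∧ (V = 4 ∨ V = 60)))
  (hrel : (Subgroup.centralizer ((P : Subgroup G) : Set G)).relIndex
    (Subgroup.normalizer ((P : Subgroup G) : Set G)) = e)
  (hC : Nat.card (Subgroup.centralizer ((P : Subgroup G) : Set G)) = 7 * V) (hV : 4 ∣ V)

include hP heV hrel hC hV

/-- The centraliser of an involution in `C(P)` avoids the orders in `cents`. -/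
theorem not_cents {t : G} (ht : orderOf t = 2)
    (htC : t ∈ Subgroup.centralizer ((P : Subgroup G) : Set G)) :
    Nat.card (Subgroup.centralizer ({t} : Set G)) ∉ cents ∧
      (e = 3 → Nat.card (Subgroup.centralizer ({t} : Set G)) ∉ cents ++ [2240, 4032]) := by
  classical
  haveI := Fintype.ofFinite G
  have hG := Eleven.not_comm h
  set c := Nat.card (Subgroup.centralizer ({t} : Set G)) with hc
  suffices key : deadAt e c = true → False by
    constructor
    · intro hm
      rcases heV with rfl | ⟨rfl, -⟩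
      · exact key (List.all_eq_true.mp dead_three c (List.mem_append_left _ hm))
      · exact key (List.all_eq_true.mp dead_six c hm)
    · rintro rfl hm
      exact key (List.all_eq_true.mp dead_three c hm)
  intro hdead
  obtain ⟨D, ⟨E⟩⟩ := Full.exists_full P hP hrel
  have hlo := PrimeDegrees.two_mul_le_of_centralizer hG hP hC (by omega) (dvd_mul_right 7 V)
    (fun hd => by
      rw [pow_two] at hd
      have h7 : 7 * 7 ∣ 443520 := hd.trans (hC ▸ h ▸ Subgroup.card_subgroup_dvd_card _)
      norm_num at h7) D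
  have hfam := D.fam_card
  have ht6 : D.fam.card = 6 / e := by
    rcases heV with rfl | ⟨rfl, -⟩ <;> omega
  obtain ⟨s, hT, hfams⟩ := exists_fam hG hP h D E ht6 hlo ht (by norm_num)
    (Or.inr ⟨rfl, htC⟩) hc.symm
  have hcond : cond e c s = true := by
    rcases heV with rfl | ⟨rfl, hV'⟩
    · rw [Pairs.T_eq_zero hP D E (by norm_num) hrel (by decide) ht ht, zero_mul] at hT
      simp only [cond, if_pos, decide_eq_true_eq]
      exact_mod_cast hT.symm
    · obtain ⟨j, hj, hsq⟩ := Pairs.exists_square hP D E (by norm_num) hrel ht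
      rw [h, hC, ← hc, hT] at hsq
      have hle := Pairs.card_invCls_le (P := P) t
      rw [hj, hC] at hle
      simp only [cond, if_neg (by norm_num : ¬ (6 : ℕ) = 3), List.any_eq_true, List.mem_range,
        decide_eq_true_eq]
      refine ⟨V, by simpa using hV', j, by omega, ?_⟩
      have h' : tVal 443520 s * ((7 * V : ℕ) : ℤ) = ((7 ^ 2 * c ^ 2 * j ^ 2 : ℕ) : ℤ) := by
        exact_mod_cast hsq
      push_cast at h' ⊢
      linarith
  obtain ⟨⟨A, hA, hperm⟩, -⟩ := hfams _ hcond
  have hkill := kill_of_allFams hdead hA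
  simp only [kill, List.any_eq_true, Bool.or_eq_true, Bool.and_eq_true, decide_eq_true_eq,
    Bool.not_eq_true', List.elem_eq_mem, decide_eq_false_iff_not] at hkill
  obtain ⟨x, hx, hkill⟩ := hkill
  have hx' := hperm.mem_iff.mp hx
  simp only [pairsOf, List.mem_map, Finset.mem_toList] at hx'
  obtain ⟨χ, hχ, rfl⟩ := hx'
  have hne : χ ≠ oneChar G := by
    rintro rfl
    rcases (by simpa using hχ : oneChar G ∈ D.K ∨ oneChar G ∈ D.fam) with h' | h'
    · exact D.one_not_mem h'
    · exact D.fam_one h'
  -- the family at the prime eleven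
  let Q : Sylow 11 G := default
  obtain ⟨hQ, -, hCQ, hNQ⟩ := Eleven.data h Q
  have hrelQ : (Subgroup.centralizer ((Q : Subgroup G) : Set G)).relIndex
      (Subgroup.normalizer ((Q : Subgroup G) : Set G)) = 5 := by
    have h' := Sylow.card_centralizer_mul_relIndex (Q : Subgroup G)
    rw [hCQ, hNQ] at h'
    omega
  obtain ⟨D', ⟨E'⟩⟩ := Full.exists_full Q hQ hrelQ
  have hCQ' : Subgroup.centralizer ((Q : Subgroup G) : Set G) = Q := by
    symm
    refine Subgroup.eq_of_le_of_card_ge (fun a ha => ?_) (by rw [hCQ, hQ])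
    rw [Subgroup.mem_centralizer_iff]
    intro b hb
    haveI := isCyclic_of_prime_card hQ
    exact congrArg Subtype.val
      ((IsCyclic.commGroup (α := (Q : Subgroup G))).mul_comm ⟨b, hb⟩ ⟨a, ha⟩)
  have hfam' := D'.fam_card
  obtain ⟨h2K, h2θ⟩ := D'.two_le (Sylow.commutator_eq_top hG)
  obtain ⟨s', hT', hfams'⟩ := exists_fam hG hQ h D' E' (t := 2) (by omega)
    (lo := 2) ⟨fun ψ hψ => by have := h2K ψ hψ; omega, by omega⟩ ht (by norm_num) (Or.inl rfl) hc.symm
  rw [Pairs.T_eq_zero hQ D' E' (by norm_num) hrelQ (by decide) ht ht, zero_mul] at hT'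
  have h0 : decide (tVal 443520 s' = 0) = true := decide_eq_true (by exact_mod_cast hT'.symm)
  have hforced := (hfams' (fun s => decide (tVal 443520 s = 0)) h0).2
  simp only [dv] at hkill
  have hmemK : ∀ {a : ℤ}, χ ∈ D'.K → D'.a χ = a → (11 : ℤ) ∣ a * deg χ - 1 := fun {a} hK ha =>
    ha ▸ (FirstPowerKills.signed_facts (Sylow.commutator_eq_top hG) hQ D' hK).1
  have hθ : χ ∈ D'.fam → (11 : ℤ) ∣ deg χ - 5 ∨ (11 : ℤ) ∣ deg χ + 5 := by
    intro hf
    have h' := D'.θ_cong hQ
    rw [← D'.fam_deg χ hf] at h'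
    rcases D'.δ_unit with hδ | hδ <;> rw [hδ] at h'
    · exact Or.inl (by simpa using h')
    · right
      have := h'.neg_right
      simpa [sub_eq_add_neg, add_comm] using this
  have hcases : (11 : ℤ) ∣ deg χ ∨ χ ∈ D'.K ∨ χ ∈ D'.fam := by
    by_contra hcon
    push Not at hcon
    exact hcon.1 (PrimeDegrees.dvd_deg_of_other hQ hCQ' D' χ hne hcon.2.1 hcon.2.2)
  rcases hkill with hkill | ⟨h10, hkill⟩
  · rcases hcases with h0 | hK | hf
    · simp [Int.emod_eq_zero_of_dvd h0] at hkill
    · rcases D'.a_unit χ hK with ha | ha <;> have := hmemK hK ha <;>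
        simp only [List.mem_cons, List.not_mem_nil, or_false] at hkill <;> omega
    · have := hθ hf
      simp only [List.mem_cons, List.not_mem_nil, or_false] at hkill
      omega
  · rcases hcases with h0 | hK | hf
    · omega
    · have ha : D'.a χ = -1 := by
        rcases D'.a_unit χ hK with ha | ha
        · have := hmemK hK ha; omega
        · exact ha
      have := hforced χ hK
      rw [ha, neg_one_mul, neg_one_mul, hkill] at this
      exact Bool.noConfusion this
    · have := hθ hf; omega

/-- The two facts on an involution of `C(P)`: its centraliser has no Sylow `2`-subgroup of the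
group, and eight Sylow `7`-subgroups when its normaliser part has order divisible by `8`. -/
theorem cent_facts (hN : Nat.card (Subgroup.normalizer ((P : Subgroup G) : Set G)) ∣ 2520)
    {t : G} (ht : orderOf t = 2) (htC : t ∈ Subgroup.centralizer ((P : Subgroup G) : Set G)) :
    ¬ 128 ∣ Nat.card (Subgroup.centralizer ({t} : Set G)) ∧
      (8 ∣ Nat.card (Subgroup.normalizer ((P : Subgroup G) : Set G) ⊓
          Subgroup.centralizer ({t} : Set G) : Subgroup G) →
        16 ∣ Nat.card (Subgroup.centralizer ({t} : Set G)) →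
        Nat.card (Subgroup.centralizer ({t} : Set G)) =
            8 * Nat.card (Subgroup.normalizer ((P : Subgroup G) : Set G) ⊓
              Subgroup.centralizer ({t} : Set G) : Subgroup G) ∧
          (e = 3 → Nat.card (Subgroup.centralizer ({t} : Set G)) = 448 ∨
            Nat.card (Subgroup.centralizer ({t} : Set G)) = 1344)) := by
  classical
  have hG := Eleven.not_comm h
  obtain ⟨hnc, hnc3⟩ := not_cents h hP heV hrel hC hV ht htC
  have hc40 := cent_dvd h ht
  have hPt : (P : Subgroup G) ≤ Subgroup.centralizer ({t} : Set G) := fun y hy =>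
    Subgroup.mem_centralizer_singleton_iff.mpr (Subgroup.mem_centralizer_iff.mp htC y hy)
  set Ct := Subgroup.centralizer ({t} : Set G) with hCt
  set N := Subgroup.normalizer ((P : Subgroup G) : Set G) with hNdef
  have hk := SmallOrderTools.card_sylow_subgroup_mul P Ct hPt
  have hkmod : Nat.card (Sylow 7 Ct) % 7 = 1 := Sylow.card_sylow_mod
  set Nc := Nat.card (N ⊓ Ct : Subgroup G) with hNc
  have hNcd : Nc ∣ 2520 := (Subgroup.card_dvd_of_le inf_le_left).trans hN
  -- four divides `Nc`
  set C := Subgroup.centralizer ((P : Subgroup G) : Set G) with hCdef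
  have h4 : 4 ∣ Nc := by
    have h4C := Basic.four_dvd_centralizer (G := C)
      (by rw [hC]; exact hV.mul_left 7) (u := ⟨t, htC⟩) (by rw [Subgroup.orderOf_mk, ht])
    rw [Nat.card_congr ((Subgroup.centralizer
      ({(⟨t, htC⟩ : C)} : Set C)).equivMapOfInjective C.subtype C.subtype_injective).toEquiv]
      at h4C
    refine h4C.trans (Subgroup.card_dvd_of_le ?_)
    rintro a ⟨⟨b, hb⟩, hb', rfl⟩
    refine ⟨Sylow.centralizer_le_normalizer _ hb, ?_⟩
    rw [hCt]
    exact Subgroup.mem_centralizer_singleton_iff.mpr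
      (congrArg Subtype.val (Subgroup.mem_centralizer_singleton_iff.mp hb'))
  have h7 : 7 ∣ Nc := by
    rw [← hP, hNc]
    exact Subgroup.card_dvd_of_le (le_inf Subgroup.le_normalizer hPt)
  have h16 : ¬ 16 ∣ Nc := fun h16 => by
    have := h16.trans hNcd; norm_num at this
  have hc16 : Nat.card Ct ∈ ((Options.divs 128).flatMap fun a =>
      (Options.divs 315).map fun b => a * b) := by
    obtain ⟨a, b, ha, hb, hab⟩ := Nat.dvd_mul.mp (show Nat.card Ct ∣ 128 * 315 from hc40)
    simp only [List.mem_flatMap, List.mem_map]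
    exact ⟨a, Options.mem_divs (by norm_num) ha, b, Options.mem_divs (by norm_num) hb, hab⟩
  have hpos : 0 < Nc := Nat.card_pos
  have hq : Nat.card Ct / Nc = Nat.card (Sylow 7 Ct) := by
    rw [← hk, Nat.mul_div_cancel _ hpos]
  have htab := List.all_eq_true.mp (List.all_eq_true.mp cent_arith _ hc16) Nc
    (Options.mem_divs (by norm_num) hNcd)
  have hrow : (¬ 128 ∣ Nat.card Ct ∨ Nat.card Ct ∈ cents ∨ (Nat.card Ct = 40320 ∧ Nc = 140)) ∧
      (¬ 8 ∣ Nc ∨ ¬ 16 ∣ Nat.card Ct ∨ Nat.card Ct ∈ cents ∨ Nat.card Ct = 8 * Nc) := by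
    simp only [Bool.or_eq_true, Bool.and_eq_true, decide_eq_true_eq, List.elem_eq_mem] at htab
    rcases htab with (((h' | h') | h') | h') | ⟨h1, h2⟩
    · exact absurd (Nat.mod_eq_zero_of_dvd
        ((show Nat.Coprime 4 7 by norm_num).mul_dvd_of_dvd_of_dvd h4 h7)) h'
    · exact absurd (Nat.dvd_of_mod_eq_zero h') h16
    · exact absurd (Nat.mod_eq_zero_of_dvd (Dvd.intro_left _ hk)) h'
    · rw [hq] at h'; exact absurd hkmod h'
    · simp only [Nat.dvd_iff_mod_eq_zero]
      exact ⟨or_assoc.mp h1, or_assoc.mp (or_assoc.mp h2)⟩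
  refine ⟨fun h128 => ?_, fun h8 h16' => ?_⟩
  · rcases hrow.1 with h' | h' | ⟨h40, hNc140⟩
    · exact h' h128
    · exact hnc h'
    -- a subgroup of index eleven
    have hV24 : 7 * V ≤ 168 := by
      have hne : Ct ≠ ⊤ := Basic.centralizer_ne_top hG fun e' => by
        rw [e', orderOf_one] at ht; omega
      have hidx : Ct.index = 11 := by
        have := Subgroup.index_mul_card Ct
        rw [h, h40] at this
        omega
      have hinj := Sylow.toPermHom_injective (G := G) hne
      let φ := MulAction.toPermHom G (G ⧸ Ct)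
      haveI := Fintype.ofFinite (G ⧸ Ct)
      obtain ⟨⟨y, hy⟩, hyo⟩ := exists_prime_orderOf_dvd_card' (G := (P : Subgroup G)) 7 (by rw [hP])
      rw [Subgroup.orderOf_mk] at hyo
      have hσ : orderOf (φ y) = 7 := by rw [orderOf_injective φ hinj, hyo]
      have hcard : Fintype.card (G ⧸ Ct) = 11 := by
        rw [← Nat.card_eq_fintype_card]; exact hidx
      have hct : (φ y).cycleType = {7} := by
        have h1 := Equiv.Perm.cycleType_prime_order (σ := φ y) (hσ.symm ▸ (by norm_num))
        obtain ⟨n, hn⟩ := h1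
        rw [hσ] at hn
        have h2 := (φ y).sum_cycleType_le
        rw [hn, Multiset.sum_replicate, smul_eq_mul, hcard] at h2
        obtain rfl : n = 0 := by omega
        rw [hn]
        rfl
      have hle : Nat.card C ≤ Nat.card (Subgroup.centralizer ({φ y} : Set _)) := by
        refine Nat.card_le_card_of_injective (fun a => ⟨φ a.1, ?_⟩) fun a b hab =>
          Subtype.ext (hinj (congrArg Subtype.val hab))
        rw [Subgroup.mem_centralizer_singleton_iff, ← map_mul, ← map_mul,
          Subgroup.mem_centralizer_iff.mp a.2 y hy]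
      rw [Equiv.Perm.nat_card_centralizer, hct, hcard, hC] at hle
      simpa [Nat.factorial] using hle
    have h5 : 5 ∣ Nc := by rw [hNc140]; norm_num
    have hNCe : Nat.card N = 7 * V * e := by
      rw [← hC, hNdef, ← hrel]
      exact (Sylow.card_centralizer_mul_relIndex (P : Subgroup G)).symm
    have h5N : 5 ∣ 7 * V * e := hNCe ▸ h5.trans (Subgroup.card_dvd_of_le inf_le_left)
    have h5V : 5 ∣ V := by
      rcases heV with rfl | ⟨rfl, -⟩ <;>
      · rcases (Nat.Prime.dvd_mul (by norm_num)).mp h5N with h' | h'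
        · rcases (Nat.Prime.dvd_mul (by norm_num)).mp h' with h'' | h''
          · norm_num at h''
          · exact h''
        · norm_num at h'
    obtain ⟨w, rfl⟩ := (show Nat.Coprime 4 5 by norm_num).mul_dvd_of_dvd_of_dvd hV h5V
    have : w = 1 := by
      rcases Nat.eq_zero_or_pos w with rfl | hw
      · have : 0 < Nat.card C := Nat.card_pos
        omega
      · omega
    subst this
    have hV20 : e = 3 := by
      rcases heV with rfl | ⟨-, h' | h'⟩
      · rfl
      · norm_num at h'
      · norm_num at h'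
    subst hV20
    norm_num at hNCe
    -- `|N| = 420` does not occur
    have hd := hN
    have hn := Sylow.card_normalizer_mul P
    rw [← hNdef, hNCe, h] at hn
    have hmod : Nat.card (Sylow 7 G) % 7 = 1 := Sylow.card_sylow_mod
    omega
  · obtain h' | h' | h' | h' := hrow.2
    · exact absurd h8 h'
    · exact absurd h16' h'
    · exact absurd h' hnc
    refine ⟨h', fun he3 => ?_⟩
    have hn3 := hnc3 he3
    rw [h'] at hn3 ⊢
    simp only [cents, List.cons_append, List.nil_append, List.mem_cons, List.not_mem_nil,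
      or_false] at hn3
    have h56 : 56 ∣ Nc := (show Nat.Coprime 8 7 by norm_num).mul_dvd_of_dvd_of_dvd h8 h7
    obtain ⟨d, hd⟩ := h56
    have hd45 : d ∣ 45 := Nat.dvd_of_mul_dvd_mul_left (by norm_num : 0 < 56) (hd ▸ hNcd)
    have hc40' := hc40
    rw [h'] at hc40'
    have := Nat.le_of_dvd (by norm_num) hd45
    rw [hd] at hn3 hc40' ⊢
    interval_cases d <;> omega

end Cent

end Cfsg.Agent.Lib.RecogM22.Seven
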