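import Cfsg.Agent.Lib.RecogM22.Local7Three

/-!
No group of order `443520` has `|N(P) : C(P)| ∈ {3, 6}` with `176` or `2640` Sylow `7`-subgroups.
-/

set_option autoImplicit false
set_option linter.style.haveILetI false
set_option linter.unusedSectionVars false

namespace Cfsg.Agent.Lib.RecogM22.Seven

open Cfsg.Agent.Lib.Classif Cfsg.Agent.Lib.SmallGroups

universe u

variable {G : Type u} [Group G] [Finite G] [IsSimpleGroup G] [Fact (Nat.Prime 7)]
  [Fact (Nat.Prime 11)]

theorem Eight.false (B : Eight G) : False := by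
  rcases B.Y_cases with ⟨A, hA, hA8⟩ | ⟨hs, h168⟩
  · rcases B.e_cases with he | he
    · exact B.not_normal_three he A hA hA8
    · exact B.not_normal_six he A hA hA8
  · haveI := hs
    rcases B.e_cases with he | he
    · exact B.not_simple_three h168 he
    · exact B.not_simple_six h168 he

/-- The subgroup of index two of a `2`-group of order `2 |H|`. -/
theorem index_two_facts {H K : Subgroup G} (hle : H ≤ K) (hc : Nat.card K = 2 * Nat.card H) :
    ∃ s ∈ K, s ∉ H ∧ s * s ∈ H ∧ (∀ a ∈ H, ∀ k ∈ K, k * a * k⁻¹ ∈ H) ∧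
      ∀ k ∈ K, k ∈ H ∨ ∃ a ∈ H, k = s * a := by
  have hidx : (H.subgroupOf K).index = 2 := by
    have h := (H.subgroupOf K).card_mul_index
    rw [Nat.card_congr (Subgroup.subgroupOfEquivOfLe hle).toEquiv, hc, mul_comm 2] at h
    exact Nat.eq_of_mul_eq_mul_left Nat.card_pos h
  obtain ⟨s, hs, hsH⟩ : ∃ s ∈ K, s ∉ H := by
    by_contra hcon
    push Not at hcon
    have h := Nat.le_of_dvd Nat.card_pos (Subgroup.card_dvd_of_le (show K ≤ H from hcon))
    have : 0 < Nat.card H := Nat.card_pos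
    omega
  refine ⟨s, hs, hsH, ?_, fun a ha k hk => ?_, fun k hk => ?_⟩
  · have := Subgroup.sq_mem_of_index_two hidx ⟨s, hs⟩
    simpa [Subgroup.mem_subgroupOf, pow_two] using this
  · haveI := Subgroup.normal_of_index_eq_two hidx
    exact Subgroup.mem_subgroupOf.mp
      (Subgroup.Normal.conj_mem inferInstance (⟨a, hle ha⟩ : K) (Subgroup.mem_subgroupOf.mpr ha)
        ⟨k, hk⟩)
  · by_cases hkH : k ∈ H
    · exact Or.inl hkH
    refine Or.inr ⟨s⁻¹ * k, ?_, by group⟩
    have h := Subgroup.mul_mem_iff_of_index_two hidx (a := (⟨s⁻¹, inv_mem hs⟩ : K)) (b := ⟨k, hk⟩)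
    simp only [Subgroup.mem_subgroupOf, Subgroup.coe_mul, inv_mem_iff] at h
    exact h.mpr (iff_of_false hsH hkH)

/-- The options with `176` or `2640` Sylow subgroups do not occur. -/
theorem no_eight (h : Nat.card G = 443520) (P : Sylow 7 G) (hP : Nat.card (P : Subgroup G) = 7)
    {e V : ℕ} (heV : (e = 3 ∧ (V = 8 ∨ V = 120)) ∨ (e = 6 ∧ (V = 4 ∨ V = 60)))
    (hrel : (Subgroup.centralizer ((P : Subgroup G) : Set G)).relIndex
      (Subgroup.normalizer ((P : Subgroup G) : Set G)) = e)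
    (hC : Nat.card (Subgroup.centralizer ((P : Subgroup G) : Set G)) = 7 * V) : False := by
  classical
  haveI : Fact (Nat.Prime 2) := ⟨Nat.prime_two⟩
  set N := Subgroup.normalizer ((P : Subgroup G) : Set G) with hNdef
  set C := Subgroup.centralizer ((P : Subgroup G) : Set G) with hCdef
  have hN : Nat.card N = 168 ∨ Nat.card N = 2520 := by
    rw [← Sylow.card_centralizer_mul_relIndex (P : Subgroup G), hrel, hC]
    rcases heV with ⟨rfl, rfl | rfl⟩ | ⟨rfl, rfl | rfl⟩ <;> norm_num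
  have hNd : Nat.card N ∣ 2520 := by rcases hN with h' | h' <;> rw [h'] <;> norm_num
  -- a Sylow subgroup of `N(P)` and a group of order sixteen over it
  let R : Sylow 2 N := default
  set S0 : Subgroup G := (R : Subgroup N).map N.subtype with hS0
  have hS08 : Nat.card S0 = 8 := by
    rw [hS0, ← Nat.card_congr (Subgroup.equivMapOfInjective _ _ N.subtype_injective).toEquiv]
    rcases hN with h' | h'
    · simpa using Sylow.card_sylow_eq R (a := 3) (m := 21) (by rw [h']; norm_num) (by norm_num)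
    · simpa using Sylow.card_sylow_eq R (a := 3) (m := 315) (by rw [h']; norm_num) (by norm_num)
  have hS0N : S0 ≤ N := Subgroup.map_subtype_le _
  obtain ⟨K, hK, hS0K⟩ := Sylow.exists_subgroup_card_pow_succ (p := 2) (n := 3)
    (by rw [h]; norm_num) (H := S0) (by rw [hS08]; norm_num)
  obtain ⟨s0, hs0K, hs0, hs02, hconj, hK2⟩ := index_two_facts hS0K (by rw [hK, hS08]; norm_num)
  set T := S0 ⊓ C with hT
  set τ : ℕ := if e = 3 then 8 else 4 with hτ
  have hTc : τ ≤ Nat.card T := by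
    haveI : (C.subgroupOf N).Normal := Subgroup.normal_subgroupOf_centralizer_normalizer _
    have hd : C.relIndex S0 ∣ e := by
      rw [← hrel]
      have h' := Subgroup.relIndex_dvd_index_of_normal (H := C.subgroupOf N)
        (K := S0.subgroupOf N)
      rw [Subgroup.relIndex_subgroupOf hS0N] at h'
      exact h'
    have h8 : C.relIndex S0 ∣ 8 := hS08 ▸ Subgroup.relIndex_dvd_card _ _
    have h' := (C.subgroupOf S0).card_mul_index
    rw [hS08, ← Subgroup.inf_subgroupOf_left,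
      Nat.card_congr (Subgroup.subgroupOfEquivOfLe inf_le_left).toEquiv] at h'
    change Nat.card T * (S0 ⊓ C).relIndex S0 = 8 at h'
    rw [Subgroup.inf_relIndex_left] at h'
    have hle : C.relIndex S0 ≤ if e = 3 then 1 else 2 := by
      rcases heV with ⟨rfl, -⟩ | ⟨rfl, -⟩
      · rw [if_pos rfl, Nat.dvd_one.mp ((Nat.dvd_gcd hd h8).trans (by norm_num))]
      · rw [if_neg (by norm_num)]
        exact Nat.le_of_dvd (by norm_num) ((Nat.dvd_gcd hd h8).trans (by norm_num))
    rw [hτ]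
    split_ifs at hle ⊢ <;> nlinarith
  have hTS : T ≤ S0 := inf_le_left
  have hTn : ∀ k ∈ S0, ∀ t ∈ T, k * t * k⁻¹ ∈ T := fun k hk t ht => by
    have h1 : k * t * k⁻¹ ∈ S0 := mul_mem (mul_mem hk ht.1) (inv_mem hk)
    refine ⟨h1, ?_⟩
    haveI : (C.subgroupOf N).Normal := Subgroup.normal_subgroupOf_centralizer_normalizer _
    exact Subgroup.mem_subgroupOf.mp (Subgroup.Normal.conj_mem inferInstance
      (⟨t, hS0N ht.1⟩ : N) (Subgroup.mem_subgroupOf.mpr ht.2) ⟨k, hS0N hk⟩)
  set T' := T.map (MulAut.conj s0).toMonoidHom with hT'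
  have hT'S : T' ≤ S0 := by
    rintro _ ⟨t, ht, rfl⟩
    exact hconj t ht.1 s0 hs0K
  set D := T ⊓ T' with hD
  have hD1 : D ≠ ⊥ := by
    intro hbot
    have hsup := card_sup_mul_inf T T' (fun t ht => by
      rw [Subgroup.mem_normalizer_iff]
      intro a
      have key : ∀ k ∈ S0, ∀ x ∈ T', k * x * k⁻¹ ∈ T' := by
        rintro k hk _ ⟨x, hx, rfl⟩
        refine ⟨(s0⁻¹ * k * s0) * x * (s0⁻¹ * k * s0)⁻¹, hTn _ ?_ x hx, ?_⟩
        · simpa using hconj k hk s0⁻¹ (inv_mem hs0K)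
        · simp [mul_assoc]
      refine ⟨key t ht.1 a, fun ha => ?_⟩
      have := key t⁻¹ (inv_mem ht.1) _ ha
      simpa [mul_assoc] using this)
    rw [← hD, hbot, Subgroup.card_bot, mul_one, hT',
      ← Nat.card_congr (Subgroup.equivMapOfInjective _ _ (MulEquiv.injective _)).toEquiv] at hsup
    have hle := Nat.le_of_dvd Nat.card_pos (Subgroup.card_dvd_of_le (sup_le hTS hT'S))
    rw [← hT'] at *
    rw [hsup, hS08] at hle
    have h4 : 4 ≤ Nat.card T := le_trans (by rw [hτ]; split_ifs <;> norm_num) hTc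
    nlinarith
  have hKD : ∀ k ∈ K, ∀ d ∈ D, k * d * k⁻¹ ∈ D := by
    have hs : ∀ d ∈ D, s0 * d * s0⁻¹ ∈ D := by
      rintro d ⟨h1, ⟨x, hx, rfl⟩⟩
      refine ⟨?_, ⟨_, h1, rfl⟩⟩
      have := hTn _ hs02 x hx
      simpa [mul_assoc] using this
    have hS0D : ∀ k ∈ S0, ∀ d ∈ D, k * d * k⁻¹ ∈ D := by
      rintro k hk d ⟨h1, ⟨x, hx, rfl⟩⟩
      refine ⟨hTn k hk _ h1, ⟨(s0⁻¹ * k * s0) * x * (s0⁻¹ * k * s0)⁻¹, hTn _ ?_ x hx, ?_⟩⟩
      · simpa using hconj k hk s0⁻¹ (inv_mem hs0K)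
      · simp [mul_assoc]
    intro k hk d hd
    rcases hK2 k hk with hk' | ⟨a, ha, rfl⟩
    · exact hS0D k hk' d hd
    · have := hs _ (hS0D a ha d hd)
      simpa [mul_assoc] using this
  -- an involution of `D` fixed by `K`
  have hKp : IsPGroup 2 K := IsPGroup.of_card hK
  let act : MulAction K D :=
    { smul := fun k d => ⟨(k : G) * d * (k : G)⁻¹, hKD k k.2 d d.2⟩
      one_smul := fun d => Subtype.ext (show (1 : G) * d * 1⁻¹ = d by simp)
      mul_smul := fun a b d => Subtype.ext (show ((a * b : K) : G) * d * ((a * b : K) : G)⁻¹ =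
        (a : G) * ((b : G) * d * (b : G)⁻¹) * (a : G)⁻¹ by simp [mul_assoc]) }
  have hDp : IsPGroup 2 D := hKp.to_le ((inf_le_left.trans hTS).trans hS0K)
  haveI : Nontrivial D := (Subgroup.nontrivial_iff_ne_bot D).mpr hD1
  have h2D : 2 ∣ Nat.card D := by
    obtain ⟨k, hk, hk'⟩ := hDp.nontrivial_iff_card.mp inferInstance
    exact hk' ▸ dvd_pow_self 2 (by omega)
  obtain ⟨d, hd, hd1⟩ := hKp.exists_fixed_point_of_prime_dvd_card_of_fixed_point D h2D (a := 1)
    (fun a => Subtype.ext (show (a : G) * 1 * (a : G)⁻¹ = 1 by simp))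
  have hd8 : (d : G) ^ 2 ^ 4 = 1 := by
    have := congrArg Subtype.val
      (pow_card_eq_one' (x := (⟨(d : G), hS0K (hTS d.2.1)⟩ : K)))
    rwa [hK] at this
  obtain ⟨j, -, hj⟩ := (Nat.dvd_prime_pow Nat.prime_two).mp (orderOf_dvd_of_pow_eq_one hd8)
  have hj0 : j ≠ 0 := fun h0 => hd1 (Subtype.ext (orderOf_eq_one_iff.mp
    (by rw [hj, h0, pow_zero])).symm)
  set u := (d : G) ^ 2 ^ (j - 1) with hu
  have huo : orderOf u = 2 := by
    rw [hu, orderOf_pow' _ (by positivity), hj, Nat.gcd_eq_right (pow_dvd_pow 2 (by omega)),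
      Nat.pow_div (by omega) (by norm_num), show j - (j - 1) = 1 by omega, pow_one]
  have huC : u ∈ C := pow_mem d.2.1.2 _
  have hKu : K ≤ Subgroup.centralizer ({u} : Set G) := fun k hk => by
    rw [Subgroup.mem_centralizer_singleton_iff]
    exact ((show Commute k (d : G) from
      mul_inv_eq_iff_eq_mul.mp (congrArg Subtype.val (hd ⟨k, hk⟩))).pow_right _).eq
  set Cu := Subgroup.centralizer ({u} : Set G) with hCu
  obtain ⟨h128, hfacts⟩ := cent_facts h hP (e := e) (V := V)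
    (by rcases heV with ⟨he, -⟩ | ⟨he, hV⟩
        · exact Or.inl he
        · exact Or.inr ⟨he, hV⟩)
    hrel hC (by rcases heV with ⟨-, rfl | rfl⟩ | ⟨-, rfl | rfl⟩ <;> norm_num)
    hNd huo huC
  have h8 : 8 ∣ Nat.card (N ⊓ Cu : Subgroup G) :=
    hS08 ▸ Subgroup.card_dvd_of_le (le_inf hS0N (hS0K.trans hKu))
  have h16 : 16 ∣ Nat.card Cu := by
    have := Subgroup.card_dvd_of_le hKu
    rwa [hK] at this
  obtain ⟨hk, hc3⟩ := hfacts h8 h16
  -- a Sylow subgroup of `C(u)` and a group of order `128` over it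
  obtain ⟨m, hm⟩ : 64 ∣ Nat.card Cu := hk ▸ mul_dvd_mul_left 8 h8
  have hm2 : ¬ 2 ∣ m := fun ⟨l, hl⟩ => h128 ⟨l, by rw [hm, hl]; ring⟩
  let S : Sylow 2 Cu := default
  set S1 : Subgroup G := (S : Subgroup Cu).map Cu.subtype with hS1
  have hS164 : Nat.card S1 = 64 := by
    rw [hS1, ← Nat.card_congr (Subgroup.equivMapOfInjective _ _ Cu.subtype_injective).toEquiv]
    simpa using Sylow.card_sylow_eq S (a := 6) (m := m) (by rw [hm]; norm_num) hm2
  obtain ⟨M, hM, hS1M⟩ := Sylow.exists_subgroup_card_pow_succ (p := 2) (n := 6)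
    (by rw [h]; norm_num) (H := S1) (by rw [hS164]; norm_num)
  obtain ⟨s, hsM, hs, hss, hconj', -⟩ := index_two_facts hS1M (by rw [hM, hS164]; norm_num)
  exact Eight.false
    { card := h, P := P, hP := hP, e := e, V := V, heV := heV, hrel := hrel, hC := hC, u := u
      hu := huo, huC := huC, S1 := S1, hS1 := hS164, hS1u := Subgroup.map_subtype_le _
      s := s, hs := hs, hss := hss, hsN := fun a ha => hconj' a ha s hsM, hk := hk, hc3 := hc3 }

end Cfsg.Agent.Lib.RecogM22.Seven
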