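import Cfsg.Agent.Lib.RecogM22.Local7Setup

/-!
The group of even permutations of the eight Sylow `7`-subgroups induced by `C(u)`.
-/

set_option autoImplicit false
set_option linter.style.haveILetI false
set_option linter.unusedSectionVars false

namespace Cfsg.Agent.Lib.RecogM22.Seven

open Cfsg.Agent.Lib.Classif Cfsg.Agent.Lib.SmallGroups

universe u

/-- The order of a subgroup from its image and the kernel. -/
theorem card_map_mul {A C : Type*} [Group A] [Group C] (f : A →* C) (H : Subgroup A) :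
    Nat.card (H.map f) * Nat.card (H ⊓ f.ker : Subgroup A) = Nat.card H := by
  have h := Subgroup.card_eq_card_quotient_mul_card_subgroup (f.comp H.subtype).ker
  have h1 : (f.comp H.subtype).range = H.map f := by
    rw [MonoidHom.range_comp, Subgroup.range_subtype]
  have h2 : (f.comp H.subtype).ker = (H ⊓ f.ker).subgroupOf H := by
    ext a
    simp [Subgroup.mem_subgroupOf]
  rw [Nat.card_congr (QuotientGroup.quotientKerEquivRange (f.comp H.subtype)).toEquiv, h1] at h
  rw [h2, Nat.card_congr (Subgroup.subgroupOfEquivOfLe inf_le_left).toEquiv] at h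
  exact h.symm

namespace Eight

variable {G : Type u} [Group G] [Finite G] [IsSimpleGroup G] [Fact (Nat.Prime 7)]
  [Fact (Nat.Prime 11)] (B : Eight G)

/-- `S1` inside `C(u)`. -/
def S1c : Subgroup B.Cu := B.S1.subgroupOf B.Cu

theorem card_S1c : Nat.card B.S1c = 64 :=
  (Nat.card_congr (Subgroup.subgroupOfEquivOfLe B.hS1u).toEquiv).trans B.hS1

theorem card_Cu : Nat.card B.Cu = 8 * Nat.card (B.Np ⊓ B.Cu : Subgroup G) := B.hk

theorem not_dvd_Cu : ¬ 128 ∣ Nat.card B.Cu := fun h => B.cent B.u B.hu B.huC h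

/-- The induced group. -/
def X : Subgroup (Equiv.Perm B.Pts) := B.perm.range

theorem perm_mem_X (a : B.Cu) : B.perm a ∈ B.X := ⟨a, rfl⟩

theorem stab_iff (a : B.Cu) : B.perm a B.pt = B.pt ↔ (a : G) ∈ B.Np := by
  exact ⟨fun h => Sylow.smul_eq_iff_mem_normalizer.mp (congrArg Subtype.val h),
    fun h => Subtype.ext (Sylow.smul_eq_iff_mem_normalizer.mpr h)⟩

/-- A permutation commuting with a point is induced by it. -/
theorem perm_eq_of_commute {σ : Equiv.Perm B.Pts}
    (hσ : ∀ y : B.Cu, (y : G) ∈ (B.P : Subgroup G) → σ * B.perm y = B.perm y * σ) :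
    ∃ w : B.Cu, (w : G) ∈ (B.P : Subgroup G) ∧ σ = B.perm w := by
  obtain ⟨g, hg, hgo, -⟩ := B.exists_gen B.P
  have hσpt : σ B.pt = B.pt := by
    refine Subtype.ext (B.fixed_eq hg (fun h => by rw [h, orderOf_one] at hgo; norm_num at hgo) ?_)
    have h := Equiv.Perm.congr_fun (hσ ⟨g, B.P_le hg⟩ hg) B.pt
    rw [Equiv.Perm.mul_apply, Equiv.Perm.mul_apply,
      show B.perm ⟨g, B.P_le hg⟩ B.pt = B.pt from Subtype.ext (smul_eq_self hg)] at h
    exact congrArg Subtype.val h.symm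
  obtain ⟨R, hR⟩ : ∃ R : B.Pts, R ≠ B.pt := by
    haveI : Nontrivial B.Pts := Finite.one_lt_card_iff_nontrivial.mp (by rw [B.card_pts]; norm_num)
    exact exists_ne _
  obtain ⟨y, hy, hyR⟩ := B.exists_move B.pt R (σ R) hR
    fun h => hR (σ.injective (h.trans hσpt.symm))
  refine ⟨y, hy, Equiv.ext fun S => ?_⟩
  by_cases hS : S = B.pt
  · subst hS
    rw [hσpt]
    exact (Subtype.ext (smul_eq_self hy)).symm
  obtain ⟨w, hw, hwS⟩ := B.exists_move B.pt R S hR hS
  have hcomm : w * y = y * w := by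
    haveI := isCyclic_of_prime_card (B.card_sylow B.P)
    exact Subtype.ext (congrArg Subtype.val ((IsCyclic.commGroup
      (α := (B.P : Subgroup G))).mul_comm ⟨(w : G), hw⟩ ⟨(y : G), hy⟩) :)
  rw [← hwS, ← Equiv.Perm.mul_apply, hσ w hw, Equiv.Perm.mul_apply, ← hyR,
    ← Equiv.Perm.mul_apply, ← map_mul, hcomm, map_mul, Equiv.Perm.mul_apply]

/-- `|C(u)| = |X| |ker|`, with `|X| = 56 g`. -/
theorem card_X : ∃ g, g ∣ B.e ∧ Nat.card B.X = 56 * g ∧
    56 * g * Nat.card B.perm.ker = Nat.card B.Cu ∧ B.τ ∣ Nat.card B.perm.ker := by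
  set Nc := B.Np.subgroupOf B.Cu with hNc
  set Cc := B.Cp.subgroupOf B.Cu with hCc
  have hkerC : B.perm.ker ≤ Cc := fun a ha => B.mem_Cp_of_perm_eq_one ha
  have hCN : Cc ≤ Nc := fun a ha => B.Cp_le ha
  have hPc : Cc.map B.perm = ((B.P : Subgroup G).subgroupOf B.Cu).map B.perm := by
    refine le_antisymm ?_ (Subgroup.map_mono fun a (ha : (a : G) ∈ (B.P : Subgroup G)) => ?_)
    · rintro _ ⟨a, ha, rfl⟩
      obtain ⟨y, hy, he⟩ := B.exists_perm_eq B.pt ha
      exact ⟨y, hy, he.symm⟩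
    · change (a : G) ∈ B.Cp
      rw [Cp, Subgroup.mem_centralizer_iff]
      intro b hb
      haveI := isCyclic_of_prime_card (B.card_sylow B.P)
      exact congrArg Subtype.val ((IsCyclic.commGroup (α := (B.P : Subgroup G))).mul_comm
        ⟨b, hb⟩ ⟨(a : G), ha⟩)
  have hP7 : Nat.card (((B.P : Subgroup G).subgroupOf B.Cu).map B.perm) = 7 := by
    have h := card_map_mul B.perm ((B.P : Subgroup G).subgroupOf B.Cu)
    have hbot : ((B.P : Subgroup G).subgroupOf B.Cu ⊓ B.perm.ker) = ⊥ :=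
      (Subgroup.eq_bot_iff_forall _).mpr fun a ha =>
        B.perm_eq_one_of_mem (Q := B.pt) ha.1 ha.2
    rw [hbot, Nat.card_congr (Subgroup.subgroupOfEquivOfLe B.P_le).toEquiv, B.card_sylow,
      Subgroup.card_bot, mul_one] at h
    exact h
  have hC : Nat.card Cc = 7 * Nat.card B.perm.ker := by
    rw [← card_map_mul B.perm Cc, hPc, hP7, inf_eq_right.mpr hkerC]
  have hN : 8 * Nat.card Nc = Nat.card B.Cu := by
    rw [B.card_Cu, hNc, ← Subgroup.inf_subgroupOf_right,
      Nat.card_congr (Subgroup.subgroupOfEquivOfLe inf_le_right).toEquiv]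
  have hrel : Cc.relIndex Nc ∣ B.e := by
    rw [← B.hrel, hCc, hNc]
    haveI : (B.Cp.subgroupOf B.Np).Normal :=
      Subgroup.normal_subgroupOf_centralizer_normalizer _
    have h := Subgroup.relIndex_dvd_index_of_normal (H := B.Cp.subgroupOf B.Np)
      (K := (B.Np ⊓ B.Cu).subgroupOf B.Np)
    rw [Subgroup.relIndex_subgroupOf (inf_le_left : B.Np ⊓ B.Cu ≤ B.Np)] at h
    have h' : (B.Cp.subgroupOf B.Cu).relIndex (B.Np.subgroupOf B.Cu) =
        B.Cp.relIndex (B.Np ⊓ B.Cu) := by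
      rw [← Subgroup.inf_subgroupOf_right B.Np, Subgroup.relIndex_subgroupOf inf_le_right]
    rw [h']
    exact h
  have hN' : Nat.card Cc * Cc.relIndex Nc = Nat.card Nc := by
    rw [← Subgroup.relIndex_bot_left, ← Subgroup.relIndex_bot_left]
    exact Subgroup.relIndex_mul_relIndex _ _ _ bot_le hCN
  have hX : Nat.card B.X * Nat.card B.perm.ker = Nat.card B.Cu := by
    have h := card_map_mul B.perm ⊤
    rwa [← MonoidHom.range_eq_map, top_inf_eq, Subgroup.card_top] at h
  refine ⟨Cc.relIndex Nc, hrel, ?_, ?_, ?_⟩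
  · refine Nat.eq_of_mul_eq_mul_right (m := Nat.card B.perm.ker) Nat.card_pos ?_
    rw [hX, ← hN, ← hN', hC]; ring
  · rw [← hN, ← hN', hC]; ring
  · have hTC : B.T ≤ B.Cu := inf_le_left.trans B.hS1u
    rw [← B.card_T, ← Nat.card_congr (Subgroup.subgroupOfEquivOfLe hTC).toEquiv]
    exact Subgroup.card_dvd_of_le fun a ha => B.perm_T ha

/-- The even part of the induced group (the whole group for `e = 3`). -/
noncomputable def Y : Subgroup (Equiv.Perm B.Pts) :=
  letI := Fintype.ofFinite B.Pts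
  letI := Classical.decEq B.Pts
  B.X ⊓ if B.e = 3 then ⊤ else Equiv.Perm.sign.ker

theorem Y_le : B.Y ≤ B.X := inf_le_left

theorem mem_Y_iff [Fintype B.Pts] [DecidableEq B.Pts] {σ : Equiv.Perm B.Pts} :
    σ ∈ B.Y ↔ σ ∈ B.X ∧ (B.e = 6 → Equiv.Perm.sign σ = 1) := by
  rw [Y, Subgroup.mem_inf]
  refine and_congr_right fun _ => ?_
  rcases B.e_cases with he | he <;> simp [he] <;> convert Iff.rfl

theorem normal_Y {σ τ : Equiv.Perm B.Pts} (hσ : σ ∈ B.X) (hτ : τ ∈ B.Y) :
    σ * τ * σ⁻¹ ∈ B.Y := by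
  classical
  haveI := Fintype.ofFinite B.Pts
  rw [mem_Y_iff] at hτ ⊢
  refine ⟨mul_mem (mul_mem hσ hτ.1) (inv_mem hσ), fun he => ?_⟩
  rw [map_mul, map_mul, hτ.2 he, mul_one, ← map_mul, mul_inv_cancel, map_one]

theorem point_mem_Y (Q : B.Pts) {y : B.Cu} (hy : (y : G) ∈ (Q.1 : Subgroup G)) :
    B.perm y ∈ B.Y := by
  classical
  haveI := Fintype.ofFinite B.Pts
  refine B.mem_Y_iff.mpr ⟨B.perm_mem_X y, fun _ => ?_⟩
  have h7 : y ^ 7 = 1 := Subtype.ext (by
    rw [SubmonoidClass.coe_pow, OneMemClass.coe_one]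
    exact FixedSylow.pow_eq_one Q.1 (B.card_sylow Q.1) hy)
  rcases Int.units_eq_one_or (Equiv.Perm.sign (B.perm y)) with h | h
  · exact h
  · have := congrArg (fun a => Equiv.Perm.sign (B.perm a)) h7
    simp only [map_pow, map_one, h] at this
    exact absurd this (by decide)

theorem transitive : MulAction.IsPretransitive B.Y B.Pts := by
  classical
  haveI := Fintype.ofFinite B.Pts
  refine ⟨fun R R' => ?_⟩
  obtain ⟨Q, -, hQ⟩ := Finset.exists_mem_notMem_of_card_lt_card
    (s := ({R, R'} : Finset B.Pts)) (t := Finset.univ) (by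
      rw [Finset.card_univ, ← Nat.card_eq_fintype_card, B.card_pts]
      exact lt_of_le_of_lt Finset.card_le_two (by norm_num))
  simp only [Finset.mem_insert, Finset.mem_singleton, not_or] at hQ
  obtain ⟨y, hy, he⟩ := B.exists_move Q R R' (Ne.symm hQ.1) (Ne.symm hQ.2)
  exact ⟨⟨_, B.point_mem_Y Q hy⟩, he⟩

theorem card_stab : Nat.card (MulAction.stabilizer B.Y B.pt) * 8 = Nat.card B.Y := by
  haveI := B.transitive
  rw [← B.card_pts, ← MulAction.index_stabilizer_of_transitive B.Y B.pt]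
  exact Subgroup.card_mul_index _

theorem seven_dvd_stab : 7 ∣ Nat.card (MulAction.stabilizer B.Y B.pt) := by
  obtain ⟨g, hg, hgo, -⟩ := B.exists_gen B.P
  set g' : B.Cu := ⟨g, B.P_le hg⟩
  have hm : (⟨_, B.point_mem_Y B.pt (y := g') hg⟩ : B.Y) ∈ MulAction.stabilizer B.Y B.pt :=
    Subtype.ext (smul_eq_self hg)
  have h := Subgroup.orderOf_dvd_natCard _ hm
  rw [Subgroup.orderOf_mk] at h
  have h1 : orderOf (B.perm g') = 7 := by
    refine orderOf_eq_prime ?_ fun h1 => ?_
    · rw [← map_pow, show g' ^ 7 = 1 from Subtype.ext (by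
        rw [SubmonoidClass.coe_pow, OneMemClass.coe_one]
        exact FixedSylow.pow_eq_one B.P B.hP hg), map_one]
    · have := congrArg Subtype.val (B.perm_eq_one_of_mem (Q := B.pt) (y := g') hg h1)
      change g = 1 at this
      rw [this, orderOf_one] at hgo; norm_num at hgo
  rwa [h1] at h

/-- An element of `S0` outside `T` induces an odd involution with two fixed points. -/
theorem exists_odd (he : B.e = 6) [Fintype B.Pts] [DecidableEq B.Pts] :
    ∃ x : B.Cu, (x : G) ∈ B.S1 ∧ (x : G) ∈ B.Np ∧ Equiv.Perm.sign (B.perm x) = -1 ∧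
      B.perm x ^ 2 = 1 ∧ (Finset.univ.filter fun Q => B.perm x Q = Q).card = 2 := by
  have hTS : B.T ≤ B.S0 := le_inf inf_le_left (inf_le_right.trans B.Cp_le)
  have hcT : Nat.card B.T = 4 := by rw [B.card_T, τ, if_neg (by omega)]
  obtain ⟨x, hx, hxT⟩ : ∃ x ∈ B.S0, x ∉ B.T := by
    by_contra hc
    push Not at hc
    have := Subgroup.card_dvd_of_le (show B.S0 ≤ B.T from hc)
    rw [B.card_S0, hcT] at this
    norm_num at this
  set x' : B.Cu := ⟨x, B.hS1u hx.1⟩
  have hne : B.perm x' ≠ 1 := fun h => hxT ((B.mem_T_iff (a := x') hx.1).mpr h)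
  have hsq : B.perm x' ^ 2 = 1 := by
    rw [← map_pow]
    refine B.perm_T ?_
    have hidx : (B.T.subgroupOf B.S0).index = 2 := by
      have h := (B.T.subgroupOf B.S0).card_mul_index
      rw [Nat.card_congr (Subgroup.subgroupOfEquivOfLe hTS).toEquiv, hcT, B.card_S0] at h
      omega
    have := Subgroup.sq_mem_of_index_two hidx ⟨x, hx⟩
    simpa [Subgroup.mem_subgroupOf] using this
  have hpt : B.perm x' B.pt = B.pt := (B.stab_iff x').mpr hx.2
  have htwo : (Finset.univ.filter fun Q => B.perm x' Q = Q).card ≤ 2 := by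
    by_contra hc
    obtain ⟨R, hR, hR1⟩ := Finset.exists_mem_notMem_of_card_lt_card
      (s := ({B.pt} : Finset B.Pts)) (t := Finset.univ.filter fun Q => B.perm x' Q = Q)
      (by rw [Finset.card_singleton]; omega)
    obtain ⟨R', hR', hR2⟩ := Finset.exists_mem_notMem_of_card_lt_card
      (s := ({B.pt, R} : Finset B.Pts)) (t := Finset.univ.filter fun Q => B.perm x' Q = Q)
      (lt_of_le_of_lt Finset.card_le_two (by omega))
    simp only [Finset.mem_insert, Finset.mem_singleton, not_or] at hR1 hR2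
    have hR0 := (Finset.mem_filter.mp hR).2
    have hR0' := (Finset.mem_filter.mp hR').2
    obtain ⟨y, hy, hyR⟩ := B.exists_move B.pt R R' hR1 hR2.1
    have hconj : ((x' * y * x'⁻¹ : B.Cu) : G) ∈ (B.P : Subgroup G) :=
      (Subgroup.mem_normalizer_iff.mp hx.2 _).mp hy
    have hd : ((y⁻¹ * (x' * y * x'⁻¹) : B.Cu) : G) ∈ (B.pt.1 : Subgroup G) :=
      mul_mem (inv_mem hy) hconj
    have h1 : y⁻¹ * (x' * y * x'⁻¹) = 1 := by
      by_contra hne1
      refine hR1 (Subtype.ext (B.fixed_eq hd (fun h => hne1 (Subtype.ext h)) ?_))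
      have h : B.perm (y⁻¹ * (x' * y * x'⁻¹)) R = R := by
        have hi : (B.perm x')⁻¹ R = R := Equiv.Perm.inv_eq_iff_eq.mpr hR0.symm
        simp only [map_mul, map_inv, Equiv.Perm.mul_apply, hi, hyR, hR0']
        exact Equiv.Perm.inv_eq_iff_eq.mpr hyR.symm
      exact congrArg Subtype.val h
    have hy1 : (y : G) ≠ 1 := fun h => hR2.2 (by
      rw [← hyR, show y = 1 from Subtype.ext h, map_one]; rfl)
    refine hxT ⟨hx.1, ?_⟩
    have hxy : x * (y : G) = (y : G) * x := by
      have := congrArg Subtype.val (inv_mul_eq_one.mp h1)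
      simp only [Subgroup.coe_mul, Subgroup.coe_inv] at this
      exact (eq_mul_inv_iff_mul_eq.mp this).symm
    have hz : Subgroup.zpowers (y : G) = (B.P : Subgroup G) := by
      refine Subgroup.eq_of_le_of_card_ge (Subgroup.zpowers_le.mpr hy) ?_
      have h7 : orderOf (y : G) = 7 :=
        orderOf_eq_prime (FixedSylow.pow_eq_one B.P B.hP hy) hy1
      rw [Nat.card_zpowers, h7, B.hP]
    refine Subgroup.mem_centralizer_iff.mpr fun b hb => ?_
    rw [← hz] at hb
    obtain ⟨i, rfl⟩ := Subgroup.mem_zpowers_iff.mp hb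
    exact ((show Commute (y : G) x from hxy.symm).zpow_left i).eq
  have hfix2 : (Finset.univ.filter fun Q => B.perm x' Q = Q).card = 2 := by
    have hpos : 0 < (Finset.univ.filter fun Q => B.perm x' Q = Q).card :=
      Finset.card_pos.mpr ⟨B.pt, by simp [hpt]⟩
    have h2 : 2 ∣ (Finset.univ.filter fun Q => B.perm x' Q = Q).card := by
      haveI : Fact (Nat.Prime 2) := ⟨Nat.prime_two⟩
      have hc := Equiv.Perm.cycleType_of_pow_prime_eq_one (p := 2) hsq
      have hf : (Finset.univ.filter fun Q => B.perm x' Q = Q).card =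
          Fintype.card B.Pts - (B.perm x').cycleType.sum := by
        rw [← Equiv.Perm.card_fixedPoints]
        exact (Fintype.card_of_subtype _ fun Q => by simp [Function.IsFixedPt]).symm
      rw [hf, hc, Multiset.sum_replicate, smul_eq_mul, ← Nat.card_eq_fintype_card, B.card_pts]
      omega
    omega
  refine ⟨x', hx.1, hx.2, ?_, hsq, hfix2⟩
  rcases Int.units_eq_one_or (Equiv.Perm.sign (B.perm x')) with h | h
  · exfalso
    have := (Perm8.sign_involution hsq).mp h
    rw [hfix2, ← Nat.card_eq_fintype_card, B.card_pts] at this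
    norm_num at this
  · exact h

/-- The order of `Y`. -/
theorem card_Y : (Nat.card B.Y = 56 ∨ Nat.card B.Y = 168) ∧
    (B.e = 6 → Nat.card B.X = 2 * Nat.card B.Y) := by
  classical
  haveI := Fintype.ofFinite B.Pts
  obtain ⟨g, hg, hgX, -, -⟩ := B.card_X
  have h56 : 56 ∣ Nat.card B.Y := by
    obtain ⟨k, hk⟩ := B.seven_dvd_stab
    exact ⟨k, by rw [← B.card_stab, hk]; ring⟩
  have hle : g ≤ B.e := Nat.le_of_dvd (by rcases B.e_cases with h | h <;> omega) hg
  rcases B.e_cases with he | he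
  · refine ⟨?_, fun h => by omega⟩
    have hY : B.Y = B.X := le_antisymm B.Y_le fun σ hσ => B.mem_Y_iff.mpr ⟨hσ, fun h => by omega⟩
    rw [hY, hgX]
    rw [he] at hg
    rcases (Nat.dvd_prime Nat.prime_three).mp hg with rfl | rfl <;> simp
  · obtain ⟨x, -, -, hx, -, -⟩ := B.exists_odd he
    let f : B.X →* ℤˣ := Equiv.Perm.sign.comp B.X.subtype
    have hsurj : Function.Surjective f := fun u => by
      rcases Int.units_eq_one_or u with rfl | rfl
      · exact ⟨1, map_one f⟩
      · exact ⟨⟨_, B.perm_mem_X x⟩, hx⟩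
    have hker : f.ker = B.Y.subgroupOf B.X := by
      ext ⟨σ, hσ⟩
      simp only [MonoidHom.mem_ker, Subgroup.mem_subgroupOf, B.mem_Y_iff, f]
      exact ⟨fun h => ⟨hσ, fun _ => h⟩, fun h => h.2 he⟩
    have h := Subgroup.card_eq_card_quotient_mul_card_subgroup f.ker
    rw [Nat.card_congr (QuotientGroup.quotientKerEquivOfSurjective f hsurj).toEquiv,
      Nat.card_eq_fintype_card (α := ℤˣ), Fintype.card_units_int, hker,
      Nat.card_congr (Subgroup.subgroupOfEquivOfLe B.Y_le).toEquiv] at h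
    refine ⟨?_, fun _ => h⟩
    rw [hgX] at h
    rw [he] at hg hle
    obtain ⟨k, hk⟩ := h56
    interval_cases g <;> first | omega | (norm_num at hg)

/-- The `2`-elements of `Y` are fixed-point free. -/
theorem semiregular {σ : Equiv.Perm B.Pts} (hσ : σ ∈ B.Y) {k : ℕ} (hk : σ ^ 2 ^ k = 1)
    (Q : B.Pts) (hQ : σ Q = Q) : σ = 1 := by
  haveI := B.transitive
  have hm : (⟨σ, hσ⟩ : B.Y) ∈ MulAction.stabilizer B.Y Q := Subtype.ext (congrArg Subtype.val hQ)
  have h := Subgroup.orderOf_dvd_natCard _ hm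
  rw [Subgroup.orderOf_mk] at h
  have hc : Nat.card (MulAction.stabilizer B.Y Q) * 8 = Nat.card B.Y := by
    rw [← B.card_pts, ← MulAction.index_stabilizer_of_transitive B.Y Q]
    exact Subgroup.card_mul_index _
  have h21 : orderOf σ ∣ 21 := h.trans (by rcases B.card_Y.1 with hY | hY <;> rw [hY] at hc <;>
    [exact ⟨3, by omega⟩; exact ⟨1, by omega⟩])
  have hco : Nat.Coprime (2 ^ k) 21 := Nat.Coprime.pow_left k (by norm_num)
  exact orderOf_eq_one_iff.mp (Nat.eq_one_of_dvd_coprimes hco (orderOf_dvd_of_pow_eq_one hk) h21)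

/-- `P` inside `Y`. -/
noncomputable def PY : Subgroup B.Y :=
  (((B.P : Subgroup G).subgroupOf B.Cu).map B.perm).subgroupOf B.Y

theorem mem_PY {σ : B.Y} :
    σ ∈ B.PY ↔ ∃ y : B.Cu, (y : G) ∈ (B.P : Subgroup G) ∧ B.perm y = σ := by
  simp [PY, Subgroup.mem_subgroupOf, Subgroup.mem_map]

theorem card_PY : Nat.card B.PY = 7 := by
  have hle : ((B.P : Subgroup G).subgroupOf B.Cu).map B.perm ≤ B.Y := by
    rintro _ ⟨y, hy, rfl⟩
    exact B.point_mem_Y B.pt hy
  rw [PY, Nat.card_congr (Subgroup.subgroupOfEquivOfLe hle).toEquiv]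
  have h := card_map_mul B.perm ((B.P : Subgroup G).subgroupOf B.Cu)
  have hbot : ((B.P : Subgroup G).subgroupOf B.Cu ⊓ B.perm.ker) = ⊥ :=
    (Subgroup.eq_bot_iff_forall _).mpr fun a ha => B.perm_eq_one_of_mem (Q := B.pt) ha.1 ha.2
  rw [hbot, Nat.card_congr (Subgroup.subgroupOfEquivOfLe B.P_le).toEquiv, B.card_sylow,
    Subgroup.card_bot, mul_one] at h
  exact h

theorem normalizer_PY :
    Subgroup.normalizer (B.PY : Set B.Y) = MulAction.stabilizer B.Y B.pt := by
  obtain ⟨g, hg, hgo, -⟩ := B.exists_gen B.P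
  ext σ
  rw [MulAction.mem_stabilizer_iff, Subgroup.mem_normalizer_iff]
  constructor
  · intro h
    set y : B.Cu := ⟨g, B.P_le hg⟩
    have hy : (⟨_, B.point_mem_Y B.pt (y := y) hg⟩ : B.Y) ∈ B.PY := B.mem_PY.mpr ⟨y, hg, rfl⟩
    have h' := (h (σ⁻¹ * ⟨_, B.point_mem_Y B.pt (y := y) hg⟩ * σ)).mpr (by simpa [mul_assoc] using hy)
    obtain ⟨w, hw, hwe⟩ := B.mem_PY.mp h'
    simp only [Subgroup.coe_mul, Subgroup.coe_inv] at hwe
    have hfix : B.perm y ((σ : Equiv.Perm B.Pts) B.pt) = (σ : Equiv.Perm B.Pts) B.pt := by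
      have h0 := Equiv.Perm.congr_fun hwe B.pt
      rw [show B.perm w B.pt = B.pt from Subtype.ext (smul_eq_self hw), Equiv.Perm.mul_apply,
        Equiv.Perm.mul_apply] at h0
      exact (Equiv.Perm.eq_inv_iff_eq.mp h0).symm
    exact Subtype.ext (B.fixed_eq hg (fun e => by rw [e, orderOf_one] at hgo; norm_num at hgo)
      (congrArg Subtype.val hfix))
  · intro hσ τ
    obtain ⟨a, ha⟩ := B.Y_le σ.2
    have haN : (a : G) ∈ B.Np := by
      rw [← B.stab_iff, ha]
      exact hσ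
    constructor
    · intro hτ
      obtain ⟨y, hy, hye⟩ := B.mem_PY.mp hτ
      refine B.mem_PY.mpr ⟨a * y * a⁻¹, (Subgroup.mem_normalizer_iff.mp haN y).mp hy, ?_⟩
      simp [ha, hye]
    · intro hτ
      obtain ⟨y, hy, hye⟩ := B.mem_PY.mp hτ
      refine B.mem_PY.mpr ⟨a⁻¹ * y * a, ?_, ?_⟩
      · refine (Subgroup.mem_normalizer_iff.mp haN _).mpr ?_
        simpa [mul_assoc] using hy
      · simp [ha, hye, mul_assoc]

/-- The dichotomy for `Y`. -/
theorem Y_cases : (∃ A : Subgroup B.Y, A.Normal ∧ Nat.card A = 8) ∨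
    (IsSimpleGroup B.Y ∧ Nat.card B.Y = 168) := by
  let PS : Sylow 7 B.Y := Sylow.ofCard B.PY (by
    rw [B.card_PY]
    rcases B.card_Y.1 with h | h <;> rw [h]
    · rw [show 56 = 7 ^ 1 * 8 from rfl, Nat.factorization_mul (by norm_num) (by norm_num),
        Nat.Prime.factorization_pow (by norm_num), Finsupp.add_apply, Finsupp.single_eq_same,
        Nat.factorization_eq_zero_of_not_dvd (by norm_num : ¬ 7 ∣ 8)]
      norm_num
    · rw [show 168 = 7 ^ 1 * 24 from rfl, Nat.factorization_mul (by norm_num) (by norm_num),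
        Nat.Prime.factorization_pow (by norm_num), Finsupp.add_apply, Finsupp.single_eq_same,
        Nat.factorization_eq_zero_of_not_dvd (by norm_num : ¬ 7 ∣ 24)]
      norm_num)
  refine Small168.simple_or_normal B.card_Y.1 ?_ fun Q x hx => ?_
  · have h := Sylow.card_normalizer_mul PS
    rw [show ((PS : Sylow 7 B.Y) : Subgroup B.Y) = B.PY from rfl, B.normalizer_PY, ← B.card_stab]
      at h
    exact Nat.eq_of_mul_eq_mul_left Nat.card_pos h
  · obtain ⟨c, rfl⟩ := MulAction.exists_smul_eq B.Y PS Q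
    have hc : ∀ τ ∈ B.PY, (c⁻¹ * x * c) * τ = τ * (c⁻¹ * x * c) := by
      intro τ hτ
      have hm : c * τ * c⁻¹ ∈ ((c • PS : Sylow 7 B.Y) : Subgroup B.Y) := by
        rw [Sylow.coe_subgroup_smul, Subgroup.mem_pointwise_smul_iff_inv_smul_mem]
        simp [MulAut.smul_def, mul_assoc]
        exact hτ
      calc (c⁻¹ * x * c) * τ = c⁻¹ * (x * (c * τ * c⁻¹)) * c := by group
        _ = c⁻¹ * ((c * τ * c⁻¹) * x) * c := by rw [Subgroup.mem_centralizer_iff.mp hx _ hm]
        _ = τ * (c⁻¹ * x * c) := by group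
    obtain ⟨w, hw, he⟩ := B.perm_eq_of_commute (σ := ((c⁻¹ * x * c : B.Y) : Equiv.Perm B.Pts))
      fun y hy => congrArg Subtype.val
        (hc ⟨_, B.point_mem_Y B.pt hy⟩ (B.mem_PY.mpr ⟨y, hy, rfl⟩))
    have h7 : (c⁻¹ * x * c) ^ 7 = 1 := Subtype.ext (by
      rw [SubmonoidClass.coe_pow, he, ← map_pow, show w ^ 7 = 1 from Subtype.ext (by
        rw [SubmonoidClass.coe_pow, OneMemClass.coe_one]
        exact FixedSylow.pow_eq_one B.P B.hP hw), map_one, OneMemClass.coe_one])
    have hcp : (c⁻¹ * x * c) ^ 7 = c⁻¹ * x ^ 7 * c := by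
      simpa using conj_pow (a := c⁻¹) (b := x) (i := 7)
    rw [hcp] at h7
    have h' := congrArg (fun v => c * v * c⁻¹) h7
    simpa [mul_assoc] using h'

end Eight

end Cfsg.Agent.Lib.RecogM22.Seven
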