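import Cfsg.Agent.Lib.RecogM22.Local7NoNormal

/-!
The eight-point group of order `168`: lifting involutions into `S1 ∩ C(T)`.
-/

set_option autoImplicit false
set_option linter.style.haveILetI false
set_option linter.unusedSectionVars false

namespace Cfsg.Agent.Lib.RecogM22.Seven

open Cfsg.Agent.Lib.Classif Cfsg.Agent.Lib.SmallGroups

universe u

/-- The product formula for a normalised subgroup. -/
theorem card_sup_mul_inf {A : Type*} [Group A] [Finite A] (P N : Subgroup A)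
    (h : P ≤ Subgroup.normalizer (N : Set A)) :
    Nat.card (P ⊔ N : Subgroup A) * Nat.card (P ⊓ N : Subgroup A) = Nat.card P * Nat.card N := by
  haveI hn : (N.subgroupOf (P ⊔ N)).Normal :=
    (Subgroup.normal_subgroupOf_iff_le_normalizer le_sup_right).mpr
      (sup_le h Subgroup.le_normalizer)
  have htop : P.subgroupOf (P ⊔ N) ⊔ N.subgroupOf (P ⊔ N) = ⊤ := by
    rw [← Subgroup.subgroupOf_sup le_sup_left le_sup_right, Subgroup.subgroupOf_self]
  have h1 : N.relIndex (P ⊔ N) = N.relIndex P := by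
    have h0 := @Subgroup.relIndex_sup_right _ _ (P.subgroupOf (P ⊔ N)) (N.subgroupOf (P ⊔ N)) hn
    rw [htop, Subgroup.relIndex_top_right,
      Subgroup.relIndex_subgroupOf (le_sup_left : P ≤ P ⊔ N)] at h0
    exact h0
  have h2 : Nat.card N * N.relIndex (P ⊔ N) = Nat.card (P ⊔ N : Subgroup A) := by
    rw [← Nat.card_congr (Subgroup.subgroupOfEquivOfLe (le_sup_right : N ≤ P ⊔ N)).toEquiv]
    exact Subgroup.card_mul_index _
  have h3 : Nat.card (P ⊓ N : Subgroup A) * N.relIndex P = Nat.card P := by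
    rw [← Subgroup.inf_relIndex_left P N,
      ← Nat.card_congr (Subgroup.subgroupOfEquivOfLe (inf_le_left : P ⊓ N ≤ P)).toEquiv]
    exact Subgroup.card_mul_index _
  rw [← h2, h1, ← h3]; ring

namespace Eight

variable {G : Type u} [Group G] [Finite G] [IsSimpleGroup G] [Fact (Nat.Prime 7)]
  [Fact (Nat.Prime 11)] (B : Eight G)

theorem conj_T {a : G} (ha : a ∈ B.S1) {t : G} (ht : t ∈ B.T) : a * t * a⁻¹ ∈ B.T := by
  have hm : a * t * a⁻¹ ∈ B.S1 := mul_mem (mul_mem ha ht.1) (inv_mem ha)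
  set a' : B.Cu := ⟨a, B.hS1u ha⟩
  set t' : B.Cu := ⟨t, B.hS1u ht.1⟩
  refine (B.mem_T_iff (a := a' * t' * a'⁻¹) hm).mpr ?_
  rw [map_mul, map_mul, B.perm_T (a := t') ht, mul_one, map_inv, mul_inv_cancel]

theorem conj_T' {a : G} (ha : a ∈ B.S1) {t : G} : a * t * a⁻¹ ∈ B.T ↔ t ∈ B.T := by
  refine ⟨fun h => ?_, B.conj_T ha⟩
  have := B.conj_T (inv_mem ha) h
  simpa [mul_assoc] using this

/-- `s` moves `T` to a complement of `T`. -/
theorem disjoint_T {t : G} (ht : t ∈ B.T) (hst : B.s * t * B.s⁻¹ ∈ B.T) : t = 1 := by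
  classical
  haveI : Fact (Nat.Prime 2) := ⟨Nat.prime_two⟩
  by_contra hne
  set D : Subgroup G := B.T ⊓ B.T.comap (MulAut.conj B.s).toMonoidHom with hD
  have htD : t ∈ D := ⟨ht, by simpa using hst⟩
  have hS2N : B.S2 ≤ Subgroup.normalizer (D : Set G) := by
    have hinv : ∀ a : G, a ∈ B.S1 → B.s * a * B.s⁻¹ ∈ B.S1 := B.hsN
    refine sup_le (fun a ha => ?_) (Subgroup.zpowers_le.mpr ?_)
    · rw [Subgroup.mem_normalizer_iff]
      intro d
      simp only [hD, Subgroup.mem_inf, Subgroup.mem_comap, MulEquiv.coe_toMonoidHom,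
        MulAut.conj_apply]
      rw [B.conj_T' ha, show B.s * (a * d * a⁻¹) * B.s⁻¹ =
        (B.s * a * B.s⁻¹) * (B.s * d * B.s⁻¹) * (B.s * a * B.s⁻¹)⁻¹ by group,
        B.conj_T' (hinv a ha)]
    · rw [Subgroup.mem_normalizer_iff]
      intro d
      simp only [hD, Subgroup.mem_inf, Subgroup.mem_comap, MulEquiv.coe_toMonoidHom,
        MulAut.conj_apply]
      rw [show B.s * (B.s * d * B.s⁻¹) * B.s⁻¹ = (B.s * B.s) * d * (B.s * B.s)⁻¹ by group,
        B.conj_T' B.hss]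
      exact and_comm
  have hS2p : IsPGroup 2 B.S2 := by
    refine B.isPGroup_S1.to_sup_of_normal_left' ?_ (Subgroup.zpowers_le.mpr B.s_mem_normalizer)
    obtain ⟨k, hk⟩ := two_dvd (B.isPGroup_S1.to_le (Subgroup.zpowers_le.mpr B.hss))
    rw [Nat.card_zpowers] at hk
    have hd : orderOf B.s ∣ 2 ^ (k + 1) := by
      refine orderOf_dvd_of_pow_eq_one ?_
      rw [pow_succ', pow_mul, pow_two, ← hk, pow_orderOf_eq_one]
    obtain ⟨j, -, hj⟩ := (Nat.dvd_prime_pow Nat.prime_two).mp hd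
    exact IsPGroup.of_card (n := j) (by rw [Nat.card_zpowers, hj])
  -- an element of order two of `D` fixed by `S2`
  let act : MulAction B.S2 D :=
    { smul := fun a d => ⟨(a : G) * d * (a : G)⁻¹,
        (Subgroup.mem_normalizer_iff.mp (hS2N a.2) d).mp d.2⟩
      one_smul := fun d => Subtype.ext (show (1 : G) * d * 1⁻¹ = d by simp)
      mul_smul := fun a b d => Subtype.ext (show ((a * b : B.S2) : G) * d * ((a * b : B.S2) : G)⁻¹ =
        (a : G) * ((b : G) * d * (b : G)⁻¹) * (a : G)⁻¹ by simp [mul_assoc]) }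
  have hDp : IsPGroup 2 D := B.isPGroup_S1.to_le (inf_le_left.trans inf_le_left)
  haveI : Nontrivial D := ⟨⟨t, htD⟩, 1, fun h => hne (congrArg Subtype.val h)⟩
  have h2D : 2 ∣ Nat.card D := by
    obtain ⟨k, hk, hk'⟩ := hDp.nontrivial_iff_card.mp inferInstance
    exact hk' ▸ dvd_pow_self 2 (by omega)
  obtain ⟨d, hd, hd1⟩ := hS2p.exists_fixed_point_of_prime_dvd_card_of_fixed_point D h2D (a := 1)
    (fun a => Subtype.ext (show (a : G) * 1 * (a : G)⁻¹ = 1 by simp))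
  have hdG : ∀ a ∈ B.S2, a * (d : G) = d * a := fun a ha =>
    mul_inv_eq_iff_eq_mul.mp (congrArg Subtype.val (hd ⟨a, ha⟩))
  obtain ⟨j, -, hj⟩ := (Nat.dvd_prime_pow Nat.prime_two).mp
    (orderOf_dvd_of_pow_eq_one (B.pow_S1 d.2.1.1))
  have hd1' : (d : G) ≠ 1 := fun h => hd1 (Subtype.ext h.symm)
  have hj0 : j ≠ 0 := fun h => hd1' (orderOf_eq_one_iff.mp (by rw [hj, h, pow_zero]))
  refine B.not_central (t := (d : G) ^ 2 ^ (j - 1)) ?_ (pow_mem d.2.1.2 _) ?_ ?_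
  · rw [orderOf_pow' _ (by positivity), hj, Nat.gcd_eq_right (pow_dvd_pow 2 (by omega)),
      Nat.pow_div (by omega) (by norm_num), show j - (j - 1) = 1 by omega, pow_one]
  · exact fun a ha => ((show Commute a (d : G) from hdG a (le_sup_left (α := Subgroup G) ha)).pow_right _).eq
  · exact ((show Commute B.s (d : G) from
      hdG _ (le_sup_right (α := Subgroup G) (Subgroup.mem_zpowers B.s))).pow_right _).eq

/-- `T` and its conjugate by `s` commute. -/
theorem commute_T {t t' : G} (ht : t ∈ B.T) (ht' : t' ∈ B.T) :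
    t * (B.s * t' * B.s⁻¹) = (B.s * t' * B.s⁻¹) * t := by
  have hS : B.s * t' * B.s⁻¹ ∈ B.S1 := B.hsN _ ht'.1
  set w := B.s * t' * B.s⁻¹ with hw
  -- the commutator lies in `T` and in its conjugate
  have h1 : t * w * t⁻¹ * w⁻¹ ∈ B.T := by
    rw [show t * w * t⁻¹ * w⁻¹ = t * (w * t⁻¹ * w⁻¹) by group]
    exact mul_mem ht (B.conj_T hS (inv_mem ht))
  have ha : B.s⁻¹ * t * B.s ∈ B.S1 := by
    have h := mul_mem (mul_mem (inv_mem B.hss) (B.hsN t ht.1)) B.hss
    convert h using 1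
    group
  have h3 : (B.s⁻¹ * t * B.s) * t' * (B.s⁻¹ * t * B.s)⁻¹ * t'⁻¹ ∈ B.T :=
    mul_mem (B.conj_T ha ht') (inv_mem ht')
  have he : B.s * ((B.s⁻¹ * t * B.s) * t' * (B.s⁻¹ * t * B.s)⁻¹ * t'⁻¹) * B.s⁻¹ =
      t * w * t⁻¹ * w⁻¹ := by rw [hw]; group
  have h := B.disjoint_T h3 (he.symm ▸ h1)
  rw [h] at he
  exact mul_inv_eq_iff_eq_mul.mp (mul_inv_eq_one.mp (by rw [← he]; group))

/-- `z` inside `C(u)`. -/
def zc : B.Cu := ⟨B.z, B.hS1u B.z_mem⟩

/-- `T` inside `C(u)`. -/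
def Tc : Subgroup B.Cu := B.T.subgroupOf B.Cu

theorem card_Tc : Nat.card B.Tc = B.τ := by
  have hle : B.T ≤ B.Cu := inf_le_left.trans B.hS1u
  exact (Nat.card_congr (Subgroup.subgroupOfEquivOfLe hle).toEquiv).trans B.card_T

theorem Tc_le_ker : B.Tc ≤ B.perm.ker := fun _ ha => B.perm_T ha

theorem inf_ker {a : B.Cu} (ha : a ∈ B.S1c) (hp : B.perm a = 1) : a ∈ B.Tc :=
  (B.mem_T_iff ha).mpr hp

/-- The even part of the image of `S1`. -/
noncomputable def W : Subgroup (Equiv.Perm B.Pts) := B.S1c.map B.perm ⊓ B.Y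

theorem card_S1img : Nat.card (B.S1c.map B.perm) * B.τ = 64 := by
  have h := card_map_mul B.perm B.S1c
  rw [B.card_S1c, show B.S1c ⊓ B.perm.ker = B.Tc from le_antisymm
    (fun a ha => B.inf_ker ha.1 ha.2) (le_inf (fun a ha => ha.1) B.Tc_le_ker), B.card_Tc] at h
  exact h

theorem zb_ne_one : B.perm B.zc ≠ 1 := fun h => B.z_not_mem (B.mem_Cp_of_perm_eq_one h)

theorem zb_sq : B.perm B.zc ^ 2 = 1 := by
  rw [← map_pow, show B.zc ^ 2 = 1 from Subtype.ext (by
    rw [SubmonoidClass.coe_pow, OneMemClass.coe_one]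
    show B.z ^ 2 = 1
    rw [← B.orderOf_z, pow_orderOf_eq_one]), map_one]

theorem zb_comm {σ : Equiv.Perm B.Pts} (hσ : σ ∈ B.S1c.map B.perm) :
    B.perm B.zc * σ = σ * B.perm B.zc := by
  obtain ⟨a, ha, rfl⟩ := hσ
  rw [← map_mul, ← map_mul]
  exact congrArg B.perm (Subtype.ext (B.z_central ha))

section Simple

variable [IsSimpleGroup B.Y] (h168 : Nat.card B.Y = 168)

include h168

theorem card_W : Nat.card B.W = 8 := by
  haveI : Fact (Nat.Prime 2) := ⟨Nat.prime_two⟩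
  classical
  haveI := Fintype.ofFinite B.Pts
  have himg := B.card_S1img
  obtain ⟨k, hk⟩ := (B.isPGroup_S1.of_equiv (Subgroup.subgroupOfEquivOfLe B.hS1u).symm
    |>.map B.perm).to_le (inf_le_left : B.W ≤ B.S1c.map B.perm) |>.exists_card_eq
  have hk3 : k ≤ 3 := by
    by_contra hlt
    have hd : 2 ^ k ∣ 168 := by
      rw [← hk, ← h168]
      exact Subgroup.card_dvd_of_le inf_le_right
    have := (pow_dvd_pow 2 (show 4 ≤ k by omega)).trans hd
    norm_num at this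
  have h8 : 8 ≤ Nat.card B.W := by
    rcases B.e_cases with he | he
    · have hle : B.S1c.map B.perm ≤ B.W := le_inf le_rfl fun σ ⟨a, _, hσ⟩ =>
        B.mem_Y_iff.mpr ⟨hσ ▸ B.perm_mem_X a, fun h => by omega⟩
      rw [B.tau_three he] at himg
      have := Subgroup.card_le_card_group (B.W)
      have h' := Subgroup.card_dvd_of_le hle
      have := Nat.le_of_dvd Nat.card_pos h'
      omega
    · rw [τ, if_neg (by omega)] at himg
      have h := card_map_mul Equiv.Perm.sign (B.S1c.map B.perm)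
      have hle : B.S1c.map B.perm ⊓ Equiv.Perm.sign.ker ≤ B.W := le_inf inf_le_left
        fun σ ⟨⟨a, _, hσ⟩, hs⟩ => B.mem_Y_iff.mpr ⟨hσ ▸ B.perm_mem_X a, fun _ => hs⟩
      have h2 : Nat.card ((B.S1c.map B.perm).map Equiv.Perm.sign) ≤ 2 := by
        refine (Subgroup.card_le_card_group _).trans ?_
        rw [Nat.card_eq_fintype_card, Fintype.card_units_int]
      have h3 := Nat.le_of_dvd Nat.card_pos (Subgroup.card_dvd_of_le hle)
      nlinarith
  have h23 : 2 ^ k ≤ 8 := Nat.pow_le_pow_right (show 0 < 2 by norm_num) hk3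
  exact le_antisymm (hk.le.trans h23) h8

theorem zb_mem : B.perm B.zc ∈ B.W := by
  classical
  haveI := Fintype.ofFinite B.Pts
  refine ⟨⟨B.zc, B.z_mem, rfl⟩, B.mem_Y_iff.mpr ⟨B.perm_mem_X _, fun _ => ?_⟩⟩
  refine Perm8.sign_of_commute B.zb_sq B.W (by rw [B.card_W h168]; norm_num) ?_
    (fun a ha => B.zb_comm ha.1) (by rw [← Nat.card_eq_fintype_card, B.card_pts]; norm_num)
  intro a ha x hx
  refine B.semiregular ha.2 (k := 3) ?_ x hx
  have := congrArg Subtype.val (pow_card_eq_one' (x := (⟨a, ha⟩ : B.W)))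
  rwa [B.card_W h168] at this

/-- The structure of `W`, transported from the simple group of order `168`. -/
theorem W_facts : ∃ y ∈ B.W, y ^ 2 = B.perm B.zc ∧
    (∀ a ∈ B.W, (∀ b ∈ B.W, a * b = b * a) → a = 1 ∨ a = B.perm B.zc) ∧
    Nat.card {a : Equiv.Perm B.Pts // a ∈ B.W ∧ a ^ 2 = 1} = 6 ∧
    ∀ w ∈ B.W, w ^ 2 = 1 → w ≠ 1 → ∃ r ∈ B.Y, r * B.perm B.zc * r⁻¹ = w := by
  haveI : Fact (Nat.Prime 2) := ⟨Nat.prime_two⟩
  have hle : B.W ≤ B.Y := inf_le_right
  have hcard : Nat.card (B.W.subgroupOf B.Y) = 8 :=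
    (Nat.card_congr (Subgroup.subgroupOfEquivOfLe hle).toEquiv).trans (B.card_W h168)
  let TW : Sylow 2 B.Y := Sylow.ofCard (B.W.subgroupOf B.Y) (by
    rw [hcard, h168, show 168 = 2 ^ 3 * 21 from rfl, Nat.factorization_mul (by norm_num)
      (by norm_num), Nat.Prime.factorization_pow (by norm_num), Finsupp.add_apply,
      Finsupp.single_eq_same, Nat.factorization_eq_zero_of_not_dvd (by norm_num : ¬ 2 ∣ 21)]
    norm_num)
  obtain ⟨z0, y, hz0, hzo, hy, hyz, hcT, hcen, h6⟩ := Small168.sylow_two_facts h168 TW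
  have hzY : (⟨_, (B.zb_mem h168).2⟩ : B.Y) = z0 := by
    refine (hcen ⟨_, (B.zb_mem h168).2⟩ (B.zb_mem h168) fun b hb =>
      Subtype.ext (B.zb_comm (Subgroup.mem_subgroupOf.mp hb).1)).resolve_left ?_
    exact fun h => B.zb_ne_one (congrArg Subtype.val h)
  have hz : (z0 : Equiv.Perm B.Pts) = B.perm B.zc := (congrArg Subtype.val hzY).symm
  refine ⟨y, Subgroup.mem_subgroupOf.mp hy, ?_, ?_, ?_, ?_⟩
  · rw [← hz, ← hyz]; rfl
  · intro a ha hab
    rcases hcen ⟨a, hle ha⟩ ha (fun b hb => Subtype.ext (hab _ (Subgroup.mem_subgroupOf.mp hb)))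
      with h | h
    · exact Or.inl (congrArg Subtype.val h)
    · exact Or.inr ((congrArg Subtype.val h).trans hz)
  · rw [← h6]
    refine Nat.card_congr
      { toFun := fun a => ⟨⟨a.1, hle a.2.1⟩, a.2.1, Subtype.ext a.2.2⟩
        invFun := fun a => ⟨a.1.1, a.2.1, congrArg Subtype.val a.2.2⟩
        left_inv := fun a => rfl
        right_inv := fun a => rfl }
  · intro w hw hw2 hw1
    have ho : orderOf (⟨w, hle hw⟩ : B.Y) = 2 :=
      orderOf_eq_prime (Subtype.ext hw2) fun h => hw1 (congrArg Subtype.val h)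
    obtain ⟨r, hr⟩ := isConj_iff.mp ((Order168.two_classes h168).2.2.1 z0 _ hzo ho)
    exact ⟨r, r.2, by rw [← hz]; exact congrArg Subtype.val hr⟩

/-- Every element of `Y` is induced by an element centralising `T`. -/
theorem lift_centralizing {r : Equiv.Perm B.Pts} (hr : r ∈ B.Y) :
    ∃ a : B.Cu, a ∈ Subgroup.centralizer (B.Tc : Set B.Cu) ∧ B.perm a = r := by
  haveI : Fact (Nat.Prime 2) := ⟨Nat.prime_two⟩
  set K := B.perm.ker with hK
  have hTle : B.T ≤ B.Cu := inf_le_left.trans B.hS1u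
  have hTp : IsPGroup 2 B.T := B.isPGroup_S1.to_le inf_le_left
  have hTc : IsPGroup 2 B.Tc := hTp.of_equiv (Subgroup.subgroupOfEquivOfLe hTle).symm
  obtain ⟨S, hS⟩ := (hTc.of_equiv
    (Subgroup.subgroupOfEquivOfLe B.Tc_le_ker).symm).exists_le_sylow
  have hSmap : (S : Subgroup K).map K.subtype = B.Tc := by
    refine (Subgroup.eq_of_le_of_card_ge ?_ ?_).symm
    · intro a ha
      exact ⟨⟨a, B.Tc_le_ker ha⟩, hS ha, rfl⟩
    · have hp : IsPGroup 2 (((S : Subgroup K).map K.subtype).map B.Cu.subtype) := (S.2.map _).map _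
      have hle : ((S : Subgroup K).map K.subtype).map B.Cu.subtype ≤ B.Cp := by
        rintro _ ⟨_, ⟨a, -, rfl⟩, rfl⟩
        exact B.mem_Cp_of_perm_eq_one a.2
      have hd := B.le_τ hp hle
      rw [← Nat.card_congr (Subgroup.equivMapOfInjective _ _ B.Cu.subtype_injective).toEquiv,
        ← B.card_Tc] at hd
      exact Nat.le_of_dvd Nat.card_pos hd
  have htop := Sylow.normalizer_sup_eq_top S
  rw [hSmap] at htop
  set Nt := Subgroup.normalizer (B.Tc : Set B.Cu) with hNt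
  have hsurj : ∀ σ ∈ B.X, ∃ n ∈ Nt, B.perm n = σ := by
    rintro _ ⟨a, rfl⟩
    have ha : a ∈ Nt ⊔ K := by rw [htop]; trivial
    obtain ⟨n, hn, k, hk, rfl⟩ := Subgroup.mem_sup_of_normal_right.mp ha
    exact ⟨n, hn, by rw [map_mul, MonoidHom.mem_ker.mp hk, mul_one]⟩
  set J := Subgroup.centralizer (B.Tc : Set B.Cu) ⊓ B.Y.comap B.perm with hJ
  set Jb := (J.map B.perm).subgroupOf B.Y with hJb
  have hnorm : Jb.Normal := by
    refine ⟨fun σ hσ τ => ?_⟩
    obtain ⟨n, hn, hnτ⟩ := hsurj τ (B.Y_le τ.2)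
    obtain ⟨j, hj, hjσ⟩ := Subgroup.mem_subgroupOf.mp hσ
    refine Subgroup.mem_subgroupOf.mpr ⟨n * j * n⁻¹, ⟨?_, ?_⟩, ?_⟩
    · refine Subgroup.mem_centralizer_iff.mpr fun t ht => ?_
      have htn : n⁻¹ * t * n ∈ B.Tc :=
        (Subgroup.mem_normalizer_iff.mp hn _).mpr (by simpa [mul_assoc] using ht)
      have hc := Subgroup.mem_centralizer_iff.mp hj.1 _ htn
      calc t * (n * j * n⁻¹) = n * ((n⁻¹ * t * n) * j) * n⁻¹ := by group
        _ = n * j * n⁻¹ * t := by rw [hc]; group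
    · change B.perm (n * j * n⁻¹) ∈ B.Y
      rw [map_mul, map_mul, hnτ, hjσ, map_inv, hnτ]
      exact B.normal_Y (B.Y_le τ.2) σ.2
    · simp [hnτ, hjσ]
  have hne : Jb ≠ ⊥ := by
    intro h
    have hm : (⟨_, (B.zb_mem h168).2⟩ : B.Y) ∈ Jb := Subgroup.mem_subgroupOf.mpr
      ⟨B.zc, ⟨Subgroup.mem_centralizer_iff.mpr fun t ht => Subtype.ext (B.z_central ht.1).symm,
        (B.zb_mem h168).2⟩, rfl⟩
    rw [h, Subgroup.mem_bot] at hm
    exact B.zb_ne_one (congrArg Subtype.val hm)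
  have htop' : Jb = ⊤ := (hnorm.eq_bot_or_eq_top).resolve_left hne
  have hm : (⟨r, hr⟩ : B.Y) ∈ Jb := by rw [htop']; trivial
  obtain ⟨a, ha, hae⟩ := Subgroup.mem_subgroupOf.mp hm
  exact ⟨a, ha.1, hae⟩

end Simple

/-- `C(T)` over `W`. -/
noncomputable def L : Subgroup B.Cu :=
  Subgroup.centralizer (B.Tc : Set B.Cu) ⊓ B.W.comap B.perm

theorem S1c_le_normalizer : B.S1c ≤ Subgroup.normalizer (B.L : Set B.Cu) := by
  have key : ∀ a ∈ B.S1c, ∀ l ∈ B.L, a * l * a⁻¹ ∈ B.L := by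
    intro a ha l hl
    refine ⟨Subgroup.mem_centralizer_iff.mpr fun t ht => ?_, ?_⟩
    · have hta : a⁻¹ * t * a ∈ B.Tc := by
        have h := B.conj_T (inv_mem ha) ht
        simpa [Tc, Subgroup.mem_subgroupOf] using h
      have hc := Subgroup.mem_centralizer_iff.mp hl.1 _ hta
      calc t * (a * l * a⁻¹) = a * ((a⁻¹ * t * a) * l) * a⁻¹ := by group
        _ = a * l * a⁻¹ * t := by rw [hc]; group
    · obtain ⟨⟨b, hb, hbe⟩, hY⟩ := hl.2
      refine ⟨⟨a * b * a⁻¹, mul_mem (mul_mem ha hb) (inv_mem ha), by simp [hbe]⟩, ?_⟩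
      change B.perm (a * l * a⁻¹) ∈ B.Y
      rw [map_mul, map_mul, map_inv]
      exact B.normal_Y (B.perm_mem_X a) hY
  intro a ha
  rw [Subgroup.mem_normalizer_iff]
  intro l
  refine ⟨key a ha l, fun h => ?_⟩
  have := key _ (inv_mem ha) _ h
  simpa [mul_assoc] using this

/-- `S1 ∩ L` has odd index in `L`. -/
theorem odd_index : ¬ 2 ∣ (B.S1c.subgroupOf B.L).index := by
  rintro ⟨m, hm⟩
  have h := card_sup_mul_inf B.S1c B.L B.S1c_le_normalizer
  have h1 := (B.S1c.subgroupOf B.L).card_mul_index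
  rw [← Subgroup.inf_subgroupOf_right,
    Nat.card_congr (Subgroup.subgroupOfEquivOfLe inf_le_right).toEquiv] at h1
  rw [← Subgroup.inf_subgroupOf_right] at hm
  rw [hm] at h1
  rw [B.card_S1c, ← h1] at h
  refine B.not_dvd_Cu ((Dvd.intro m ?_).trans
    (Subgroup.card_subgroup_dvd_card (B.S1c ⊔ B.L : Subgroup B.Cu)))
  exact (Nat.eq_of_mul_eq_mul_right Nat.card_pos (h.trans (by ring))).symm

/-- An involution of `W` lifts to a conjugate of `z` in `S1`, up to conjugation in `W`. -/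
theorem lift_involution [IsSimpleGroup B.Y] (h168 : Nat.card B.Y = 168) {w : Equiv.Perm B.Pts}
    (hw : w ∈ B.W) (hw2 : w ^ 2 = 1) (hw1 : w ≠ 1) :
    ∃ q b : B.Cu, q ∈ Subgroup.centralizer (B.Tc : Set B.Cu) ∧ b = q * B.zc * q⁻¹ ∧
      b ∈ B.S1c ⊓ B.L ∧ ∃ v ∈ B.W, B.perm b = v * w * v⁻¹ := by
  haveI : Fact (Nat.Prime 2) := ⟨Nat.prime_two⟩
  obtain ⟨-, -, -, -, -, hconj⟩ := B.W_facts h168
  obtain ⟨r, hr, hrw⟩ := hconj w hw hw2 hw1
  obtain ⟨a, ha, har⟩ := B.lift_centralizing h168 hr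
  have hzC : B.zc ∈ Subgroup.centralizer (B.Tc : Set B.Cu) :=
    Subgroup.mem_centralizer_iff.mpr fun t ht => Subtype.ext (B.z_central ht.1).symm
  set b0 := a * B.zc * a⁻¹ with hb0
  have hb0C : b0 ∈ Subgroup.centralizer (B.Tc : Set B.Cu) := mul_mem (mul_mem ha hzC) (inv_mem ha)
  have hb0W : b0 ∈ B.W.comap B.perm := by
    rw [Subgroup.mem_comap, hb0, map_mul, map_mul, map_inv, har, hrw]
    exact hw
  have hb0L : b0 ∈ B.L := ⟨hb0C, hb0W⟩
  have hp : IsPGroup 2 (Subgroup.zpowers (⟨b0, hb0L⟩ : B.L)) := by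
    refine IsPGroup.of_card (n := 1) ?_
    rw [Nat.card_zpowers, pow_one, Subgroup.orderOf_mk]
    show orderOf (MulAut.conj a B.zc) = 2
    rw [MulEquiv.orderOf_eq, ← Subgroup.orderOf_coe]
    exact B.orderOf_z
  obtain ⟨S, hS⟩ := hp.exists_le_sylow
  let H : Sylow 2 B.L := (show IsPGroup 2 (B.S1c.subgroupOf B.L) by
    refine IsPGroup.of_injective ?_ ((B.L.subtype.comp (B.S1c.subgroupOf B.L).subtype).codRestrict
      B.S1c fun x => x.2) ?_
    · exact B.isPGroup_S1.of_equiv (Subgroup.subgroupOfEquivOfLe B.hS1u).symm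
    · intro x y h
      exact Subtype.ext (Subtype.ext (congrArg (fun v : B.S1c => (v : B.Cu)) h :))).toSylow B.odd_index
  obtain ⟨l, hl⟩ := MulAction.exists_smul_eq B.L S H
  have hmem : l * ⟨b0, hb0L⟩ * l⁻¹ ∈ (H : Subgroup B.L) := by
    rw [← hl, Sylow.coe_subgroup_smul, Subgroup.mem_pointwise_smul_iff_inv_smul_mem]
    simpa [MulAut.smul_def, mul_assoc] using hS (Subgroup.mem_zpowers _)
  refine ⟨(l : B.Cu) * a, ((l : B.Cu) * a) * B.zc * ((l : B.Cu) * a)⁻¹,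
    mul_mem l.2.1 ha, rfl, ?_, B.perm (l : B.Cu), l.2.2, ?_⟩
  · have heq : (l : B.Cu) * a * B.zc * ((l : B.Cu) * a)⁻¹ =
        ((l * ⟨b0, hb0L⟩ * l⁻¹ : B.L) : B.Cu) := by
      simp [hb0, mul_assoc]
    rw [heq]
    exact ⟨hmem, SetLike.coe_mem _⟩
  · simp [map_mul, har, ← hrw, mul_assoc]

end Eight

end Cfsg.Agent.Lib.RecogM22.Seven
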