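import Cfsg.Agent.Lib.RecogM22.Local7Image

/-!
The induced group on the eight Sylow `7`-subgroups has no normal subgroup of order `8`.
-/

set_option autoImplicit false
set_option linter.style.haveILetI false
set_option linter.unusedSectionVars false

namespace Cfsg.Agent.Lib.RecogM22.Seven

open Cfsg.Agent.Lib.Classif Cfsg.Agent.Lib.SmallGroups

universe u

namespace Eight

variable {G : Type u} [Group G] [Finite G] [IsSimpleGroup G] [Fact (Nat.Prime 7)]
  [Fact (Nat.Prime 11)] (B : Eight G)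

theorem tau_three (he : B.e = 3) : B.τ = 8 := by rw [τ, if_pos he]

theorem not_normal_three (he : B.e = 3) (A : Subgroup B.Y) (hA : A.Normal)
    (hA8 : Nat.card A = 8) : False := by
  classical
  haveI : Fact (Nat.Prime 2) := ⟨Nat.prime_two⟩
  haveI := Fintype.ofFinite B.Pts
  set M : Subgroup B.Cu := (A.map B.Y.subtype).comap B.perm with hM
  have hXY : B.X ≤ B.Y := fun σ hσ => B.mem_Y_iff.mpr ⟨hσ, fun h => by omega⟩
  haveI hMn : M.Normal := by
    refine ⟨fun a ha g => ?_⟩
    obtain ⟨b, hb, hbe⟩ := Subgroup.mem_map.mp (Subgroup.mem_comap.mp ha)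
    refine Subgroup.mem_comap.mpr (Subgroup.mem_map.mpr
      ⟨⟨B.perm g, hXY (B.perm_mem_X g)⟩ * b * ⟨B.perm g, hXY (B.perm_mem_X g)⟩⁻¹,
        hA.conj_mem b hb _, ?_⟩)
    simp only [Subgroup.coe_subtype] at hbe
    simp [hbe]
  have hker : B.perm.ker ≤ M := fun a ha => by
    rw [hM, Subgroup.mem_comap, show B.perm a = 1 from ha]
    exact one_mem _
  have hmap : M.map B.perm = A.map B.Y.subtype := by
    rw [hM, Subgroup.map_comap_eq]
    exact inf_eq_right.mpr ((Subgroup.map_subtype_le A).trans B.Y_le)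
  have hcard := card_map_mul B.perm M
  rw [hmap, inf_eq_right.mpr hker,
    ← Nat.card_congr (A.equivMapOfInjective _ B.Y.subtype_injective).toEquiv, hA8] at hcard
  obtain ⟨g, hg, -, hcg, hτ⟩ := B.card_X
  rw [B.tau_three he] at hτ
  have hc := B.hc3 he
  change Nat.card B.Cu = 448 ∨ Nat.card B.Cu = 1344 at hc
  obtain ⟨k, hk⟩ := hτ
  rw [hk] at hcg hcard
  have hgk : g * k = 1 ∨ g * k = 3 := by
    have h56 : Nat.card B.Cu = 448 * (g * k) := by rw [← hcg]; ring
    omega
  have hk3 : k = 1 ∨ k = 3 := by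
    rcases hgk with h | h
    · exact Or.inl (Nat.eq_one_of_mul_eq_one_left h)
    · exact (Nat.dvd_prime Nat.prime_three).mp (Dvd.intro_left _ h)
  -- a Sylow subgroup of `M` is a Sylow subgroup of `C(u)`
  let S' : Sylow 2 M := default
  set S'' : Subgroup B.Cu := (S' : Subgroup M).map M.subtype with hS''
  have hS64 : Nat.card S'' = 64 := by
    rw [hS'', ← Nat.card_congr ((S' : Subgroup M).equivMapOfInjective _ M.subtype_injective).toEquiv]
    obtain ⟨j, hj⟩ := (S'.2).exists_card_eq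
    have hd : 2 ^ j ∣ 64 * k := by
      rw [← hj, show 64 * k = Nat.card M by rw [← hcard]; ring]
      exact Subgroup.card_subgroup_dvd_card _
    have hnd := S'.not_dvd_index
    have hidx := (S' : Subgroup M).card_mul_index
    rw [hj, show Nat.card M = 64 * k by rw [← hcard]; ring] at hidx
    have hj6 : j ≤ 6 := by
      by_contra hlt
      have := (pow_dvd_pow 2 (show 7 ≤ j by omega)).trans hd
      rcases hk3 with rfl | rfl <;> norm_num at this
    rw [hj]
    by_contra hne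
    apply hnd
    have hj5 : j ≤ 5 := by
      by_contra hlt
      exact hne (by rw [show j = 6 by omega]; rfl)
    interval_cases j <;> omega
  have h7 : 7 ∣ Nat.card (Subgroup.normalizer (S'' : Set B.Cu)) := by
    have htop := @Sylow.normalizer_sup_eq_top B.Cu _ 2 _ M hMn _ S'
    have h1 : M.relIndex (Subgroup.normalizer (S'' : Set B.Cu)) = M.index := by
      rw [← Subgroup.relIndex_top_right M, ← htop, hS'']
      exact (@Subgroup.relIndex_sup_right B.Cu _ _ M hMn).symm
    have h2 : 7 ∣ M.index := by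
      have h := M.card_mul_index
      rw [show Nat.card M = 64 * k by rw [← hcard]; ring] at h
      have h7c : 7 ∣ 64 * k * M.index := by rw [h, ← hcg]; exact ⟨8 * (g * (8 * k)), by ring⟩
      refine (Nat.Coprime.dvd_of_dvd_mul_left ?_ h7c)
      rcases hk3 with rfl | rfl <;> norm_num
    rw [← h1] at h2
    exact h2.trans (Subgroup.relIndex_dvd_card _ _)
  obtain ⟨⟨q, hqN⟩, hqo⟩ := exists_prime_orderOf_dvd_card'
    (G := Subgroup.normalizer (S'' : Set B.Cu)) 7 h7
  rw [Subgroup.orderOf_mk] at hqo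
  have hqo' : orderOf (q : G) = 7 := by rw [Subgroup.orderOf_coe]; exact hqo
  obtain ⟨Q, hQ⟩ := (IsPGroup.of_card (n := 1)
    (show Nat.card (Subgroup.zpowers (q : G)) = 7 ^ 1 by rw [Nat.card_zpowers, hqo', pow_one])
    ).exists_le_sylow
  have hQe := Subgroup.eq_of_le_of_card_ge hQ (by rw [Nat.card_zpowers, hqo', B.card_sylow Q])
  have hQle : (Q : Subgroup G) ≤ B.Cu := by rw [← hQe, Subgroup.zpowers_le]; exact q.2
  -- conjugate of `S1`
  have hS1 : ∀ k', Nat.card B.Cu = 64 * k' → ¬ 2 ∣ k' := fun k' hk' h2 => by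
    obtain ⟨l, rfl⟩ := h2
    exact B.not_dvd_Cu ⟨l, by rw [hk']; ring⟩
  have hfac : (Nat.card B.Cu).factorization 2 = 6 := by
    obtain ⟨k', hk'⟩ := B.card_S1c ▸ Subgroup.card_subgroup_dvd_card B.S1c
    rw [hk', Nat.factorization_mul (by norm_num) (fun h0 => hS1 k' hk' (by rw [h0]; norm_num)),
      Finsupp.add_apply, Nat.factorization_eq_zero_of_not_dvd (hS1 k' hk'),
      show (64 : ℕ) = 2 ^ 6 from rfl, Nat.Prime.factorization_pow Nat.prime_two,
      Finsupp.single_eq_same]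
  let S1' : Sylow 2 B.Cu := Sylow.ofCard B.S1c (by rw [hfac, B.card_S1c]; rfl)
  let S2' : Sylow 2 B.Cu := Sylow.ofCard S'' (by rw [hfac, hS64]; rfl)
  obtain ⟨a, ha⟩ := MulAction.exists_smul_eq B.Cu S1' S2'
  refine B.not_normalizes a ⟨Q, hQle⟩ fun x hx => ?_
  have hxm : ∃ i : ℤ, (q : G) ^ i = x := Subgroup.mem_zpowers_iff.mp (hQe.symm ▸ hx)
  obtain ⟨i, rfl⟩ := hxm
  refine zpow_mem ?_ i
  have himg : B.S1.map (MulAut.conj (a : G)).toMonoidHom = S''.map B.Cu.subtype := by
    have : S'' = ((a • S1' : Sylow 2 B.Cu) : Subgroup B.Cu) := by rw [ha]; rfl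
    rw [this, Sylow.coe_subgroup_smul]
    ext x
    constructor
    · rintro ⟨b, hb, rfl⟩
      refine ⟨a * ⟨b, B.hS1u hb⟩ * a⁻¹, ?_, by simp⟩
      rw [SetLike.mem_coe, Subgroup.mem_pointwise_smul_iff_inv_smul_mem]
      simpa [S1', MulAut.smul_def, mul_assoc] using (show (⟨b, B.hS1u hb⟩ : B.Cu) ∈ B.S1c from hb)
    · rintro ⟨b, hb, rfl⟩
      rw [SetLike.mem_coe, Subgroup.mem_pointwise_smul_iff_inv_smul_mem] at hb
      have hb' : ((a⁻¹ * b * a : B.Cu) : G) ∈ B.S1 := by
        have h : ((MulAut.conj a)⁻¹ • b : B.Cu) ∈ B.S1c := hb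
        simpa [MulAut.smul_def, S1c, Subgroup.mem_subgroupOf, mul_assoc] using h
      exact ⟨_, hb', by simp [mul_assoc]⟩
  rw [himg, Subgroup.mem_normalizer_iff]
  intro x
  constructor
  · rintro ⟨b, hb, rfl⟩
    exact ⟨q * b * q⁻¹, (Subgroup.mem_normalizer_iff.mp hqN b).mp hb, by simp⟩
  · rintro ⟨b, hb, hbe⟩
    refine ⟨q⁻¹ * b * q, (Subgroup.mem_normalizer_iff.mp hqN _).mpr (by simpa [mul_assoc]), ?_⟩
    simp only [Subgroup.coe_subtype] at hbe ⊢
    simp [hbe, mul_assoc]

theorem not_normal_six (he : B.e = 6) (A : Subgroup B.Y) (hA : A.Normal) (hA8 : Nat.card A = 8) :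
    False := by
  classical
  haveI : Fact (Nat.Prime 2) := ⟨Nat.prime_two⟩
  haveI := Fintype.ofFinite B.Pts
  haveI := Fintype.ofFinite B.Y
  haveI := hA
  have hpow8 : ∀ {a : B.Y}, a ∈ A → a ^ 2 ^ 3 = 1 := fun {a} ha => by
    have := congrArg Subtype.val (pow_card_eq_one' (x := (⟨a, ha⟩ : A)))
    rwa [hA8] at this
  have hmem : ∀ σ : B.Y, σ ^ 2 ^ 3 = 1 → σ ∈ A := by
    intro σ hσ
    have hp : IsPGroup 2 (Subgroup.zpowers σ) := by
      obtain ⟨j, -, hj⟩ := (Nat.dvd_prime_pow Nat.prime_two).mp (orderOf_dvd_of_pow_eq_one hσ)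
      exact IsPGroup.of_card (n := j) (by rw [Nat.card_zpowers, hj])
    have hsup := (IsPGroup.of_card (n := 3) (show Nat.card A = 2 ^ 3 from hA8)).to_sup_of_normal_left'
      hp (fun x _ => by rw [Subgroup.normalizer_eq_top_iff.mpr hA]; trivial)
    obtain ⟨j, hj⟩ := hsup.exists_card_eq
    have hd : 2 ^ j ∣ 168 := hj ▸ (Subgroup.card_subgroup_dvd_card _).trans
      (by rcases B.card_Y.1 with h | h <;> rw [h]; norm_num)
    have hj3 : j ≤ 3 := by
      by_contra hlt
      have := (pow_dvd_pow 2 (show 4 ≤ j by omega)).trans hd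
      norm_num at this
    have heq := Subgroup.eq_of_le_of_card_ge (le_sup_left : A ≤ A ⊔ Subgroup.zpowers σ)
      (by rw [hA8, hj]; exact (Nat.pow_le_pow_right (by norm_num) hj3).trans (by norm_num))
    rw [heq]
    exact (le_sup_right : Subgroup.zpowers σ ≤ A ⊔ _) (Subgroup.mem_zpowers σ)
  obtain ⟨g, hg, hgo, hgz⟩ := B.exists_gen B.P
  set p : B.Y := ⟨B.perm ⟨g, B.P_le hg⟩, B.point_mem_Y B.pt hg⟩ with hp
  have hfix : ∀ a ∈ A, a * p = p * a → a = 1 := by
    intro a ha hap
    have hap' : Commute (a : Equiv.Perm B.Pts) (B.perm ⟨g, B.P_le hg⟩) := congrArg Subtype.val hap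
    obtain ⟨w, hw, hwe⟩ := B.perm_eq_of_commute (σ := (a : Equiv.Perm B.Pts)) fun y hy => by
      obtain ⟨i, hi⟩ := Subgroup.mem_zpowers_iff.mp (hgz.symm ▸ hy : (y : G) ∈ Subgroup.zpowers g)
      have hy' : y = ⟨g, B.P_le hg⟩ ^ i := Subtype.ext (by rw [SubgroupClass.coe_zpow]; exact hi.symm)
      rw [hy', map_zpow]
      exact (hap'.zpow_right i).eq
    have h7 : a ^ 7 = 1 := Subtype.ext (by
      rw [SubmonoidClass.coe_pow, hwe, ← map_pow, show w ^ 7 = 1 from Subtype.ext (by
        rw [SubmonoidClass.coe_pow, OneMemClass.coe_one]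
        exact FixedSylow.pow_eq_one B.P B.hP hw), map_one, OneMemClass.coe_one])
    exact orderOf_eq_one_iff.mp (Nat.eq_one_of_dvd_coprimes (by norm_num : Nat.Coprime (2 ^ 3) 7)
      (orderOf_dvd_of_pow_eq_one (hpow8 ha)) (orderOf_dvd_of_pow_eq_one h7))
  -- all elements are involutions
  have hsq : ∀ a ∈ A, a * a = 1 := by
    obtain ⟨⟨a0, ha0⟩, ha0o⟩ := exists_prime_orderOf_dvd_card' (G := A) 2 (by rw [hA8]; norm_num)
    rw [Subgroup.orderOf_mk] at ha0o
    have ha02 : a0 * a0 = 1 := by rw [← pow_two, ← ha0o, pow_orderOf_eq_one]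
    have hp7 : p ^ 7 = 1 := Subtype.ext (by
      rw [SubmonoidClass.coe_pow, hp, OneMemClass.coe_one, ← map_pow,
        show (⟨g, B.P_le hg⟩ : B.Cu) ^ 7 = 1 from Subtype.ext (by
          rw [SubmonoidClass.coe_pow, OneMemClass.coe_one]
          exact FixedSylow.pow_eq_one B.P B.hP hg), map_one])
    let f : Fin 7 → {a : B.Y // a ∈ A ∧ a ≠ 1} := fun i =>
      ⟨p ^ (i : ℕ) * a0 * (p ^ (i : ℕ))⁻¹, hA.conj_mem _ ha0 _, fun h => by
        have : a0 = 1 := by simpa using h
        rw [this, orderOf_one] at ha0o; omega⟩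
    have key : ∀ m n : ℕ, n ≤ m → m < 7 →
        p ^ m * a0 * (p ^ m)⁻¹ = p ^ n * a0 * (p ^ n)⁻¹ → m = n := by
      intro m n hle hlt he'
      by_contra hne
      obtain ⟨d, rfl⟩ := Nat.exists_eq_add_of_le hle
      rw [pow_add] at he'
      have hc : p ^ d * a0 = a0 * p ^ d := by
        refine mul_inv_eq_iff_eq_mul.mp (mul_left_cancel (a := p ^ n) (mul_right_cancel
          (b := (p ^ n)⁻¹) ?_))
        calc p ^ n * (p ^ d * a0 * (p ^ d)⁻¹) * (p ^ n)⁻¹ = p ^ n * p ^ d * a0 * (p ^ n * p ^ d)⁻¹ := by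
              group
          _ = _ := he'
      obtain ⟨d', hd'⟩ : ∃ d', d * d' % 7 = 1 := by
        have hall : ∀ d < 7, d ≠ 0 → ∃ d' < 7, d * d' % 7 = 1 := by decide
        obtain ⟨d', -, hd'⟩ := hall d (by omega) (by omega)
        exact ⟨d', hd'⟩
      have hpd : (p ^ d) ^ d' = p := by
        rw [← pow_mul, ← Nat.div_add_mod (d * d') 7, hd', pow_add, pow_mul, hp7, one_pow, one_mul,
          pow_one]
      have hcomm : Commute p a0 := hpd ▸ ((show Commute (p ^ d) a0 from hc).pow_left d')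
      have := hfix a0 ha0 hcomm.eq.symm
      rw [this, orderOf_one] at ha0o; omega
    have hfi : Function.Injective f := by
      intro i j hij
      have h' := congrArg Subtype.val hij
      rcases le_total (i : ℕ) j with h | h
      · exact Fin.ext (key j i h j.2 h'.symm).symm
      · exact Fin.ext (key i j h i.2 h')
    have hcardA : Fintype.card {a : B.Y // a ∈ A ∧ a ≠ 1} = 7 := by
      rw [Fintype.card_subtype]
      have h8 : (Finset.univ.filter fun a : B.Y => a ∈ A).card = 8 := by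
        rw [← Fintype.card_subtype, ← Nat.card_eq_fintype_card]
        exact hA8
      have he' : (Finset.univ.filter fun a : B.Y => a ∈ A ∧ a ≠ 1) =
          (Finset.univ.filter fun a : B.Y => a ∈ A).erase 1 := by
        ext a; simp [and_comm]
      rw [he', Finset.card_erase_of_mem (by simp), h8]
    have hfs := ((Fintype.bijective_iff_injective_and_card f).mpr
      ⟨hfi, by rw [Fintype.card_fin, hcardA]⟩).2
    intro a ha
    by_cases h1 : a = 1
    · rw [h1, one_mul]
    obtain ⟨i, hi⟩ := hfs ⟨a, ha, h1⟩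
    rw [show a = p ^ (i : ℕ) * a0 * (p ^ (i : ℕ))⁻¹ from (congrArg Subtype.val hi).symm]
    calc _ = p ^ (i : ℕ) * (a0 * a0) * (p ^ (i : ℕ))⁻¹ := by group
      _ = 1 := by rw [ha02, mul_one, mul_inv_cancel]
  have hinv : ∀ a ∈ A, a⁻¹ = a := fun a ha => inv_eq_of_mul_eq_one_left (hsq a ha)
  have habel : ∀ a ∈ A, ∀ b ∈ A, a * b = b * a := fun a ha b hb => by
    calc a * b = (a * b)⁻¹ := (hinv _ (mul_mem ha hb)).symm
      _ = b⁻¹ * a⁻¹ := mul_inv_rev a b
      _ = b * a := by rw [hinv a ha, hinv b hb]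
  -- the odd involution
  obtain ⟨x, hx1, hxN, -, hx2, hxfix⟩ := B.exists_odd he
  set xb := B.perm x with hxbdef
  have hxinv : xb⁻¹ = xb := inv_eq_of_mul_eq_one_left (by rw [← pow_two]; exact hx2)
  let cj : B.Y → B.Y := fun a => ⟨xb * (a : Equiv.Perm B.Pts) * xb⁻¹, B.normal_Y (B.perm_mem_X x) a.2⟩
  have hcjA : ∀ a ∈ A, cj a ∈ A := fun a ha => hmem _ (Subtype.ext (by
    simp only [cj, SubmonoidClass.coe_pow, OneMemClass.coe_one]
    rw [conj_pow, ← SubmonoidClass.coe_pow, hpow8 ha]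
    simp))
  have hcjcj : ∀ a, cj (cj a) = a := fun a => Subtype.ext (by
    change xb * (xb * (a : Equiv.Perm B.Pts) * xb⁻¹) * xb⁻¹ = a
    calc _ = (xb * xb) * (a : Equiv.Perm B.Pts) * (xb * xb)⁻¹ := by group
      _ = a := by rw [← pow_two, hx2]; group)
  have hcjmul : ∀ a b, cj (a * b) = cj a * cj b := fun a b => Subtype.ext (by
    change xb * ((a : Equiv.Perm B.Pts) * b) * xb⁻¹ = xb * a * xb⁻¹ * (xb * b * xb⁻¹)
    group)
  set AA := Finset.univ.filter fun a : B.Y => a ∈ A with hAA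
  have hA' : AA.card = 8 := by
    rw [hAA, ← Fintype.card_subtype, ← Nat.card_eq_fintype_card]
    exact hA8
  set C := AA.filter fun a => cj a = a with hCdef
  have hC2 : C.card ≤ 2 := by
    rw [← hxfix]
    refine Finset.card_le_card_of_injOn (fun a => (a : Equiv.Perm B.Pts) B.pt) ?_ ?_
    · intro a ha
      simp only [hCdef, hAA, Finset.coe_filter, Finset.mem_filter, Finset.mem_univ, true_and,
        Set.mem_setOf_eq] at ha ⊢
      have hc : xb * (a : Equiv.Perm B.Pts) = a * xb :=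
        mul_inv_eq_iff_eq_mul.mp (congrArg Subtype.val ha.2)
      have hpt : xb B.pt = B.pt := (B.stab_iff x).mpr hxN
      rw [← Equiv.Perm.mul_apply, hc, Equiv.Perm.mul_apply, hpt]
    · intro a ha b hb hab
      simp only [hCdef, hAA, Finset.coe_filter, Finset.mem_filter, Finset.mem_univ, true_and,
        Set.mem_setOf_eq] at ha hb
      have hm := mul_mem (inv_mem ha.1) hb.1
      have h1 := B.semiregular (a⁻¹ * b).2 (k := 3)
        (by rw [← SubmonoidClass.coe_pow, hpow8 hm]; rfl) B.pt (by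
          simp only [Subgroup.coe_mul, Subgroup.coe_inv, Equiv.Perm.mul_apply]
          exact Equiv.Perm.inv_eq_iff_eq.mpr hab.symm)
      exact inv_mul_eq_one.mp (Subtype.ext h1)
  set f : B.Y → B.Y := fun a => a * cj a with hf
  have himg : (AA.image f).card ≤ C.card := by
    refine Finset.card_le_card fun b hb => ?_
    simp only [hCdef, hAA, Finset.mem_image, Finset.mem_filter, Finset.mem_univ, true_and,
      hf] at hb ⊢
    obtain ⟨a, ha, rfl⟩ := hb
    refine ⟨mul_mem ha (hcjA a ha), ?_⟩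
    rw [hcjmul, hcjcj, habel _ (hcjA a ha) _ ha]
  have hfib : ∀ b ∈ AA.image f, (AA.filter fun a => f a = b).card ≤ C.card := by
    intro b hb
    obtain ⟨a0, ha0, rfl⟩ := Finset.mem_image.mp hb
    simp only [hAA, Finset.mem_filter, Finset.mem_univ, true_and] at ha0
    refine Finset.card_le_card_of_injOn (fun a => a0 * a) ?_ fun a _ b _ h => mul_left_cancel h
    intro a ha
    simp only [hCdef, hAA, hf, Finset.coe_filter, Finset.mem_filter, Finset.mem_univ, true_and,
      Set.mem_setOf_eq] at ha ⊢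
    refine ⟨mul_mem ha0 ha.1, ?_⟩
    have hc1 := hcjA a0 ha0
    have hc2 := hcjA a ha.1
    rw [hcjmul]
    calc cj a0 * cj a = (a0 * a0) * cj a0 * ((a * a) * cj a) := by
          rw [hsq a0 ha0, hsq a ha.1, one_mul, one_mul]
      _ = a0 * (a0 * cj a0) * (a * (a * cj a)) := by group
      _ = a0 * (a * cj a) * (a * (a * cj a)) := by rw [ha.2]
      _ = a0 * ((a * cj a) * a * (a * cj a)) := by group
      _ = a0 * (a * ((a * cj a) * (a * cj a))) := by
          rw [habel _ (mul_mem ha.1 hc2) _ ha.1]; group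
      _ = a0 * a := by rw [hsq _ (mul_mem ha.1 hc2), mul_one]
  have h := Finset.card_le_mul_card_image AA C.card hfib
  have h4 := Nat.mul_le_mul hC2 (himg.trans hC2)
  omega

end Eight

end Cfsg.Agent.Lib.RecogM22.Seven
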