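import Cfsg.Agent.Lib.Classif.SmallOrderTools

/-!
Parities of permutations of eight points commuting with semiregular subgroups.
-/

set_option autoImplicit false
set_option linter.style.haveILetI false

namespace Cfsg.Agent.Lib.RecogM22.Perm8

open Equiv

variable {α : Type*} [Fintype α] [DecidableEq α]

/-- An involution is even when the number of its fixed points agrees with the degree modulo `4`. -/
theorem sign_involution {σ : Perm α} (h : σ ^ 2 = 1) :
    Perm.sign σ = 1 ↔ 4 ∣ Fintype.card α - (Finset.univ.filter fun x => σ x = x).card := by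
  have hc := Perm.cycleType_of_pow_prime_eq_one (p := 2) h
  have hsum : σ.cycleType.sum = 2 * Multiset.card σ.cycleType := by
    conv_lhs => rw [hc]
    rw [Multiset.sum_replicate, smul_eq_mul, mul_comm]
  have hle := σ.sum_cycleType_le
  have hfix : (Finset.univ.filter fun x => σ x = x).card = Fintype.card α - σ.cycleType.sum := by
    rw [← Perm.card_fixedPoints]
    exact (Fintype.card_of_subtype _ fun x => by simp [Function.IsFixedPt]).symm
  rw [hfix, Perm.sign_of_cycleType, hsum]
  set n := Multiset.card σ.cycleType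
  rcases Nat.even_or_odd n with ⟨k, hk⟩ | ⟨k, hk⟩
  · refine iff_of_true ?_ ⟨k, by omega⟩
    exact Even.neg_one_pow ⟨3 * k, by omega⟩
  · refine iff_of_false ?_ ?_
    · rw [Odd.neg_one_pow ⟨3 * k + 1, by omega⟩]
      decide
    · rintro ⟨j, hj⟩
      omega

/-- An element of order four with fixed-point-free square is even in degree `8`. -/
theorem sign_of_pow_four {σ : Perm α} (h4 : σ ^ 4 = 1) (h2 : ∀ x, (σ ^ 2) x ≠ x)
    (hn : Fintype.card α % 8 = 0) : Perm.sign σ = 1 := by
  have hparts : ∀ n ∈ σ.cycleType, n = 4 := by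
    intro n hn'
    have hd : n ∣ 4 := (Perm.dvd_of_mem_cycleType hn').trans (orderOf_dvd_of_pow_eq_one h4)
    have h2' := Perm.two_le_of_mem_cycleType hn'
    have := Nat.le_of_dvd (by norm_num) hd
    obtain rfl | rfl | rfl : n = 2 ∨ n = 3 ∨ n = 4 := by omega
    · exfalso
      obtain ⟨c, ρ, hcρ, hdisj, hcyc, hsupp⟩ := Perm.mem_cycleType_iff.mp hn'
      obtain ⟨x, hx⟩ := Finset.card_pos.mp (by rw [hsupp]; norm_num : 0 < c.support.card)
      have hρ : ∀ z ∈ c.support, σ z = c z := by
        intro z hz
        rw [hcρ, Perm.mul_apply]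
        congr 1
        exact (hdisj z).resolve_left (Perm.mem_support.mp hz)
      have h0 : c ^ 2 = 1 := by rw [← hsupp, ← hcyc.orderOf, pow_orderOf_eq_one]
      refine h2 x ?_
      rw [pow_two, Perm.mul_apply, hρ x hx, hρ _ (Perm.apply_mem_support.mpr hx)]
      simpa [pow_two] using Perm.congr_fun h0 x
    · norm_num at hd
    · rfl
  have hfix : σ.cycleType.sum = Fintype.card α := by
    rw [Perm.sum_cycleType]
    refine congrArg Finset.card (Finset.eq_univ_of_forall fun x => Perm.mem_support.mpr fun hx => ?_)
    exact h2 x (by rw [pow_two, Perm.mul_apply, hx, hx])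
  have hrep := Multiset.eq_replicate_card.mpr hparts
  rw [hrep, Multiset.sum_replicate, smul_eq_mul] at hfix
  rw [Perm.sign_of_cycleType, hrep, Multiset.sum_replicate, Multiset.card_replicate, smul_eq_mul]
  exact Even.neg_one_pow (Nat.even_iff.mpr (by omega))

/-- An involution commuting with a semiregular subgroup of order divisible by four is even, when
four divides the degree. -/
theorem sign_of_commute {σ : Perm α} (h : σ ^ 2 = 1) (A : Subgroup (Perm α))
    (hA : 4 ∣ Nat.card A) (hsemi : ∀ a ∈ A, ∀ x, a x = x → a = 1) (hcomm : ∀ a ∈ A, σ * a = a * σ)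
    (hn : 4 ∣ Fintype.card α) : Perm.sign σ = 1 := by
  classical
  rw [sign_involution h]
  refine Nat.dvd_sub hn ?_
  let F := {x : α // σ x = x}
  let act : MulAction A F :=
    { smul := fun a x => ⟨(a : Perm α) x.1, by
        rw [← Perm.mul_apply, hcomm a a.2, Perm.mul_apply, x.2]⟩
      one_smul := fun x => rfl
      mul_smul := fun a b x => rfl }
  have hstab : ∀ x : F, MulAction.stabilizer A x = ⊥ := fun x => by
    rw [eq_bot_iff]
    intro a ha
    exact Subgroup.mem_bot.mpr (Subtype.ext (hsemi a a.2 x.1 (congrArg Subtype.val ha)))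
  rw [← Fintype.card_subtype, ← Nat.card_eq_fintype_card,
    Nat.card_congr (MulAction.selfEquivSigmaOrbits' A F), Nat.card_sigma]
  refine Finset.dvd_sum fun ω _ => ?_
  obtain ⟨x, rfl⟩ := Quotient.exists_rep ω
  have he : Nat.card (MulAction.orbit A x) = Nat.card A := by
    rw [Nat.card_congr (MulAction.orbitEquivQuotientStabilizer A x), hstab x]
    exact Nat.card_congr QuotientGroup.quotientBot.toEquiv
  rw [← he] at hA
  exact hA

end Cfsg.Agent.Lib.RecogM22.Perm8
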