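import Cfsg.Agent.Lib.SmallGroups.Counting
import Cfsg.Agent.Lib.SmallGroups.Order168

/-!
A group of order `56` or `168` with eight self-centralising Sylow `7`-subgroups is simple or has a
normal subgroup of order `8`.
-/

set_option autoImplicit false
set_option linter.style.haveILetI false

namespace Cfsg.Agent.Lib.RecogM22.Small168

open Cfsg.Agent.Lib.SmallGroups

variable {Y : Type*} [Group Y] [Finite Y]

/-- A group of order `56` with eight Sylow `7`-subgroups: its `2`-elements form a subgroup. -/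
theorem exists_two_core [Fact (Nat.Prime 7)] (hY : Nat.card Y = 56)
    (hn : Nat.card (Sylow 7 Y) = 8) :
    ∃ A : Subgroup Y, Nat.card A = 8 ∧ ∀ x : Y, x ^ 8 = 1 → x ∈ A := by
  classical
  haveI := Fintype.ofFinite Y
  haveI : Fact (Nat.Prime 2) := ⟨Nat.prime_two⟩
  have h7 : ∀ Q : Sylow 7 Y, Nat.card (Q : Subgroup Y) = 7 := fun Q => by
    simpa using Sylow.card_sylow_eq Q (a := 1) (m := 8) (by rw [hY]; norm_num) (by norm_num)
  have h48 := Counting.card_orderOf_eq_prime h7
  rw [hn, Nat.card_eq_fintype_card, Fintype.card_subtype] at h48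
  let T : Sylow 2 Y := default
  have hT : Nat.card (T : Subgroup Y) = 8 := by
    simpa using Sylow.card_sylow_eq T (a := 3) (m := 7) (by rw [hY]; norm_num) (by norm_num)
  refine ⟨T, hT, fun x hx => ?_⟩
  have hcompl := Finset.card_filter_add_card_filter_not (s := (Finset.univ : Finset Y))
    (fun g : Y => orderOf g = 7)
  rw [h48, Finset.card_univ, ← Nat.card_eq_fintype_card, hY] at hcompl
  have hsub : (Finset.univ.filter fun g : Y => g ∈ (T : Subgroup Y)) ⊆
      Finset.univ.filter fun g : Y => ¬ orderOf g = 7 := by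
    intro g hg
    simp only [Finset.mem_filter, Finset.mem_univ, true_and] at hg ⊢
    intro h
    have := Subgroup.orderOf_dvd_natCard _ hg
    rw [h, hT] at this
    norm_num at this
  have heq := Finset.eq_of_subset_of_card_le hsub (by
    rw [← Fintype.card_subtype (fun g : Y => g ∈ (T : Subgroup Y)), ← Nat.card_eq_fintype_card,
      hT]
    omega)
  have hm : x ∈ Finset.univ.filter fun g : Y => ¬ orderOf g = 7 := by
    simp only [Finset.mem_filter, Finset.mem_univ, true_and]
    intro h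
    have := orderOf_dvd_of_pow_eq_one hx
    rw [h] at this
    norm_num at this
  rw [← heq, Finset.mem_filter] at hm
  exact hm.2

theorem pow_eight_of_mem {A : Subgroup Y} (hA : Nat.card A = 8) {x : Y} (hx : x ∈ A) :
    x ^ 8 = 1 := by
  rw [← hA]
  exact congrArg Subtype.val (pow_card_eq_one' (x := (⟨x, hx⟩ : A)))

/-- The dichotomy. -/
theorem simple_or_normal [Fact (Nat.Prime 7)] (hY : Nat.card Y = 56 ∨ Nat.card Y = 168)
    (hn : Nat.card (Sylow 7 Y) = 8)
    (hC : ∀ Q : Sylow 7 Y, ∀ x ∈ Subgroup.centralizer ((Q : Subgroup Y) : Set Y), x ^ 7 = 1) :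
    (∃ A : Subgroup Y, A.Normal ∧ Nat.card A = 8) ∨ (IsSimpleGroup Y ∧ Nat.card Y = 168) := by
  classical
  haveI : Fact (Nat.Prime 2) := ⟨Nat.prime_two⟩
  rcases hY with hY | hY
  · left
    obtain ⟨A, hA, hmem⟩ := exists_two_core hY hn
    exact ⟨A, ⟨fun x hx g => hmem _ (by rw [conj_pow, pow_eight_of_mem hA hx]; group)⟩, hA⟩
  by_contra hcon
  push Not at hcon
  obtain ⟨hnoA, hns⟩ := hcon
  haveI : Nontrivial Y := Finite.one_lt_card_iff_nontrivial.mp (by rw [hY]; norm_num)
  obtain ⟨M, hM, hMb, hMt⟩ : ∃ M : Subgroup Y, M.Normal ∧ M ≠ ⊥ ∧ M ≠ ⊤ := by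
    by_contra hc
    push Not at hc
    exact hns ⟨fun M hM => or_iff_not_imp_left.mpr (hc M hM)⟩ hY
  have h7 : ∀ Q : Sylow 7 Y, Nat.card (Q : Subgroup Y) = 7 := fun Q => by
    simpa using Sylow.card_sylow_eq Q (a := 1) (m := 24) (by rw [hY]; norm_num) (by norm_num)
  have hMd : Nat.card M ∣ 168 := hY ▸ Subgroup.card_subgroup_dvd_card M
  have hMlt : Nat.card M ≠ 168 := fun h => hMt (Subgroup.eq_top_of_card_eq M (h.trans hY.symm))
  by_cases h7M : 7 ∣ Nat.card M
  · -- all Sylow subgroups of order seven lie in `M`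
    have hle : ∀ Q : Sylow 7 Y, (Q : Subgroup Y) ≤ M := by
      obtain ⟨⟨y, hy⟩, hyo⟩ := exists_prime_orderOf_dvd_card' (G := M) 7 h7M
      rw [Subgroup.orderOf_mk] at hyo
      intro Q
      obtain ⟨R, hR⟩ := (IsPGroup.of_card (n := 1)
        (show Nat.card (Subgroup.zpowers y) = 7 ^ 1 by rw [Nat.card_zpowers, hyo, pow_one])
        ).exists_le_sylow
      have hR' := Subgroup.eq_of_le_of_card_ge hR (by rw [Nat.card_zpowers, hyo, h7])
      obtain ⟨g, rfl⟩ := MulAction.exists_smul_eq Y R Q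
      rw [Sylow.coe_subgroup_smul, ← hR']
      rintro x hx
      rw [Subgroup.mem_pointwise_smul_iff_inv_smul_mem, MulAut.smul_def, ← map_inv,
        MulAut.conj_apply, inv_inv] at hx
      have := hM.conj_mem _ (Subgroup.zpowers_le.mpr hy hx) g
      simpa [mul_assoc] using this
    have hnM : Nat.card (Sylow 7 M) = 8 := by
      rw [← hn]
      refine Nat.card_congr (Equiv.ofBijective (fun Q => ?_) ?_).symm
      · exact Q.subtype (hle Q)
      constructor
      · intro Q R h
        exact Sylow.subtype_injective h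
      · intro R
        obtain ⟨Q, hQ⟩ := R.exists_comap_subtype_eq
        exact ⟨Q, Sylow.ext hQ⟩
    have h56 : Nat.card M = 56 := by
      have h1 := Sylow.card_normalizer_mul (default : Sylow 7 M)
      rw [hnM] at h1
      obtain ⟨k, hk⟩ := (show Nat.Coprime 7 8 by norm_num).mul_dvd_of_dvd_of_dvd h7M
        (Dvd.intro_left _ h1)
      have := Nat.le_of_dvd (by norm_num) hMd
      obtain ⟨l, hl⟩ := hMd
      have hk3 : k ≤ 3 := by omega
      rw [hk] at hl hMlt this ⊢
      have hpos : 0 < Nat.card M := Nat.card_pos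
      interval_cases k <;> omega
    obtain ⟨A, hA, hmem⟩ := exists_two_core h56 hnM
    refine hnoA (A.map M.subtype) ⟨fun x hx g => ?_⟩ ?_
    · obtain ⟨⟨a, haM⟩, ha, rfl⟩ := Subgroup.mem_map.mp hx
      refine Subgroup.mem_map.mpr ⟨⟨g * a * g⁻¹, hM.conj_mem _ haM g⟩, hmem _ (Subtype.ext ?_), rfl⟩
      have h8 : a ^ 8 = 1 := congrArg Subtype.val (pow_eight_of_mem hA ha)
      simp [conj_pow, h8]
    · rw [← hA, Nat.card_congr (A.equivMapOfInjective _ M.subtype_injective).toEquiv]
  -- `M` has order prime to seven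
  have h24 : Nat.card M ∣ 24 :=
    ((Nat.prime_seven.coprime_iff_not_dvd.mpr h7M).symm).dvd_of_dvd_mul_left
      (show Nat.card M ∣ 7 * 24 by simpa using hMd)
  let P : Sylow 7 Y := default
  obtain ⟨⟨x, hxP⟩, hxo⟩ := exists_prime_orderOf_dvd_card' (G := (P : Subgroup Y)) 7 (by rw [h7])
  rw [Subgroup.orderOf_mk] at hxo
  have hPz : Subgroup.zpowers x = (P : Subgroup Y) := Subgroup.eq_of_le_of_card_ge
    (Subgroup.zpowers_le.mpr hxP) (by rw [Nat.card_zpowers, hxo, h7])
  -- no element of order prime to seven commutes with `x`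
  have hcomm : ∀ H : Subgroup Y, x ∈ Subgroup.normalizer (H : Set Y) →
      Nat.card H ∣ 24 → Nat.card H % 7 = 1 := by
    intro H hx hd
    by_contra hmod
    obtain ⟨t, ht, ht1, hct⟩ := Counting.exists_commuting_of_mod (q := 7) H hx hxo
      (by rwa [Nat.ModEq, Nat.one_mod_eq_one.mpr (by norm_num)])
    refine ht1 (orderOf_eq_one_iff.mp ?_)
    have h1 : t ^ 7 = 1 := hC P t (by
      rw [← hPz, Subgroup.mem_centralizer_iff]
      intro y hy
      obtain ⟨i, rfl⟩ := Subgroup.mem_zpowers_iff.mp hy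
      exact (hct.zpow_left i).eq)
    have h2 : orderOf t ∣ 24 := (Subgroup.orderOf_dvd_natCard _ ht).trans hd
    exact Nat.dvd_one.mp ((Nat.dvd_gcd (orderOf_dvd_of_pow_eq_one h1) h2).trans (by norm_num))
  have hMc := hcomm M (by
    rw [Subgroup.normalizer_eq_top_iff.mpr hM]; trivial) h24
  refine hnoA M hM ?_
  have hM1 : Nat.card M ≠ 1 := fun h => hMb (Subgroup.card_eq_one.mp h)
  have hMle := Nat.le_of_dvd (by norm_num) h24
  interval_cases hh : Nat.card M <;> simp_all

/-- The Sylow `2`-subgroups of the simple group of order `168`. -/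
theorem sylow_two_facts [IsSimpleGroup Y] (h : Nat.card Y = 168) [Fact (Nat.Prime 2)]
    (T : Sylow 2 Y) :
    ∃ z0 y : Y, z0 ∈ (T : Subgroup Y) ∧ orderOf z0 = 2 ∧ y ∈ (T : Subgroup Y) ∧
      y ^ 2 = z0 ∧
      (∀ a ∈ (T : Subgroup Y), a * z0 = z0 * a) ∧
      (∀ a ∈ (T : Subgroup Y), (∀ b ∈ (T : Subgroup Y), a * b = b * a) → a = 1 ∨ a = z0) ∧
      Nat.card {a : Y // a ∈ (T : Subgroup Y) ∧ a ^ 2 = 1} = 6 := by
  classical
  haveI := Fintype.ofFinite Y
  obtain ⟨z0, hz0, hzo, hzC⟩ := Order168.exists_central_involution h T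
  obtain ⟨y, hy, hyo⟩ := Order168.exists_order4 h T
  obtain ⟨a, ha, hao, hay⟩ := Order168.exists_noncentral_involution h T hy hyo
  have hcT : ∀ b ∈ (T : Subgroup Y), b * z0 = z0 * b := fun b hb =>
    Subgroup.mem_centralizer_singleton_iff.mp (hzC.symm ▸ hb)
  have hT8 := Order168.card_of_sylow2 h T
  -- every element is `y ^ i` or `a * y ^ i`
  let f : Fin 2 × Fin 4 → (T : Subgroup Y) := fun ij =>
    ⟨a ^ (ij.1 : ℕ) * y ^ (ij.2 : ℕ), mul_mem (pow_mem ha _) (pow_mem hy _)⟩
  have hfi : Function.Injective f := by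
    rintro ⟨i, j⟩ ⟨i', j'⟩ he
    have he' : a ^ (i : ℕ) * y ^ (j : ℕ) = a ^ (i' : ℕ) * y ^ (j' : ℕ) := congrArg Subtype.val he
    have hnot : ∀ n : ℤ, a ≠ y ^ n := fun n hn => hay (hn ▸ Subgroup.zpow_mem_zpowers y n)
    have hii : i = i' := by
      fin_cases i <;> fin_cases i' <;> first | rfl | skip
      · exfalso
        simp only [Fin.val_zero, Fin.val_one, pow_zero, one_mul, pow_one] at he'
        exact hnot ((j : ℤ) - (j' : ℕ)) (by rw [zpow_sub, zpow_natCast, zpow_natCast, he']; group)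
      · exfalso
        simp only [Fin.val_zero, Fin.val_one, pow_zero, one_mul, pow_one] at he'
        exact hnot ((j' : ℤ) - (j : ℕ)) (by rw [zpow_sub, zpow_natCast, zpow_natCast, ← he']; group)
    subst hii
    refine Prod.ext rfl (Fin.ext ?_)
    exact pow_injOn_Iio_orderOf (by simp [hyo, j.2]) (by simp [hyo, j'.2]) (mul_left_cancel he')
  have hfs : Function.Surjective f := ((Fintype.bijective_iff_injective_and_card f).mpr
    ⟨hfi, by rw [Fintype.card_prod, Fintype.card_fin, Fintype.card_fin, ← Nat.card_eq_fintype_card,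
      hT8]⟩).2
  have ha2 : a * a = 1 := by rw [← pow_two, ← hao, pow_orderOf_eq_one]
  have hy4 : y ^ 4 = 1 := by rw [← hyo, pow_orderOf_eq_one]
  have hinv : a * y * a = y⁻¹ := by
    obtain ⟨⟨i, j⟩, hij⟩ := hfs ⟨a * y * a, mul_mem (mul_mem ha hy) ha⟩
    have hij' : a ^ (i : ℕ) * y ^ (j : ℕ) = a * y * a := congrArg Subtype.val hij
    have hord : orderOf (a * y * a) = 4 := by
      have := MulEquiv.orderOf_eq (MulAut.conj a) y
      rw [MulAut.conj_apply, inv_eq_of_mul_eq_one_right ha2] at this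
      rw [this, hyo]
    fin_cases i
    · simp only [Fin.val_zero, pow_zero, one_mul] at hij'
      rw [← hij'] at hord
      fin_cases j <;> simp only [Fin.mk_one, Fin.isValue, Fin.val_one, Fin.val_two,
        Fin.reduceFinMk, Fin.val_zero] at hord hij'
      · rw [pow_zero, orderOf_one] at hord; omega
      · exfalso
        -- otherwise the group is commutative
        rw [pow_one] at hij'
        have hcm : Commute a y := by
          show a * y = y * a
          calc a * y = a * y * a * a := by rw [mul_assoc (a * y), ha2, mul_one]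
            _ = y * a := by rw [← hij']
        refine Order168.sylow2_not_comm h T fun b hb c hc => ?_
        obtain ⟨⟨i1, j1⟩, h1⟩ := hfs ⟨b, hb⟩
        obtain ⟨⟨i2, j2⟩, h2⟩ := hfs ⟨c, hc⟩
        rw [show b = a ^ (i1 : ℕ) * y ^ (j1 : ℕ) from (congrArg Subtype.val h1).symm,
          show c = a ^ (i2 : ℕ) * y ^ (j2 : ℕ) from (congrArg Subtype.val h2).symm]
        exact ((((Commute.refl a).pow_pow _ _).mul_right (hcm.pow_pow _ _)).mul_left
          ((hcm.symm.pow_pow _ _).mul_right ((Commute.refl y).pow_pow _ _))).eq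
      · rw [orderOf_pow, hyo] at hord; norm_num at hord
      · rw [← hij']
        exact eq_inv_of_mul_eq_one_left (by rw [← pow_succ, hy4])
    · exfalso
      simp only [Fin.mk_one, Fin.val_one, pow_one] at hij'
      apply hay
      rw [mul_assoc] at hij'
      have := mul_left_cancel hij'
      exact Subgroup.mem_zpowers_iff.mpr ⟨(j : ℤ) - 1, by
        rw [zpow_sub, zpow_natCast, zpow_one, this]
        have hc : y⁻¹ * (y * a) = a := by group
        calc y * a * y⁻¹ = y * a * y⁻¹ := rfl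
          _ = a := by
            have hcomm : (y * a) * y⁻¹ = y⁻¹ * (y * a) := by
              rw [← this]; exact ((Commute.refl y).pow_left _).inv_right.eq
            rw [hcomm, hc]⟩
  have hy2T : ∀ b ∈ (T : Subgroup Y), b * y ^ 2 = y ^ 2 * b := by
    intro b hb
    obtain ⟨⟨i, j⟩, hij⟩ := hfs ⟨b, hb⟩
    rw [show b = a ^ (i : ℕ) * y ^ (j : ℕ) from (congrArg Subtype.val hij).symm]
    have hc : Commute a (y ^ 2) := by
      show a * y ^ 2 = y ^ 2 * a
      calc a * y ^ 2 = a * y * (a * a) * y * (a * a) := by rw [ha2, pow_two]; group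
        _ = (a * y * a) * (a * y * a) * a := by group
        _ = (y⁻¹ * y⁻¹) * a := by rw [hinv]
        _ = y ^ 2 * a := by
          congr 1
          calc y⁻¹ * y⁻¹ = y⁻¹ * y⁻¹ * y ^ 4 := by rw [hy4, mul_one]
            _ = y ^ 2 := by group
    exact ((hc.pow_left _).mul_left (((Commute.refl y).pow_pow _ 2))).eq
  have hcenter : ∀ c ∈ (T : Subgroup Y), (∀ b ∈ (T : Subgroup Y), c * b = b * c) →
      c = 1 ∨ c = y ^ 2 := by
    intro c hc hcb
    obtain ⟨⟨i, j⟩, hij⟩ := hfs ⟨c, hc⟩
    have hc' : c = a ^ (i : ℕ) * y ^ (j : ℕ) := (congrArg Subtype.val hij).symm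
    have h1 := hcb a ha
    have h2 := hcb y hy
    rw [hc'] at h1 h2 ⊢
    have hne : y * y ≠ 1 := fun e => by
      have := orderOf_dvd_of_pow_eq_one (show y ^ 2 = 1 by rw [pow_two, e])
      rw [hyo] at this; norm_num at this
    have hay' : a * y = y⁻¹ * a := by rw [← hinv, mul_assoc _ a a, ha2, mul_one]
    fin_cases i
    · fin_cases j
      · left; simp
      · exfalso
        simp only [Fin.mk_one, Fin.val_one, Fin.val_zero, pow_zero, one_mul, pow_one] at h1
        rw [hay'] at h1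
        exact hne (mul_eq_one_iff_eq_inv.mpr (mul_right_cancel h1))
      · right; simp
      · exfalso
        simp only [Fin.reduceFinMk, Fin.val_zero, pow_zero, one_mul] at h1
        have h3 : y ^ 3 = y⁻¹ := eq_inv_of_mul_eq_one_left (by rw [← pow_succ, hy4])
        rw [h3] at h1
        have : y⁻¹ * a = y * a := by
          rw [h1]
          calc a * y⁻¹ = a * (a * y * a) := by rw [hinv]
            _ = y * a := by rw [← mul_assoc, ← mul_assoc, ha2, one_mul]
        exact hne (mul_eq_one_iff_eq_inv.mpr (mul_right_cancel this).symm)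
    · exfalso
      simp only [Fin.mk_one, Fin.val_one, pow_one] at h2
      rw [mul_assoc, ← pow_succ, pow_succ', ← mul_assoc, hay', ← mul_assoc] at h2
      exact hne (mul_eq_one_iff_eq_inv.mpr (mul_right_cancel (mul_right_cancel h2)).symm)
  have hz2 : y ^ 2 = z0 := by
    rcases hcenter z0 hz0 (fun b hb => (hcT b hb).symm) with h1 | h1
    · rw [h1, orderOf_one] at hzo; omega
    · exact h1.symm
  refine ⟨z0, y, hz0, hzo, hy, hz2, hcT, fun c hc hcb => hz2 ▸ hcenter c hc hcb, ?_⟩
  have hsq : ∀ ij : Fin 2 × Fin 4, ((f ij : Y)) ^ 2 = 1 ↔ (ij.1 = 1 ∨ ij.2 = 0 ∨ ij.2 = 2) := by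
    rintro ⟨i, j⟩
    fin_cases i
    · simp only [f, Fin.val_zero, pow_zero, one_mul, ← pow_mul]
      rw [← orderOf_dvd_iff_pow_eq_one, hyo]
      fin_cases j <;> simp
    · simp only [f, Fin.mk_one, Fin.val_one, pow_one, true_or, iff_true]
      have hn : ∀ n : ℕ, a * y ^ n * a = (y ^ n)⁻¹ := fun n => by
        have h' := conj_pow (i := n) (a := a) (b := y)
        rw [inv_eq_of_mul_eq_one_right ha2, hinv, inv_pow] at h'
        exact h'.symm
      calc (a * y ^ (j : ℕ)) ^ 2 = a * y ^ (j : ℕ) * a * y ^ (j : ℕ) := by rw [pow_two]; group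
        _ = 1 := by rw [hn, inv_mul_cancel]
  rw [Nat.card_congr (β := {ij : Fin 2 × Fin 4 // ij.1 = 1 ∨ ij.2 = 0 ∨ ij.2 = 2})
    (Equiv.ofBijective (fun ij => ⟨(f ij.1 : Y), (f ij.1).2, (hsq ij.1).mpr ij.2⟩) ⟨?_, ?_⟩).symm,
    Nat.card_eq_fintype_card]
  · rfl
  · intro p q hpq
    have hv := congrArg Subtype.val hpq
    simp only at hv
    exact Subtype.ext (hfi (Subtype.ext hv))
  · rintro ⟨c, hc, hc2⟩
    obtain ⟨ij, hij⟩ := hfs ⟨c, hc⟩
    have hv : (f ij : Y) = c := congrArg Subtype.val hij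
    exact ⟨⟨ij, (hsq ij).mp (hv ▸ hc2)⟩, Subtype.ext hv⟩

end Cfsg.Agent.Lib.RecogM22.Small168
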