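import Cfsg.Agent.Lib.RecogM22.Local7Cent
import Cfsg.Agent.Lib.RecogM22.Perm8
import Cfsg.Agent.Lib.RecogM22.Small168

/-!
The eight Sylow `7`-subgroups of the centraliser of an involution of `C(P)`, for a group of order
`443520` with `n₇ ∈ {176, 2640}`.
-/

set_option autoImplicit false
set_option linter.style.haveILetI false
set_option linter.unusedSectionVars false

namespace Cfsg.Agent.Lib.RecogM22.Seven

open Cfsg.Agent.Lib.Classif Cfsg.Agent.Lib.SmallGroups

universe u

/-- An involution `u` of `C(P)` with a Sylow `2`-subgroup `S1` of its centraliser and an element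
normalising `S1` outside it. -/
structure Eight (G : Type u) [Group G] [Finite G] [IsSimpleGroup G] [Fact (Nat.Prime 7)] where
  card : Nat.card G = 443520
  P : Sylow 7 G
  hP : Nat.card (P : Subgroup G) = 7
  e : ℕ
  V : ℕ
  heV : (e = 3 ∧ (V = 8 ∨ V = 120)) ∨ (e = 6 ∧ (V = 4 ∨ V = 60))
  hrel : (Subgroup.centralizer ((P : Subgroup G) : Set G)).relIndex
    (Subgroup.normalizer ((P : Subgroup G) : Set G)) = e
  hC : Nat.card (Subgroup.centralizer ((P : Subgroup G) : Set G)) = 7 * V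
  u : G
  hu : orderOf u = 2
  huC : u ∈ Subgroup.centralizer ((P : Subgroup G) : Set G)
  S1 : Subgroup G
  hS1 : Nat.card S1 = 64
  hS1u : S1 ≤ Subgroup.centralizer ({u} : Set G)
  s : G
  hs : s ∉ S1
  hss : s * s ∈ S1
  hsN : ∀ a ∈ S1, s * a * s⁻¹ ∈ S1
  hk : Nat.card (Subgroup.centralizer ({u} : Set G)) =
    8 * Nat.card (Subgroup.normalizer ((P : Subgroup G) : Set G) ⊓
      Subgroup.centralizer ({u} : Set G) : Subgroup G)
  hc3 : e = 3 → Nat.card (Subgroup.centralizer ({u} : Set G)) = 448 ∨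
    Nat.card (Subgroup.centralizer ({u} : Set G)) = 1344

namespace Eight

variable {G : Type u} [Group G] [Finite G] [IsSimpleGroup G] [Fact (Nat.Prime 7)]
  [Fact (Nat.Prime 11)] (B : Eight G)

/-- The centraliser of the Sylow subgroup. -/
def Cp : Subgroup G := Subgroup.centralizer ((B.P : Subgroup G) : Set G)

/-- Its normaliser. -/
def Np : Subgroup G := Subgroup.normalizer ((B.P : Subgroup G) : Set G)

/-- The centraliser of the involution. -/
def Cu : Subgroup G := Subgroup.centralizer ({B.u} : Set G)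

/-- The order of a Sylow `2`-subgroup of `C(P)`. -/
def τ : ℕ := if B.e = 3 then 8 else 4

theorem card_Cp : Nat.card B.Cp = 7 * B.V := B.hC

theorem card_Np : Nat.card B.Np = 7 * B.V * B.e := by
  rw [← B.hC, ← B.hrel]
  exact (Sylow.card_centralizer_mul_relIndex (B.P : Subgroup G)).symm

theorem card_Np_cases : Nat.card B.Np = 168 ∨ Nat.card B.Np = 2520 := by
  rw [B.card_Np]
  rcases B.heV with ⟨he, hV | hV⟩ | ⟨he, hV | hV⟩ <;> rw [he, hV] <;> norm_num

theorem Np_dvd : Nat.card B.Np ∣ 2520 := by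
  rcases B.card_Np_cases with h | h <;> rw [h]
  norm_num

theorem Cp_le : B.Cp ≤ B.Np := Sylow.centralizer_le_normalizer _

theorem cent (t : G) (ht : orderOf t = 2) (htC : t ∈ B.Cp) :
    ¬ 128 ∣ Nat.card (Subgroup.centralizer ({t} : Set G)) :=
  (cent_facts B.card B.hP (e := B.e) (V := B.V)
    (by rcases B.heV with ⟨he, -⟩ | hh
        · exact Or.inl he
        · exact Or.inr hh)
    B.hrel B.hC (by rcases B.heV with ⟨-, hV | hV⟩ | ⟨-, hV | hV⟩ <;> rw [hV] <;> norm_num)
    B.Np_dvd ht htC).1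

theorem two_dvd {H : Subgroup G} (h : IsPGroup 2 H) : ∃ k, Nat.card H = 2 ^ k :=
  haveI : Fact (Nat.Prime 2) := ⟨Nat.prime_two⟩
  h.exists_card_eq

theorem le_eight {H : Subgroup G} (h : IsPGroup 2 H) (hle : H ≤ B.Np) : Nat.card H ∣ 8 := by
  obtain ⟨k, hk⟩ := two_dvd h
  have hd := (hk ▸ Subgroup.card_dvd_of_le hle : 2 ^ k ∣ Nat.card B.Np).trans B.Np_dvd
  rw [hk, show (8 : ℕ) = 2 ^ 3 from rfl]
  refine pow_dvd_pow 2 ?_
  by_contra hcon
  have := (pow_dvd_pow 2 (show 4 ≤ k by omega)).trans hd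
  norm_num at this

theorem le_τ {H : Subgroup G} (h : IsPGroup 2 H) (hle : H ≤ B.Cp) : Nat.card H ∣ B.τ := by
  obtain ⟨k, hk⟩ := two_dvd h
  have hd : 2 ^ k ∣ Nat.card B.Cp := hk ▸ Subgroup.card_dvd_of_le hle
  rw [B.card_Cp] at hd
  have hd' := (Nat.Coprime.pow_left k (show Nat.Coprime 2 7 by norm_num)).dvd_of_dvd_mul_left hd
  have hb : ∀ n, ¬ 2 ^ n ∣ B.V → k < n := fun n hn => by
    by_contra hcon
    exact hn ((pow_dvd_pow 2 (Nat.le_of_not_lt hcon)).trans hd')
  rw [hk, τ]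
  rcases B.heV with ⟨he, hV⟩ | ⟨he, hV⟩
  · rw [if_pos he, show (8 : ℕ) = 2 ^ 3 from rfl]
    have := hb 4 (by rcases hV with hV | hV <;> rw [hV] <;> norm_num)
    exact pow_dvd_pow 2 (by omega)
  · rw [if_neg (by omega), show (4 : ℕ) = 2 ^ 2 from rfl]
    have := hb 3 (by rcases hV with hV | hV <;> rw [hV] <;> norm_num)
    exact pow_dvd_pow 2 (by omega)

/-- The Sylow `7`-subgroups inside `C(u)`. -/
abbrev Pts : Type u := {Q : Sylow 7 G // (Q : Subgroup G) ≤ B.Cu}

theorem P_le : (B.P : Subgroup G) ≤ B.Cu := fun y hy =>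
  Subgroup.mem_centralizer_singleton_iff.mpr (Subgroup.mem_centralizer_iff.mp B.huC y hy)

/-- The base point. -/
def pt : B.Pts := ⟨B.P, B.P_le⟩

include B in
theorem card_sylow (Q : Sylow 7 G) : Nat.card (Q : Subgroup G) = 7 :=
  (Nat.card_congr (Q.equiv B.P).toEquiv).trans B.hP

theorem conj_le (a : G) (ha : a ∈ B.Cu) (Q : Sylow 7 G) (hQ : (Q : Subgroup G) ≤ B.Cu) :
    ((a • Q : Sylow 7 G) : Subgroup G) ≤ B.Cu := by
  intro x hx
  rw [Sylow.coe_subgroup_smul, Subgroup.mem_pointwise_smul_iff_inv_smul_mem, MulAut.smul_def,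
    ← map_inv, MulAut.conj_apply, inv_inv] at hx
  have := mul_mem (mul_mem ha (hQ hx)) (inv_mem ha)
  simpa [mul_assoc] using this

/-- The action of `C(u)` on them. -/
def perm : B.Cu →* Equiv.Perm B.Pts where
  toFun a :=
    { toFun := fun Q => ⟨(a : G) • Q.1, B.conj_le a a.2 Q.1 Q.2⟩
      invFun := fun Q => ⟨(a : G)⁻¹ • Q.1, B.conj_le _ (inv_mem a.2) Q.1 Q.2⟩
      left_inv := fun Q => Subtype.ext (inv_smul_smul _ _)
      right_inv := fun Q => Subtype.ext (smul_inv_smul _ _) }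
  map_one' := Equiv.ext fun Q => Subtype.ext (one_smul _ _)
  map_mul' a b := Equiv.ext fun Q => Subtype.ext (mul_smul (a : G) b Q.1)

theorem perm_apply (a : B.Cu) (Q : B.Pts) : (B.perm a Q).1 = (a : G) • Q.1 := rfl

theorem card_pts : Nat.card B.Pts = 8 := by
  have h := SmallOrderTools.card_sylow_subgroup_mul B.P B.Cu B.P_le
  have hk : Nat.card B.Cu = 8 * Nat.card (B.Np ⊓ B.Cu : Subgroup G) := B.hk
  rw [hk] at h
  rw [← Nat.eq_of_mul_eq_mul_right Nat.card_pos h]
  refine Nat.card_congr (Equiv.ofBijective (fun Q => Q.1.subtype Q.2) ⟨?_, ?_⟩)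
  · intro Q R hQR
    exact Subtype.ext (Sylow.subtype_injective hQR)
  · intro R
    obtain ⟨Q, hQ⟩ := R.exists_comap_subtype_eq
    have hR : Nat.card ((R : Subgroup B.Cu).map B.Cu.subtype) = 7 := by
      rw [← Nat.card_congr ((R : Subgroup B.Cu).equivMapOfInjective _
        B.Cu.subtype_injective).toEquiv]
      exact ((Nat.card_congr (R.equiv (B.P.subtype B.P_le)).toEquiv).trans
        (Nat.card_congr (Subgroup.subgroupOfEquivOfLe B.P_le).toEquiv)).trans B.hP
    have hle : (Q : Subgroup G) ≤ B.Cu := by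
      have h1 : (R : Subgroup B.Cu).map B.Cu.subtype ≤ Q := by
        rw [← hQ]; exact Subgroup.map_comap_le _ _
      rw [← Subgroup.eq_of_le_of_card_ge h1 (by rw [hR, B.card_sylow Q])]
      exact Subgroup.map_subtype_le _
    exact ⟨⟨Q, hle⟩, Sylow.ext hQ⟩

include B in
theorem exists_gen (Q : Sylow 7 G) : ∃ y ∈ (Q : Subgroup G), orderOf y = 7 ∧
    Subgroup.zpowers y = (Q : Subgroup G) := by
  obtain ⟨⟨y, hy⟩, hyo⟩ := exists_prime_orderOf_dvd_card' (G := (Q : Subgroup G)) 7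
    (by rw [B.card_sylow Q])
  rw [Subgroup.orderOf_mk] at hyo
  exact ⟨y, hy, hyo, Subgroup.eq_of_le_of_card_ge (Subgroup.zpowers_le.mpr hy)
    (by rw [Nat.card_zpowers, hyo, B.card_sylow Q])⟩

theorem smul_eq_self {Q : Sylow 7 G} {y : G} (hy : y ∈ (Q : Subgroup G)) : y • Q = Q :=
  Sylow.smul_eq_iff_mem_normalizer.mpr (Subgroup.le_normalizer hy)

include B in
theorem fixed_eq {Q R : Sylow 7 G} {y : G} (hy : y ∈ (Q : Subgroup G)) (hy1 : y ≠ 1)
    (h : y • R = R) : R = Q :=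
  SmallOrderTools.eq_of_smul_eq_of_prime Q R (B.card_sylow Q) hy hy1 h

/-- A point moves the other points transitively. -/
theorem exists_move (Q R R' : B.Pts) (hR : R ≠ Q) (hR' : R' ≠ Q) :
    ∃ y : B.Cu, (y : G) ∈ (Q.1 : Subgroup G) ∧ B.perm y R = R' := by
  classical
  haveI := Fintype.ofFinite B.Pts
  obtain ⟨g, hg, hgo, -⟩ := B.exists_gen Q.1
  have hg1 : g ≠ 1 := fun h => by rw [h, orderOf_one] at hgo; norm_num at hgo
  have hgC : g ∈ B.Cu := Q.2 hg
  -- the seven images of `R` are the points other than `Q`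
  set g' : B.Cu := ⟨g, hgC⟩ with hg'
  let f : Fin 7 → {S : B.Pts // S ≠ Q} := fun i => ⟨B.perm (g' ^ (i : ℕ)) R, fun hS => hR (by
    apply (B.perm (g' ^ (i : ℕ))).injective
    rw [hS]
    exact (Subtype.ext (smul_eq_self (pow_mem hg _))).symm)⟩
  have hfinj : Function.Injective f := by
    intro i j hij
    have h' : (g ^ (i : ℕ)) • R.1 = (g ^ (j : ℕ)) • R.1 :=
      congrArg (fun S : {S : B.Pts // S ≠ Q} => S.1.1) hij
    have key : ∀ m n : ℕ, n ≤ m → m < 7 → (g ^ m) • R.1 = (g ^ n) • R.1 → m = n := by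
      intro m n hle hlt he
      by_contra hne
      refine hR (Subtype.ext (B.fixed_eq (Q := Q.1) (pow_mem hg (m - n)) ?_ ?_))
      · intro h1
        have := orderOf_dvd_of_pow_eq_one h1
        rw [hgo] at this
        have := Nat.le_of_dvd (by omega) this
        omega
      · have : (g ^ n) • ((g ^ (m - n)) • R.1) = (g ^ n) • R.1 := by
          rw [← mul_smul, ← pow_add, show n + (m - n) = m by omega, he]
        exact MulAction.injective _ this
    rcases le_total (i : ℕ) j with h | h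
    · exact Fin.ext (key j i h j.2 h'.symm).symm
    · exact Fin.ext (key i j h i.2 h')
  have hfsurj : Function.Surjective f := by
    refine ((Fintype.bijective_iff_injective_and_card f).mpr ⟨hfinj, ?_⟩).2
    rw [Fintype.card_fin, Fintype.card_subtype_compl, Fintype.card_subtype_eq,
      ← Nat.card_eq_fintype_card, B.card_pts]
  obtain ⟨i, hi⟩ := hfsurj ⟨R', hR'⟩
  exact ⟨g' ^ (i : ℕ), by simpa using pow_mem hg _, congrArg Subtype.val hi⟩

/-- An element centralising a point acts on all points as an element of that point. -/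
theorem exists_perm_eq (Q : B.Pts) {a : B.Cu}
    (ha : (a : G) ∈ Subgroup.centralizer ((Q.1 : Subgroup G) : Set G)) :
    ∃ y : B.Cu, (y : G) ∈ (Q.1 : Subgroup G) ∧ B.perm a = B.perm y := by
  obtain ⟨R, hR⟩ : ∃ R : B.Pts, R ≠ Q := by
    haveI : Nontrivial B.Pts := Finite.one_lt_card_iff_nontrivial.mp (by rw [B.card_pts]; norm_num)
    exact exists_ne Q
  have haQ : B.perm a Q = Q := Subtype.ext (Sylow.smul_eq_iff_mem_normalizer.mpr
    (Sylow.centralizer_le_normalizer _ ha))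
  have hfix : ∀ {w : B.Cu}, (w : G) ∈ (Q.1 : Subgroup G) → B.perm w Q = Q := fun hw =>
    Subtype.ext (smul_eq_self hw)
  obtain ⟨y, hy, hyR⟩ := B.exists_move Q R (B.perm a R) hR
    fun h => hR ((B.perm a).injective (h.trans haQ.symm))
  refine ⟨y, hy, Equiv.ext fun S => ?_⟩
  by_cases hS : S = Q
  · subst hS
    rw [haQ, hfix hy]
  obtain ⟨w, hw, hwS⟩ := B.exists_move Q R S hR hS
  have hcomm : a * w = w * a := Subtype.ext (Subgroup.mem_centralizer_iff.mp ha w hw).symm
  have hcomm' : w * y = y * w := by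
    haveI := isCyclic_of_prime_card (B.card_sylow Q.1)
    have h0 := congrArg Subtype.val
      ((IsCyclic.commGroup (α := (Q.1 : Subgroup G))).mul_comm ⟨(w : G), hw⟩ ⟨(y : G), hy⟩)
    exact Subtype.ext h0
  rw [← hwS, ← Equiv.Perm.mul_apply, ← map_mul, hcomm, map_mul, Equiv.Perm.mul_apply, ← hyR,
    ← Equiv.Perm.mul_apply, ← map_mul, hcomm', map_mul, Equiv.Perm.mul_apply]

/-- A nontrivial element of a point moves the other points. -/
theorem perm_eq_one_of_mem {Q : B.Pts} {y : B.Cu} (hy : (y : G) ∈ (Q.1 : Subgroup G))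
    (h : B.perm y = 1) : y = 1 := by
  by_contra hne
  haveI : Nontrivial B.Pts := Finite.one_lt_card_iff_nontrivial.mp (by rw [B.card_pts]; norm_num)
  obtain ⟨R, hR⟩ := exists_ne Q
  refine hR (Subtype.ext (B.fixed_eq hy (fun h1 => hne (Subtype.ext h1)) ?_))
  exact congrArg Subtype.val (Equiv.Perm.congr_fun h R)

/-- A `2`-element centralising a point fixes every point. -/
theorem perm_eq_one_of_centralizes (Q : B.Pts) {a : B.Cu} {k : ℕ} (hk : a ^ 2 ^ k = 1)
    (ha : (a : G) ∈ Subgroup.centralizer ((Q.1 : Subgroup G) : Set G)) : B.perm a = 1 := by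
  obtain ⟨y, hy, he⟩ := B.exists_perm_eq Q ha
  have h7 : (B.perm a) ^ 7 = 1 := by
    rw [he, ← map_pow, show y ^ 7 = 1 from Subtype.ext (by
      rw [SubmonoidClass.coe_pow, OneMemClass.coe_one]
      exact FixedSylow.pow_eq_one Q.1 (B.card_sylow Q.1) hy), map_one]
  have h2 : (B.perm a) ^ 2 ^ k = 1 := by rw [← map_pow, hk, map_one]
  have hco : Nat.Coprime (2 ^ k) 7 := Nat.Coprime.pow_left k (by norm_num)
  have := pow_gcd_eq_one.mpr ⟨h2, h7⟩
  rwa [hco.gcd_eq_one, pow_one] at this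

/-- An element fixing every point centralises every point. -/
theorem commute_of_perm_eq_one {a : B.Cu} (ha : B.perm a = 1) (Q : B.Pts) {q : G}
    (hq : q ∈ (Q.1 : Subgroup G)) : (a : G) * q = q * a := by
  set q' : B.Cu := ⟨q, Q.2 hq⟩
  have hN : (a : G) ∈ Subgroup.normalizer ((Q.1 : Subgroup G) : Set G) :=
    Sylow.smul_eq_iff_mem_normalizer.mp (congrArg Subtype.val (Equiv.Perm.congr_fun ha Q))
  have hmem : ((a * q' * a⁻¹ * q'⁻¹ : B.Cu) : G) ∈ (Q.1 : Subgroup G) :=
    mul_mem ((Subgroup.mem_normalizer_iff.mp hN q).mp hq) (inv_mem hq)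
  have h1 := B.perm_eq_one_of_mem hmem (by simp [ha])
  have h2 : (a : G) * q * (a : G)⁻¹ * q⁻¹ = 1 := congrArg Subtype.val h1
  exact mul_inv_eq_iff_eq_mul.mp (mul_inv_eq_one.mp h2)

theorem mem_Cp_of_perm_eq_one {a : B.Cu} (ha : B.perm a = 1) : (a : G) ∈ B.Cp :=
  Subgroup.mem_centralizer_iff.mpr fun y hy => (B.commute_of_perm_eq_one ha B.pt hy).symm

/-- `S1`. -/
def T : Subgroup G := B.S1 ⊓ B.Cp

/-- `S1 ∩ N(P)`. -/
def S0 : Subgroup G := B.S1 ⊓ B.Np

theorem isPGroup_S1 : IsPGroup 2 B.S1 :=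
  IsPGroup.of_card (n := 6) (by rw [B.hS1]; rfl)

theorem pow_S1 {a : G} (ha : a ∈ B.S1) : a ^ 2 ^ 6 = 1 := by
  have := congrArg Subtype.val (pow_card_eq_one' (x := (⟨a, ha⟩ : B.S1)))
  rwa [B.hS1] at this

theorem eight_dvd_stab (Q : B.Pts) :
    8 ∣ Nat.card (B.S1 ⊓ Subgroup.normalizer ((Q.1 : Subgroup G) : Set G) : Subgroup G) := by
  obtain ⟨k, hk⟩ := two_dvd (B.isPGroup_S1.to_le (inf_le_left (b :=
    Subgroup.normalizer ((Q.1 : Subgroup G) : Set G))))
  rw [hk, show (8 : ℕ) = 2 ^ 3 from rfl]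
  refine pow_dvd_pow 2 ?_
  by_contra hcon
  -- at most eight cosets
  have hinj : Nat.card (B.S1 ⧸ (B.S1 ⊓ Subgroup.normalizer
      ((Q.1 : Subgroup G) : Set G)).subgroupOf B.S1) ≤ Nat.card B.Pts := by
    refine Nat.card_le_card_of_injective (Quotient.lift (fun a : B.S1 =>
      B.perm ⟨a, B.hS1u a.2⟩ Q) fun a b hab => ?_) ?_
    · replace hab := Subgroup.mem_subgroupOf.mp (QuotientGroup.leftRel_apply.mp hab)
      have := Sylow.smul_eq_iff_mem_normalizer.mpr hab.2
      refine Subtype.ext ?_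
      rw [perm_apply, perm_apply]
      simp only [Subgroup.coe_mul, Subgroup.coe_inv, mul_smul, inv_smul_eq_iff] at this
      exact this.symm
    · intro x y
      induction x using Quotient.inductionOn' with | h a => ?_
      induction y using Quotient.inductionOn' with | h b => ?_
      intro hab
      apply Quotient.sound'
      rw [QuotientGroup.leftRel_apply, Subgroup.mem_subgroupOf]
      have h' : (a : G) • Q.1 = (b : G) • Q.1 := congrArg Subtype.val hab
      refine ⟨(a⁻¹ * b).2, Sylow.smul_eq_iff_mem_normalizer.mp ?_⟩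
      simp only [Subgroup.coe_mul, Subgroup.coe_inv, mul_smul, inv_smul_eq_iff]
      exact h'.symm
  have h := Subgroup.card_eq_card_quotient_mul_card_subgroup
    ((B.S1 ⊓ Subgroup.normalizer ((Q.1 : Subgroup G) : Set G)).subgroupOf B.S1)
  rw [Nat.card_congr (Subgroup.subgroupOfEquivOfLe inf_le_left).toEquiv, B.hS1, hk] at h
  rw [B.card_pts] at hinj
  have hk2 : 2 ^ k ≤ 4 := (Nat.pow_le_pow_right (by norm_num) (show k ≤ 2 by omega)).trans
    (by norm_num)
  nlinarith

theorem card_S0 : Nat.card B.S0 = 8 :=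
  Nat.dvd_antisymm (B.le_eight (B.isPGroup_S1.to_le inf_le_left) inf_le_right)
    (B.eight_dvd_stab B.pt)

/-- The powers of an element of `S0` lie in `T` from the index on. -/
theorem pow_e_mem {a : G} (ha : a ∈ B.S0) : a ^ B.e ∈ B.T := by
  refine ⟨pow_mem ha.1 _, ?_⟩
  haveI : (B.Cp.subgroupOf B.Np).Normal := Subgroup.normal_subgroupOf_centralizer_normalizer _
  have := Subgroup.pow_index_mem (B.Cp.subgroupOf B.Np) ⟨a, ha.2⟩
  rw [← Subgroup.relIndex, show B.Cp.relIndex B.Np = B.e from B.hrel,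
    Subgroup.mem_subgroupOf] at this
  simpa using this

theorem e_cases : B.e = 3 ∨ B.e = 6 := by
  rcases B.heV with ⟨h, -⟩ | ⟨h, -⟩ <;> simp [h]

theorem card_T : Nat.card B.T = B.τ := by
  refine Nat.dvd_antisymm (B.le_τ (B.isPGroup_S1.to_le inf_le_left) inf_le_right) ?_
  have hTS : B.T ≤ B.S0 := le_inf inf_le_left (inf_le_right.trans B.Cp_le)
  haveI : (B.Cp.subgroupOf B.S0).Normal := by
    refine ⟨fun a ha g => ?_⟩
    rw [Subgroup.mem_subgroupOf] at ha ⊢
    haveI : (B.Cp.subgroupOf B.Np).Normal :=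
      Subgroup.normal_subgroupOf_centralizer_normalizer _
    have := Subgroup.Normal.conj_mem (inferInstance : (B.Cp.subgroupOf B.Np).Normal)
      ⟨a, a.2.2⟩ (Subgroup.mem_subgroupOf.mpr ha) ⟨g, g.2.2⟩
    simpa [Subgroup.mem_subgroupOf] using this
  have hTeq : B.T.subgroupOf B.S0 = B.Cp.subgroupOf B.S0 := by
    ext ⟨a, ha⟩
    simp only [Subgroup.mem_subgroupOf]
    exact ⟨fun h => h.2, fun h => ⟨ha.1, h⟩⟩
  have hidx : B.Cp.relIndex B.S0 ∣ B.e := by
    rw [← B.hrel]
    haveI : (B.Cp.subgroupOf B.Np).Normal :=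
      Subgroup.normal_subgroupOf_centralizer_normalizer _
    have := Subgroup.relIndex_dvd_index_of_normal (H := B.Cp.subgroupOf B.Np)
      (K := B.S0.subgroupOf B.Np)
    rw [Subgroup.relIndex_subgroupOf (show B.S0 ≤ B.Np from inf_le_right)] at this
    exact this
  have h := (B.T.subgroupOf B.S0).card_mul_index
  rw [Nat.card_congr (Subgroup.subgroupOfEquivOfLe hTS).toEquiv, hTeq, B.card_S0] at h
  change Nat.card B.T * B.Cp.relIndex B.S0 = 8 at h
  have hd8 : B.Cp.relIndex B.S0 ∣ 8 := Dvd.intro_left _ h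
  rcases B.e_cases with he | he <;> rw [he] at hidx <;> simp only [τ, he]
  · have h1 : B.Cp.relIndex B.S0 = 1 := Nat.dvd_one.mp ((Nat.dvd_gcd hidx hd8).trans (by norm_num))
    rw [h1, mul_one] at h
    simp [h]
  · have h2 : B.Cp.relIndex B.S0 ∣ 2 := (Nat.dvd_gcd hidx hd8).trans (by norm_num)
    rcases (Nat.dvd_prime Nat.prime_two).mp h2 with h1 | h1 <;> rw [h1] at h <;>
      simp <;> omega

theorem perm_T {a : B.Cu} (ha : (a : G) ∈ B.T) : B.perm a = 1 :=
  B.perm_eq_one_of_centralizes B.pt (k := 6)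
    (Subtype.ext (by simpa using B.pow_S1 ha.1)) ha.2

/-- The kernel of the action meets `S1` in `T`. -/
theorem mem_T_iff {a : B.Cu} (ha : (a : G) ∈ B.S1) : (a : G) ∈ B.T ↔ B.perm a = 1 :=
  ⟨B.perm_T, fun h => ⟨ha, B.mem_Cp_of_perm_eq_one h⟩⟩

/-- The conjugate of `u`. -/
def z : G := B.s * B.u * B.s⁻¹

theorem u_mem_S1 : B.u ∈ B.S1 := by
  haveI : Fact (Nat.Prime 2) := ⟨Nat.prime_two⟩
  have hP2 : IsPGroup 2 (Subgroup.zpowers B.u) :=
    IsPGroup.of_card (n := 1) (by rw [Nat.card_zpowers, B.hu, pow_one])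
  have hN : Subgroup.zpowers B.u ≤ Subgroup.normalizer (B.S1 : Set G) := by
    rw [Subgroup.zpowers_le, Subgroup.mem_normalizer_iff]
    intro a
    have key : ∀ b ∈ B.S1, B.u * b * B.u⁻¹ = b := fun b hb => by
      rw [← Subgroup.mem_centralizer_singleton_iff.mp (B.hS1u hb)]
      group
    constructor
    · intro ha; rwa [key a ha]
    · intro ha
      have := key _ ha
      rwa [mul_left_cancel (mul_right_cancel this)] at ha
  have hsup := B.isPGroup_S1.to_sup_of_normal_left' hP2 hN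
  obtain ⟨k, hk⟩ := two_dvd hsup
  have hle : B.S1 ⊔ Subgroup.zpowers B.u ≤ B.Cu := sup_le B.hS1u (Subgroup.zpowers_le.mpr
    (Subgroup.mem_centralizer_singleton_iff.mpr rfl))
  have hd : 2 ^ k ∣ 8 * Nat.card (B.Np ⊓ B.Cu : Subgroup G) := by
    have hcu : Nat.card B.Cu = 8 * Nat.card (B.Np ⊓ B.Cu : Subgroup G) := B.hk
    rw [← hk, ← hcu]
    exact Subgroup.card_dvd_of_le hle
  have hd2 : 2 ^ k ∣ 8 * 2520 :=
    hd.trans (Nat.mul_dvd_mul_left 8 ((Subgroup.card_dvd_of_le inf_le_left).trans B.Np_dvd))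
  have hk6 : k ≤ 6 := by
    by_contra hcon
    have := (pow_dvd_pow 2 (show 7 ≤ k by omega)).trans hd2
    norm_num at this
  have heq : B.S1 = B.S1 ⊔ Subgroup.zpowers B.u := Subgroup.eq_of_le_of_card_ge le_sup_left (by
    rw [B.hS1, hk]; exact (Nat.pow_le_pow_right (by norm_num) hk6).trans (by norm_num))
  rw [heq]
  exact le_sup_right (α := Subgroup G) (Subgroup.mem_zpowers B.u)

theorem z_mem : B.z ∈ B.S1 := B.hsN _ B.u_mem_S1

theorem z_central {a : G} (ha : a ∈ B.S1) : B.z * a = a * B.z := by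
  have hinv : B.s⁻¹ * a * B.s ∈ B.S1 := by
    have h := B.hsN a ha
    have h2 := mul_mem (mul_mem (inv_mem B.hss) h) B.hss
    convert h2 using 1
    group
  have hc : B.s⁻¹ * a * B.s * B.u = B.u * (B.s⁻¹ * a * B.s) :=
    Subgroup.mem_centralizer_singleton_iff.mp (B.hS1u hinv)
  calc B.z * a = B.s * (B.u * (B.s⁻¹ * a * B.s)) * B.s⁻¹ := by rw [z]; group
    _ = a * B.z := by rw [← hc, z]; group

theorem s_z : B.s * B.z * B.s⁻¹ = B.u := by
  have hc := Subgroup.mem_centralizer_singleton_iff.mp (B.hS1u B.hss)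
  calc B.s * B.z * B.s⁻¹ = (B.s * B.s) * B.u * (B.s * B.s)⁻¹ := by rw [z]; group
    _ = B.u := by rw [hc]; group

theorem orderOf_z : orderOf B.z = 2 := by
  rw [z, ← MulAut.conj_apply, MulEquiv.orderOf_eq, B.hu]

/-- The group of order `128`. -/
def S2 : Subgroup G := B.S1 ⊔ Subgroup.zpowers B.s

theorem s_mem_normalizer : B.s ∈ Subgroup.normalizer (B.S1 : Set G) := by
  rw [Subgroup.mem_normalizer_iff]
  intro a
  refine ⟨fun ha => B.hsN a ha, fun ha => ?_⟩
  have h2 := B.hsN _ ha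
  have h3 := mul_mem (mul_mem (inv_mem B.hss) h2) B.hss
  convert h3 using 1
  group

theorem card_S2 : 128 ∣ Nat.card B.S2 := by
  haveI : Fact (Nat.Prime 2) := ⟨Nat.prime_two⟩
  have hd : Nat.card B.S1 ∣ Nat.card B.S2 := Subgroup.card_dvd_of_le le_sup_left
  have hne : B.S1 ≠ B.S2 := fun h => B.hs (h ▸ le_sup_right (α := Subgroup G) (Subgroup.mem_zpowers B.s))
  obtain ⟨m, hm⟩ := hd
  rw [B.hS1] at hm
  have hnd : (B.S1.subgroupOf B.S2).Normal := by
    rw [Subgroup.normal_subgroupOf_iff_le_normalizer (show B.S1 ≤ B.S2 from le_sup_left)]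
    exact sup_le Subgroup.le_normalizer (Subgroup.zpowers_le.mpr B.s_mem_normalizer)
  -- the quotient is generated by an involution
  have h2 : (QuotientGroup.mk (⟨B.s, le_sup_right (α := Subgroup G) (Subgroup.mem_zpowers B.s)⟩ :
      B.S2) : B.S2 ⧸ B.S1.subgroupOf B.S2) ^ 2 = 1 := by
    rw [pow_two, ← QuotientGroup.mk_mul, QuotientGroup.eq_one_iff, Subgroup.mem_subgroupOf]
    exact B.hss
  have hidx : Nat.card (B.S2 ⧸ B.S1.subgroupOf B.S2) = m := by
    have h := Subgroup.card_eq_card_quotient_mul_card_subgroup (B.S1.subgroupOf B.S2)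
    rw [Nat.card_congr (Subgroup.subgroupOfEquivOfLe (show B.S1 ≤ B.S2 from le_sup_left)).toEquiv,
      B.hS1, hm] at h
    omega
  have hne1 : (QuotientGroup.mk (⟨B.s, le_sup_right (α := Subgroup G) (Subgroup.mem_zpowers B.s)⟩ :
      B.S2) : B.S2 ⧸ B.S1.subgroupOf B.S2) ≠ 1 := by
    rw [Ne, QuotientGroup.eq_one_iff, Subgroup.mem_subgroupOf]
    exact B.hs
  have h2m : 2 ∣ m := by
    rw [← hidx, ← orderOf_eq_prime h2 hne1]
    exact orderOf_dvd_natCard _
  rw [hm]
  obtain ⟨l, rfl⟩ := h2m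
  exact ⟨l, by ring⟩

/-- An element fixed by `s` and `S1` is no involution of `C(P)`. -/
theorem not_central {t : G} (ht : orderOf t = 2) (htC : t ∈ B.Cp)
    (h1 : ∀ a ∈ B.S1, a * t = t * a) (h2 : B.s * t = t * B.s) : False := by
  refine B.cent t ht htC (B.card_S2.trans (Subgroup.card_dvd_of_le (sup_le (fun a ha => ?_) ?_)))
  · exact Subgroup.mem_centralizer_singleton_iff.mpr (h1 a ha)
  · rw [Subgroup.zpowers_le]
    exact Subgroup.mem_centralizer_singleton_iff.mpr h2

theorem u_ne_z : B.u ≠ B.z := by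
  intro h
  refine B.not_central B.hu B.huC
    (fun a ha => Subgroup.mem_centralizer_singleton_iff.mp (B.hS1u ha)) ?_
  calc B.s * B.u = B.s * B.u * B.s⁻¹ * B.s := by group
    _ = B.u * B.s := by rw [show B.s * B.u * B.s⁻¹ = B.z from rfl, ← h]

/-- `z` does not centralise `P`. -/
theorem z_not_mem : B.z ∉ B.Cp := by
  intro hz
  set X : Subgroup G := B.Cu ⊓ Subgroup.centralizer ({B.z} : Set G) with hX
  have hPX : (B.P : Subgroup G) ≤ X := le_inf B.P_le fun y hy =>
    Subgroup.mem_centralizer_singleton_iff.mpr (Subgroup.mem_centralizer_iff.mp hz y hy)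
  have hS2 : B.S2 ≤ Subgroup.normalizer (X : Set G) := by
    refine sup_le (fun a ha => Subgroup.le_normalizer ?_) (Subgroup.zpowers_le.mpr ?_)
    · exact ⟨B.hS1u ha, Subgroup.mem_centralizer_singleton_iff.mpr (B.z_central ha).symm⟩
    · rw [Subgroup.mem_normalizer_iff]
      intro a
      simp only [hX, Subgroup.mem_inf, Cu, Subgroup.mem_centralizer_singleton_iff]
      have e1 : ∀ {a x : G}, B.s * a * B.s⁻¹ * (B.s * x * B.s⁻¹) =
          B.s * (a * x) * B.s⁻¹ := by intros; group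
      have e2 : B.s * B.u * B.s⁻¹ = B.z := rfl
      constructor
      · rintro ⟨h1, h2⟩
        constructor
        · rw [← B.s_z, e1, e1, h2]
        · rw [← e2, e1, e1, h1]
      · rintro ⟨h1, h2⟩
        rw [← B.s_z, e1, e1] at h1
        rw [← e2, e1, e1] at h2
        exact ⟨mul_left_cancel (mul_right_cancel h2), mul_left_cancel (mul_right_cancel h1)⟩
  have hinj : Nat.card (B.S2 ⧸ (B.S2 ⊓ B.Np).subgroupOf B.S2) ≤ Nat.card B.Pts := by
    refine Nat.card_le_card_of_injective (Quotient.lift (fun a : B.S2 =>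
      (⟨(a : G) • B.P, ?_⟩ : B.Pts)) fun a b hab => ?_) ?_
    · intro x hx
      rw [Sylow.coe_subgroup_smul, Subgroup.mem_pointwise_smul_iff_inv_smul_mem, MulAut.smul_def,
        ← map_inv, MulAut.conj_apply, inv_inv] at hx
      have hm := (Subgroup.mem_normalizer_iff.mp (hS2 a.2) _).mp (hPX hx)
      have e3 : (a : G) * ((a : G)⁻¹ * x * a) * (a : G)⁻¹ = x := by group
      rw [e3] at hm
      exact hm.1
    · replace hab := Subgroup.mem_subgroupOf.mp (QuotientGroup.leftRel_apply.mp hab)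
      have := Sylow.smul_eq_iff_mem_normalizer.mpr hab.2
      simp only [Subgroup.coe_mul, Subgroup.coe_inv, mul_smul, inv_smul_eq_iff] at this
      exact Subtype.ext this.symm
    · intro x y
      induction x using Quotient.inductionOn' with | h a => ?_
      induction y using Quotient.inductionOn' with | h b => ?_
      intro hab
      apply Quotient.sound'
      rw [QuotientGroup.leftRel_apply, Subgroup.mem_subgroupOf]
      have h' : (a : G) • B.P = (b : G) • B.P := congrArg Subtype.val hab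
      refine ⟨(a⁻¹ * b).2, Sylow.smul_eq_iff_mem_normalizer.mp ?_⟩
      simp only [Subgroup.coe_mul, Subgroup.coe_inv, mul_smul, inv_smul_eq_iff]
      exact h'.symm
  haveI : Fact (Nat.Prime 2) := ⟨Nat.prime_two⟩
  have hle : Nat.card (B.S2 ⊓ B.Np : Subgroup G) ∣ 8 := by
    refine B.le_eight ?_ inf_le_right
    exact (IsPGroup.to_sup_of_normal_left' B.isPGroup_S1
      (IsPGroup.to_le (B.isPGroup_S1) (Subgroup.zpowers_le.mpr B.hss) |> fun hh => by
        obtain ⟨k, hk⟩ := two_dvd hh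
        refine IsPGroup.iff_card.mpr ?_
        rw [Nat.card_zpowers] at hk ⊢
        have hd : orderOf B.s ∣ 2 ^ (k + 1) := by
          refine orderOf_dvd_of_pow_eq_one ?_
          rw [pow_succ', pow_mul, pow_two, ← hk, pow_orderOf_eq_one]
        obtain ⟨j, -, hj⟩ := (Nat.dvd_prime_pow Nat.prime_two).mp hd
        exact ⟨j, hj⟩)
      (Subgroup.zpowers_le.mpr B.s_mem_normalizer)).to_le inf_le_left
  have h := Subgroup.card_eq_card_quotient_mul_card_subgroup ((B.S2 ⊓ B.Np).subgroupOf B.S2)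
  rw [Nat.card_congr (Subgroup.subgroupOfEquivOfLe
    (inf_le_left : B.S2 ⊓ B.Np ≤ B.S2)).toEquiv] at h
  rw [B.card_pts] at hinj
  have h128 := Nat.le_of_dvd Nat.card_pos B.card_S2
  have h8 := Nat.le_of_dvd (by norm_num) hle
  have := Nat.mul_le_mul hinj h8
  omega

/-- No point normalises a conjugate of `S1` in `C(u)`. -/
theorem not_normalizes (a : B.Cu) (Q : B.Pts)
    (h : ∀ q ∈ (Q.1 : Subgroup G), q ∈ Subgroup.normalizer
      ((B.S1.map (MulAut.conj (a : G)).toMonoidHom) : Set G)) : False := by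
  classical
  haveI : Fact (Nat.Prime 2) := ⟨Nat.prime_two⟩
  set Q' : B.Pts := B.perm a⁻¹ Q with hQ'
  have hN : ((Q'.1 : Sylow 7 G) : Subgroup G) ≤ Subgroup.normalizer (B.S1 : Set G) := by
    intro x hx
    have hxq : (a : G) * x * (a : G)⁻¹ ∈ (Q.1 : Subgroup G) := by
      rw [hQ', perm_apply, Sylow.coe_subgroup_smul,
        Subgroup.mem_pointwise_smul_iff_inv_smul_mem] at hx
      simpa [MulAut.smul_def] using hx
    rw [Subgroup.mem_normalizer_iff]
    intro b
    have hm := Subgroup.mem_normalizer_iff.mp (h _ hxq) ((a : G) * b * (a : G)⁻¹)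
    have hmap : ∀ b : G, (a : G) * b * (a : G)⁻¹ ∈ B.S1.map (MulAut.conj (a : G)).toMonoidHom ↔
        b ∈ B.S1 := fun b => by
      constructor
      · rintro ⟨c, hc, hce⟩
        simp only [MulEquiv.coe_toMonoidHom, MulAut.conj_apply] at hce
        rwa [← mul_left_cancel (mul_right_cancel hce)]
      · intro hb; exact ⟨b, hb, rfl⟩
    rw [hmap] at hm
    rw [hm, show (a : G) * x * (a : G)⁻¹ * ((a : G) * b * (a : G)⁻¹) * ((a : G) * x * (a : G)⁻¹)⁻¹
      = (a : G) * (x * b * x⁻¹) * (a : G)⁻¹ by group, hmap]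
  set M := Subgroup.normalizer (B.S1 : Set G) with hM
  have hk := SmallOrderTools.card_sylow_subgroup_mul Q'.1 M hN
  have hmod : Nat.card (Sylow 7 M) % 7 = 1 := Sylow.card_sylow_mod
  -- no element of order eleven
  have h11 : ¬ 11 ∣ Nat.card M := by
    intro h11
    obtain ⟨⟨y, hy⟩, hyo⟩ := exists_prime_orderOf_dvd_card' (G := M) 11 h11
    rw [Subgroup.orderOf_mk] at hyo
    obtain ⟨t, ht, ht1, hct⟩ := Counting.exists_commuting_of_mod (q := 11) B.S1 hy hyo
      (by rw [B.hS1]; decide)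
    obtain ⟨Q11, hQ11⟩ := (IsPGroup.of_card (n := 1)
      (show Nat.card (Subgroup.zpowers y) = 11 ^ 1 by rw [Nat.card_zpowers, hyo, pow_one])
      ).exists_le_sylow
    obtain ⟨hQc, -, hCQ, -⟩ := Eleven.data B.card Q11
    have hQe := Subgroup.eq_of_le_of_card_ge hQ11 (by rw [Nat.card_zpowers, hyo, hQc])
    have htC : t ∈ Subgroup.centralizer ((Q11 : Subgroup G) : Set G) := by
      rw [← hQe, Subgroup.mem_centralizer_iff]
      intro w hw
      obtain ⟨i, rfl⟩ := Subgroup.mem_zpowers_iff.mp hw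
      exact (hct.zpow_left i).eq
    have h1 := Subgroup.orderOf_dvd_natCard _ htC
    rw [hCQ] at h1
    have h2 : orderOf t ∣ 2 ^ 6 := orderOf_dvd_of_pow_eq_one (B.pow_S1 ht)
    exact ht1 (orderOf_eq_one_iff.mp (Nat.dvd_one.mp ((Nat.dvd_gcd h1 h2).trans (by norm_num))))
  have h128 : 128 ∣ Nat.card M := B.card_S2.trans (Subgroup.card_dvd_of_le
    (sup_le Subgroup.le_normalizer (Subgroup.zpowers_le.mpr B.s_mem_normalizer)))
  have hMd : Nat.card M ∣ 11 * 40320 := (B.card ▸ Subgroup.card_subgroup_dvd_card M : _ ∣ 443520)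
  have hM40 : Nat.card M ∣ 128 * 315 :=
    (((Nat.Prime.coprime_iff_not_dvd (by norm_num : Nat.Prime 11)).mpr h11).symm).dvd_of_dvd_mul_left
      hMd
  set Nc := Nat.card (Subgroup.normalizer ((Q'.1 : Subgroup G) : Set G) ⊓ M : Subgroup G) with hNc
  have h56 : 56 ∣ Nc := by
    refine (show Nat.Coprime 7 8 by norm_num).mul_dvd_of_dvd_of_dvd ?_ ?_
    · rw [← B.card_sylow Q'.1]
      exact Subgroup.card_dvd_of_le (le_inf Subgroup.le_normalizer hN)
    · refine (B.eight_dvd_stab Q').trans (Subgroup.card_dvd_of_le ?_)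
      exact le_inf inf_le_right (inf_le_left.trans Subgroup.le_normalizer)
  have hNd : Nc ∣ 2520 := by
    refine (Subgroup.card_dvd_of_le inf_le_left).trans ?_
    obtain ⟨g, hg⟩ := MulAction.exists_smul_eq G B.P Q'.1
    have := Sylow.card_normalizer_mul Q'.1
    have h' := Sylow.card_normalizer_mul B.P
    rw [← h'] at this
    rw [Nat.eq_of_mul_eq_mul_right Nat.card_pos this]
    exact B.Np_dvd
  obtain ⟨d, hd⟩ := h56
  obtain ⟨m, hm⟩ := h128
  rw [hd, hm] at hk
  have hd45 : d ∣ 45 := Nat.dvd_of_mul_dvd_mul_left (by norm_num : 0 < 56) (hd ▸ hNd)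
  have hm315 : m ∣ 315 := Nat.dvd_of_mul_dvd_mul_left (by norm_num : 0 < 128) (hm ▸ hM40)
  have hd1 := Nat.le_of_dvd (by norm_num) hd45
  have hm1 := Nat.le_of_dvd (by norm_num) hm315
  have htab : ∀ d ≤ 45, ∀ n ≤ 720, d ∣ 45 → (n * (56 * d)) % 128 = 0 →
      n * (56 * d) / 128 ∣ 315 → n % 7 ≠ 1 := by decide +kernel
  refine htab d hd1 (Nat.card (Sylow 7 M)) ?_ hd45 (by rw [hk]; omega)
    (by rw [hk, Nat.mul_div_cancel_left _ (by norm_num : 0 < 128)]; exact hm315) hmod
  have hdpos : 0 < d := Nat.pos_of_ne_zero fun h0 => by rw [h0] at hd45; norm_num at hd45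
  nlinarith

end Eight

end Cfsg.Agent.Lib.RecogM22.Seven
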