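import Cfsg.Agent.Lib.RecogM22.Local7Lift

/-!
No simple group of order `168` on the eight Sylow `7`-subgroups when `|N : C| = 6`.
-/

set_option autoImplicit false
set_option linter.style.haveILetI false
set_option linter.unusedSectionVars false

namespace Cfsg.Agent.Lib.RecogM22.Seven

open Cfsg.Agent.Lib.Classif Cfsg.Agent.Lib.SmallGroups

universe u

namespace Eight

variable {G : Type u} [Group G] [Finite G] [IsSimpleGroup G] [Fact (Nat.Prime 7)]
  [Fact (Nat.Prime 11)] (B : Eight G)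

/-- An element of order dividing four commuting with four fixed-point-free elements is even. -/
theorem mem_Y_of_commute {o : Equiv.Perm B.Pts} (ho : o ∈ B.X) (ho4 : o ^ 4 = 1)
    (Z : Subgroup (Equiv.Perm B.Pts)) (hZ : Z ≤ B.Y) (hZp : ∀ a ∈ Z, a ^ 2 ^ 3 = 1)
    (h4 : 4 ∣ Nat.card Z) (hc : ∀ a ∈ Z, o * a = a * o) : o ∈ B.Y := by
  classical
  haveI := Fintype.ofFinite B.Pts
  have hn : Fintype.card B.Pts = 8 := by rw [← Nat.card_eq_fintype_card, B.card_pts]
  refine B.mem_Y_iff.mpr ⟨ho, fun _ => ?_⟩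
  have hsq : o ^ 2 ∈ B.Y := B.mem_Y_iff.mpr ⟨pow_mem ho 2, fun _ => by
    rw [map_pow]
    rcases Int.units_eq_one_or (Equiv.Perm.sign o) with h | h <;> rw [h] <;> rfl⟩
  by_cases h2 : o ^ 2 = 1
  · exact Perm8.sign_of_commute h2 Z h4
      (fun a ha x hx => B.semiregular (hZ ha) (hZp a ha) x hx) hc (by rw [hn]; norm_num)
  · refine Perm8.sign_of_pow_four ho4 (fun x hx => h2 (B.semiregular hsq (k := 1) ?_ x hx))
      (by rw [hn])
    rw [← pow_mul]; exact ho4

/-- The conjugate of an element of `S1` by `s`, inside `C(u)`. -/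
def conjS {a : B.Cu} (ha : a ∈ B.S1c) : B.Cu :=
  ⟨B.s * a * B.s⁻¹, B.hS1u (B.hsN _ ha)⟩

/-- The map to the image of the conjugate by `s`. -/
def twist : B.S1c →* Equiv.Perm B.Pts where
  toFun a := B.perm (B.conjS a.2)
  map_one' := by
    rw [show B.conjS (1 : B.S1c).2 = 1 from Subtype.ext (by simp [conjS]), map_one]
  map_mul' a b := by
    rw [← map_mul]
    refine congrArg B.perm (Subtype.ext ?_)
    simp [conjS, mul_assoc]

theorem twist_mem (a : B.S1c) : B.twist a ∈ B.S1c.map B.perm := ⟨_, B.hsN _ a.2, rfl⟩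

section Simple

variable [IsSimpleGroup B.Y] (h168 : Nat.card B.Y = 168) (he : B.e = 6)

include he in
theorem tau_six : B.τ = 4 := by rw [τ, if_neg (by omega)]

include he in
theorem T_comm : ∀ a ∈ B.Tc, ∀ b ∈ B.Tc, a * b = b * a := by
  haveI : Fact (Nat.Prime 2) := ⟨Nat.prime_two⟩
  intro a ha b hb
  haveI := IsPGroup.isMulCommutative_of_card_eq_prime_sq (p := 2)
    (show Nat.card B.Tc = 2 ^ 2 by rw [B.card_Tc, B.tau_six he]; rfl)
  exact congrArg Subtype.val (mul_comm' (⟨a, ha⟩ : B.Tc) ⟨b, hb⟩)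

include he in
theorem T_pow_four {a : B.Cu} (ha : a ∈ B.Tc) : a ^ 4 = 1 := by
  have h := congrArg Subtype.val (pow_card_eq_one' (x := (⟨a, ha⟩ : B.Tc)))
  rwa [B.card_Tc, B.tau_six he] at h

/-- `S1 ∩ L`. -/
noncomputable def H : Subgroup B.Cu := B.S1c ⊓ B.L

include he in
theorem Tc_le_H : B.Tc ≤ B.H := fun a ha => by
  have h1 : a ∈ Subgroup.centralizer (B.Tc : Set B.Cu) :=
    Subgroup.mem_centralizer_iff.mpr fun b hb => B.T_comm he b hb a ha
  have h2 : a ∈ B.W.comap B.perm := by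
    rw [Subgroup.mem_comap, B.perm_T ha]
    exact one_mem _
  exact ⟨ha.1, h1, h2⟩

theorem H_comm {a t : B.Cu} (ha : a ∈ B.H) (ht : t ∈ B.Tc) : t * a = a * t :=
  Subgroup.mem_centralizer_iff.mp ha.2.1 t ht

include h168

theorem H_map : B.H.map B.perm = B.W := by
  haveI : Fact (Nat.Prime 2) := ⟨Nat.prime_two⟩
  refine le_antisymm (fun σ ⟨a, ha, hσ⟩ => hσ ▸ ha.2.2) ?_
  have hWle : B.W ≤ B.X := inf_le_right.trans B.Y_le
  let f : B.L →* B.W := (B.perm.comp B.L.subtype).codRestrict B.W fun l => l.2.2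
  have hf : Function.Surjective f := by
    rintro ⟨w, hw⟩
    obtain ⟨a, ha, hae⟩ := B.lift_centralizing h168 hw.2
    exact ⟨⟨a, ha, show B.perm a ∈ B.W by rw [hae]; exact hw⟩, Subtype.ext hae⟩
  have hd := Subgroup.index_map_dvd (H := B.S1c.subgroupOf B.L) hf
  set I := (B.S1c.subgroupOf B.L).map f with hI
  have h8 : I.index ∣ 8 := B.card_W h168 ▸ I.index_dvd_card
  have h1 : I.index = 1 := by
    obtain ⟨j, -, hj⟩ := (Nat.dvd_prime_pow Nat.prime_two).mp (show I.index ∣ 2 ^ 3 from h8)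
    rcases Nat.eq_zero_or_pos j with rfl | hj0
    · exact hj
    · exact absurd ((hj ▸ dvd_pow_self 2 hj0.ne' : 2 ∣ I.index).trans hd) B.odd_index
  intro w hw
  have hm : (⟨w, hw⟩ : B.W) ∈ I := by rw [Subgroup.index_eq_one.mp h1]; trivial
  obtain ⟨l, hl, hle⟩ := hm
  exact ⟨l, ⟨hl, l.2⟩, congrArg Subtype.val hle⟩

include he

theorem card_H : Nat.card B.H = 32 := by
  have h := card_map_mul B.perm B.H
  rw [B.H_map h168, B.card_W h168, show B.H ⊓ B.perm.ker = B.Tc from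
    le_antisymm (fun a ha => B.inf_ker ha.1.1 ha.2) (le_inf (B.Tc_le_H he) B.Tc_le_ker),
    B.card_Tc, B.tau_six he] at h
  exact h.symm

/-- An involution of `W` lifts to an involution of `H`. -/
theorem exists_lift {w : Equiv.Perm B.Pts} (hw : w ∈ B.W) (hw2 : w ^ 2 = 1) (hw1 : w ≠ 1) :
    ∃ i ∈ B.H, i * i = 1 ∧ B.perm i = w := by
  obtain ⟨q, b, -, hb, hbH, v, hv, hbe⟩ := B.lift_involution h168 hw hw2 hw1
  obtain ⟨h, hh, hhv⟩ : v ∈ B.H.map B.perm := by rw [B.H_map h168]; exact hv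
  refine ⟨h⁻¹ * b * h, mul_mem (mul_mem (inv_mem hh) hbH) hh, ?_, ?_⟩
  · have hz : B.zc * B.zc = 1 := Subtype.ext (by
      change B.z * B.z = 1
      rw [← pow_two, ← B.orderOf_z, pow_orderOf_eq_one])
    rw [hb]
    calc _ = h⁻¹ * q * (B.zc * B.zc) * q⁻¹ * h := by group
      _ = 1 := by rw [hz]; group
  · rw [map_mul, map_mul, map_inv, hhv, hbe]; group

/-- `H` has exponent four. -/
theorem H_pow_four {a : B.Cu} (ha : a ∈ B.H) : a ^ 4 = 1 := by
  classical
  haveI := Fintype.ofFinite B.Pts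
  obtain ⟨y, hy, hy2, -, h6, -⟩ := B.W_facts h168
  have hv : B.perm a ∈ B.W := ha.2.2
  have hkerT : ∀ {c : B.Cu}, c ∈ B.H → B.perm c = 1 → c ∈ B.Tc := fun hc hp => B.inf_ker hc.1 hp
  have hz2 : B.perm B.zc * B.perm B.zc = 1 := by rw [← pow_two]; exact B.zb_sq
  have hzc2 : B.zc * B.zc = 1 := Subtype.ext (by
    change B.z * B.z = 1
    rw [← pow_two, ← B.orderOf_z, pow_orderOf_eq_one])
  have hzH : B.zc ∈ B.H := by
    have h1 : B.zc ∈ Subgroup.centralizer (B.Tc : Set B.Cu) :=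
      Subgroup.mem_centralizer_iff.mpr fun t ht => Subtype.ext (B.z_central ht.1).symm
    exact ⟨B.z_mem, h1, B.zb_mem h168⟩
  by_cases h2 : B.perm a ^ 2 = 1
  · by_cases h1 : B.perm a = 1
    · exact B.T_pow_four he (hkerT ha h1)
    obtain ⟨i, hi, hii, hie⟩ := B.exists_lift h168 he hv h2 h1
    have ht : a * i ∈ B.Tc := hkerT (mul_mem ha hi) (by
      rw [map_mul, hie, ← pow_two, h2])
    have hae : a = a * i * i := by rw [mul_assoc, hii, mul_one]
    rw [hae, (show Commute (a * i) i from B.H_comm hi ht).mul_pow, B.T_pow_four he ht, one_mul,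
      show 4 = 2 * 2 from rfl, pow_mul, pow_two i, hii, one_pow]
  -- an element of order four is a product of two involutions
  have hroots : (Finset.univ.filter fun w : Equiv.Perm B.Pts => w ∈ B.W ∧ w ^ 2 = 1).card = 6 := by
    rw [← h6, Nat.card_eq_fintype_card, Fintype.card_subtype]
  have hW8 : (Finset.univ.filter fun w : Equiv.Perm B.Pts => w ∈ B.W).card = 8 := by
    rw [← Fintype.card_subtype, ← Nat.card_eq_fintype_card]
    exact B.card_W h168
  have hy4 : y ^ 4 = 1 := by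
    rw [show (4 : ℕ) = 2 * 2 from rfl, pow_mul, hy2, pow_two, hz2]
  have hy1 : y ^ 2 ≠ 1 := hy2 ▸ B.zb_ne_one
  have hyi : y⁻¹ ≠ y := fun e => hy1 (by rw [pow_two]; exact mul_eq_one_iff_inv_eq.mpr e)
  have hnon : ∀ w ∈ B.W, w ^ 2 ≠ 1 → w = y ∨ w = y⁻¹ := by
    intro w hw hw2
    by_contra hc
    push Not at hc
    have hsub : ({w, y, y⁻¹} : Finset (Equiv.Perm B.Pts)) ⊆
        (Finset.univ.filter fun w : Equiv.Perm B.Pts => w ∈ B.W) \
          (Finset.univ.filter fun w : Equiv.Perm B.Pts => w ∈ B.W ∧ w ^ 2 = 1) := by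
      intro v hv'
      simp only [Finset.mem_insert, Finset.mem_singleton] at hv'
      rcases hv' with rfl | rfl | rfl
      · simp [hw, hw2]
      · simp [hy, hy1]
      · simp [hy, inv_pow, hy1]
    have h := Finset.card_le_card hsub
    rw [Finset.card_sdiff_of_subset (fun v hv' => by simp_all), hW8, hroots,
      Finset.card_insert_of_notMem (by simp [hc.1, hc.2]),
      Finset.card_insert_of_notMem (by simp [Ne.symm hyi]), Finset.card_singleton] at h
    omega
  obtain ⟨m, hm, hm2, hm1, hmz⟩ : ∃ m ∈ B.W, m ^ 2 = 1 ∧ m ≠ 1 ∧ m ≠ B.perm B.zc := by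
    obtain ⟨m, hm, hm'⟩ := Finset.exists_mem_notMem_of_card_lt_card
      (s := ({1, B.perm B.zc} : Finset (Equiv.Perm B.Pts)))
      (t := Finset.univ.filter fun w : Equiv.Perm B.Pts => w ∈ B.W ∧ w ^ 2 = 1)
      (lt_of_le_of_lt Finset.card_le_two (by rw [hroots]; norm_num))
    simp only [Finset.mem_insert, Finset.mem_singleton, not_or] at hm'
    simp only [Finset.mem_filter] at hm
    exact ⟨m, hm.2.1, hm.2.2, hm'.1, hm'.2⟩
  have hsqv : B.perm a ^ 2 = B.perm B.zc := by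
    rcases hnon _ hv h2 with h | h <;> rw [h]
    · exact hy2
    · rw [inv_pow, hy2]
      exact inv_eq_of_mul_eq_one_left hz2
  have hmv : (m * B.perm a) ^ 2 = 1 := by
    by_contra hne
    have hcases := hnon _ (mul_mem hm hv) hne
    have hv' := hnon _ hv h2
    -- `m` would be a root of unity in the cyclic group
    have hmem : m = 1 ∨ m = y * y ∨ m = y⁻¹ * y⁻¹ := by
      have hm' : m = m * B.perm a * (B.perm a)⁻¹ := by group
      rcases hcases with e1 | e1 <;> rcases hv' with e2 | e2 <;> rw [e1, e2] at hm'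
      · left; rw [hm', mul_inv_cancel]
      · right; left; rw [hm', inv_inv]
      · right; right; exact hm'
      · left; rw [hm', mul_inv_cancel]
    rcases hmem with h | h | h
    · exact hm1 h
    · exact hmz (by rw [h, ← pow_two, hy2])
    · exact hmz (by rw [h, ← pow_two, inv_pow, hy2]; exact inv_eq_of_mul_eq_one_left hz2)
  have hmv1 : m * B.perm a ≠ 1 := fun h => h2 (by
    rw [eq_inv_of_mul_eq_one_right h, inv_pow, hm2, inv_one])
  obtain ⟨i1, hi1, hi11, hi1e⟩ := B.exists_lift h168 he hm hm2 hm1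
  obtain ⟨i2, hi2, hi22, hi2e⟩ := B.exists_lift h168 he (mul_mem hm hv) hmv hmv1
  set a0 := i1 * i2 with ha0
  have ha0H : a0 ∈ B.H := mul_mem hi1 hi2
  have ha0e : B.perm a0 = B.perm a := by
    rw [ha0, map_mul, hi1e, hi2e, ← mul_assoc, ← pow_two, hm2, one_mul]
  -- the square of `a0` is central in `H`
  have ht1 : a0 * a0 * B.zc ∈ B.Tc := hkerT (mul_mem (mul_mem ha0H ha0H) hzH) (by
    rw [map_mul, map_mul, ha0e, ← pow_two, hsqv, hz2])
  have hcent : i1 * (a0 * a0) = (a0 * a0) * i1 := by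
    have hsplit : a0 * a0 = a0 * a0 * B.zc * B.zc := by rw [mul_assoc (a0 * a0), hzc2, mul_one]
    have hz1 : Commute B.zc i1 := Subtype.ext (B.z_central hi1.1)
    have ht1' : Commute (a0 * a0 * B.zc) i1 := B.H_comm hi1 ht1
    rw [hsplit]
    exact ((ht1'.mul_left hz1).eq).symm
  have ha04 : a0 ^ 4 = 1 := by
    have hinv : i1 * (a0 * a0) * i1 = (a0 * a0)⁻¹ := by
      rw [ha0]
      refine eq_inv_of_mul_eq_one_left ?_
      calc i1 * (i1 * i2 * (i1 * i2)) * i1 * (i1 * i2 * (i1 * i2))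
          = (i1 * i1) * i2 * i1 * i2 * (i1 * i1) * i2 * i1 * i2 := by group
        _ = i2 * i1 * (i2 * i2) * i1 * i2 := by rw [hi11]; group
        _ = i2 * (i1 * i1) * i2 := by rw [hi22]; group
        _ = 1 := by rw [hi11, mul_one, hi22]
    rw [hcent, mul_assoc (a0 * a0), hi11, mul_one] at hinv
    calc a0 ^ 4 = (a0 * a0) * (a0 * a0) := by simp [pow_succ, mul_assoc]
      _ = 1 := mul_eq_one_iff_eq_inv.mpr hinv
  have ht : a * a0⁻¹ ∈ B.Tc := hkerT (mul_mem ha (inv_mem ha0H)) (by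
    rw [map_mul, map_inv, ha0e, mul_inv_cancel])
  rw [show a = a * a0⁻¹ * a0 by group, (show Commute (a * a0⁻¹) a0 from B.H_comm ha0H ht).mul_pow,
    B.T_pow_four he ht, ha04, one_mul]

theorem not_simple_six : False := by
  classical
  haveI : Fact (Nat.Prime 2) := ⟨Nat.prime_two⟩
  haveI := Fintype.ofFinite B.Pts
  have hle : B.H ≤ B.S1c := inf_le_left
  have hTle : B.Tc ≤ B.S1c := fun a ha => ha.1
  set F := (B.H.subgroupOf B.S1c).map B.twist with hFdef
  set A := (B.Tc.subgroupOf B.S1c).map B.twist with hAdef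
  have hinj : ∀ {a : B.S1c}, B.twist a = 1 → B.s * (a : B.Cu) * B.s⁻¹ ∈ B.T := fun {a} h =>
    (B.mem_T_iff (a := B.conjS a.2) (B.hsN _ a.2)).mpr h
  -- the orders
  have hA4 : Nat.card A = 4 := by
    have h := card_map_mul B.twist (B.Tc.subgroupOf B.S1c)
    have hbot : B.Tc.subgroupOf B.S1c ⊓ B.twist.ker = ⊥ :=
      (Subgroup.eq_bot_iff_forall _).mpr fun a ha =>
        Subtype.ext (Subtype.ext (B.disjoint_T ha.1 (hinj ha.2)))
    rw [hbot, Subgroup.card_bot, mul_one,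
      Nat.card_congr (Subgroup.subgroupOfEquivOfLe hTle).toEquiv, B.card_Tc, B.tau_six he] at h
    exact h
  have hF8 : 8 ≤ Nat.card F := by
    have h := card_map_mul B.twist (B.H.subgroupOf B.S1c)
    rw [Nat.card_congr (Subgroup.subgroupOfEquivOfLe hle).toEquiv, B.card_H h168 he] at h
    have hk : Nat.card (B.H.subgroupOf B.S1c ⊓ B.twist.ker : Subgroup B.S1c) ≤ 4 := by
      rw [← B.tau_six he, ← B.card_Tc]
      refine Nat.card_le_card_of_injective
        (fun a => (⟨B.conjS a.1.2, hinj a.2.2⟩ : B.Tc)) fun a b hab => ?_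
      have := congrArg (fun v : B.Tc => ((v : B.Cu) : G)) hab
      simp only [conjS] at this
      exact Subtype.ext (Subtype.ext (Subtype.ext (mul_left_cancel (mul_right_cancel this))))
    have : 0 < Nat.card (B.H.subgroupOf B.S1c ⊓ B.twist.ker : Subgroup B.S1c) := Nat.card_pos
    nlinarith
  have hFimg : F ≤ B.S1c.map B.perm := by rintro _ ⟨a, -, rfl⟩; exact B.twist_mem a
  have hAimg : A ≤ B.S1c.map B.perm := by rintro _ ⟨a, -, rfl⟩; exact B.twist_mem a
  have hFX : F ≤ B.X := hFimg.trans (by rintro _ ⟨a, -, rfl⟩; exact B.perm_mem_X a)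
  have hAX : A ≤ B.X := hAimg.trans (by rintro _ ⟨a, -, rfl⟩; exact B.perm_mem_X a)
  have hF4 : ∀ o ∈ F, o ^ 4 = 1 := by
    rintro _ ⟨a, ha, rfl⟩
    rw [← map_pow, show a ^ 4 = 1 from Subtype.ext (B.H_pow_four h168 he ha), map_one]
  have hA4' : ∀ o ∈ A, o ^ 4 = 1 := by
    rintro _ ⟨a, ha, rfl⟩
    rw [← map_pow, show a ^ 4 = 1 from Subtype.ext (B.T_pow_four he ha), map_one]
  have hcomm : ∀ a ∈ A, ∀ f ∈ F, a * f = f * a := by
    rintro _ ⟨t, ht, rfl⟩ _ ⟨b, hb, rfl⟩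
    rw [← map_mul, ← map_mul, show t * b = b * t from Subtype.ext (B.H_comm hb ht)]
  have h23 : ∀ {o : Equiv.Perm B.Pts}, o ^ 4 = 1 → o ^ 2 ^ 3 = 1 := fun {o} h => by
    rw [show (2 : ℕ) ^ 3 = 4 * 2 from rfl, pow_mul, h, one_pow]
  by_cases hAY : A ≤ B.Y
  · by_cases hFY : F ≤ B.Y
    · have hFW : F = B.W := Subgroup.eq_of_le_of_card_ge (le_inf hFimg hFY)
        (by rw [B.card_W h168]; exact hF8)
      obtain ⟨-, -, -, hcen, -, -⟩ := B.W_facts h168
      have hsub : ∀ a ∈ A, a = 1 ∨ a = B.perm B.zc := fun a ha =>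
        hcen a ⟨hAimg ha, hAY ha⟩ fun b hb => hcomm a ha b (hFW ▸ hb)
      have h2 : Nat.card A ≤ 2 := by
        rw [Nat.card_eq_fintype_card, Fintype.card_subtype]
        refine (Finset.card_le_card (t := {1, B.perm B.zc}) fun a ha => ?_).trans Finset.card_le_two
        simpa using hsub a (Finset.mem_filter.mp ha).2
      omega
    · obtain ⟨o, ho, hoY⟩ := SetLike.not_le_iff_exists.mp hFY
      exact hoY (B.mem_Y_of_commute (hFX ho) (hF4 o ho) A hAY (fun a ha => h23 (hA4' a ha))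
        (by rw [hA4]) (fun a ha => (hcomm a ha o ho).symm))
  · obtain ⟨o, ho, hoY⟩ := SetLike.not_le_iff_exists.mp hAY
    refine hoY (B.mem_Y_of_commute (hAX ho) (hA4' o ho) (F ⊓ B.Y) inf_le_right
      (fun a ha => h23 (hF4 a ha.1)) ?_ (fun a ha => hcomm o ho a ha.1))
    have h := card_map_mul Equiv.Perm.sign F
    have hker : F ⊓ Equiv.Perm.sign.ker ≤ F ⊓ B.Y := fun σ hσ =>
      ⟨hσ.1, B.mem_Y_iff.mpr ⟨hFX hσ.1, fun _ => hσ.2⟩⟩
    have h2 : Nat.card (F.map Equiv.Perm.sign) ≤ 2 := by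
      refine (Subgroup.card_le_card_group _).trans ?_
      rw [Nat.card_eq_fintype_card, Fintype.card_units_int]
    have h3 := Nat.le_of_dvd Nat.card_pos (Subgroup.card_dvd_of_le hker)
    have h4 : 4 ≤ Nat.card (F ⊓ B.Y : Subgroup (Equiv.Perm B.Pts)) := by nlinarith
    have hle8 : F ⊓ B.Y ≤ B.W := le_inf (inf_le_left.trans hFimg) inf_le_right
    have hd := B.card_W h168 ▸ Subgroup.card_dvd_of_le hle8
    have := Nat.le_of_dvd (by norm_num) hd
    interval_cases hh : Nat.card (F ⊓ B.Y : Subgroup (Equiv.Perm B.Pts)) <;> omega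

end Simple

end Eight

end Cfsg.Agent.Lib.RecogM22.Seven
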