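import Cfsg.Agent.Lib.RecogM22.Local7Six

/-!
No simple group of order `168` on the eight Sylow `7`-subgroups when `|N : C| = 3`.
-/

set_option autoImplicit false
set_option linter.style.haveILetI false
set_option linter.unusedSectionVars false

namespace Cfsg.Agent.Lib.RecogM22.Seven

open Cfsg.Agent.Lib.Classif Cfsg.Agent.Lib.SmallGroups

universe u

/-- Conjugate elements have centralisers of the same order. -/
theorem card_centralizer_conj {A : Type*} [Group A] [Finite A] (a b : A) :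
    Nat.card (Subgroup.centralizer ({b * a * b⁻¹} : Set A)) =
      Nat.card (Subgroup.centralizer ({a} : Set A)) := by
  refine Nat.card_congr
    { toFun := fun x => ⟨b⁻¹ * x * b, ?_⟩
      invFun := fun x => ⟨b * x * b⁻¹, ?_⟩
      left_inv := fun x => Subtype.ext (by simp [mul_assoc])
      right_inv := fun x => Subtype.ext (by simp [mul_assoc]) }
  · rw [Subgroup.mem_centralizer_singleton_iff]
    have h := Subgroup.mem_centralizer_singleton_iff.mp x.2
    calc b⁻¹ * x * b * a = b⁻¹ * ((x : A) * (b * a * b⁻¹)) * b := by group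
      _ = a * (b⁻¹ * x * b) := by rw [h]; group
  · rw [Subgroup.mem_centralizer_singleton_iff]
    have h := Subgroup.mem_centralizer_singleton_iff.mp x.2
    calc b * x * b⁻¹ * (b * a * b⁻¹) = b * ((x : A) * a) * b⁻¹ := by group
      _ = b * a * b⁻¹ * (b * x * b⁻¹) := by rw [h]; group

/-- The order of `N(P) ∩ C(t)` when `|C(t)| = 1344`. -/
theorem nc_arith : (Options.divs 2520).all (fun Nc => decide (Nc % 28 ≠ 0) ||
    decide (1344 % Nc ≠ 0) || decide (1344 / Nc % 7 ≠ 1) || decide (Nc = 168)) = true := by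
  decide +kernel

namespace Eight

variable {G : Type u} [Group G] [Finite G] [IsSimpleGroup G] [Fact (Nat.Prime 7)]
  [Fact (Nat.Prime 11)] (B : Eight G)

/-- `u` inside `C(u)`. -/
def uc : B.Cu := ⟨B.u, Subgroup.mem_centralizer_singleton_iff.mpr rfl⟩

theorem uc_mem : B.uc ∈ B.Tc := ⟨B.u_mem_S1, B.huC⟩

/-- The conjugation by `s` on `T`. -/
def twT : B.Tc →* Equiv.Perm B.Pts :=
  B.twist.comp (Subgroup.inclusion (fun _ ha => ha.1 : B.Tc ≤ B.S1c))

theorem twT_uc : B.twT ⟨B.uc, B.uc_mem⟩ = B.perm B.zc := rfl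

theorem twT_injective : Function.Injective B.twT :=
  (injective_iff_map_eq_one _).mpr fun a ha => Subtype.ext (Subtype.ext (B.disjoint_T a.2
    ((B.mem_T_iff (a := B.conjS a.2.1) (B.hsN _ a.2.1)).mpr ha)))

section Simple

variable [IsSimpleGroup B.Y] (h168 : Nat.card B.Y = 168) (he : B.e = 3)

include he in
theorem img_le_W : B.S1c.map B.perm ≤ B.W := fun σ hσ => by
  classical
  haveI := Fintype.ofFinite B.Pts
  refine ⟨hσ, B.mem_Y_iff.mpr ⟨?_, fun h => by omega⟩⟩
  obtain ⟨a, -, rfl⟩ := hσ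
  exact B.perm_mem_X a

include h168 he

theorem twT_range : B.twT.range = B.W := by
  refine Subgroup.eq_of_le_of_card_ge ?_ ?_
  · rintro _ ⟨a, rfl⟩
    exact B.img_le_W he (B.twist_mem _)
  · rw [B.card_W h168, ← Nat.card_congr (MonoidHom.ofInjective B.twT_injective).toEquiv, B.card_Tc,
      B.tau_three he]

theorem card_Cu_eq : Nat.card B.Cu = 1344 ∧ B.perm.ker = B.Tc := by
  classical
  haveI := Fintype.ofFinite B.Pts
  obtain ⟨g, -, hgX, hcg, hτ⟩ := B.card_X
  have hY : B.Y = B.X := le_antisymm B.Y_le fun σ hσ => B.mem_Y_iff.mpr ⟨hσ, fun h => by omega⟩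
  rw [← hY, h168] at hgX
  obtain rfl : g = 3 := by omega
  have hc : Nat.card B.Cu = 448 ∨ Nat.card B.Cu = 1344 := B.hc3 he
  rw [B.tau_three he] at hτ
  obtain ⟨k, hk⟩ := hτ
  rw [hk] at hcg
  refine ⟨by omega, (Subgroup.eq_of_le_of_card_ge B.Tc_le_ker ?_).symm⟩
  rw [B.card_Tc, B.tau_three he, hk]
  omega

/-- The centre of `T`. -/
theorem center_Tc {a : B.Cu} (ha : a ∈ B.Tc) (hc : ∀ b ∈ B.Tc, a * b = b * a) :
    a = 1 ∨ a = B.uc := by
  obtain ⟨-, -, -, hcen, -, -⟩ := B.W_facts h168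
  have hm : B.twT ⟨a, ha⟩ ∈ B.W := by rw [← B.twT_range h168 he]; exact ⟨_, rfl⟩
  rcases hcen _ hm (fun w hw => by
    obtain ⟨b, rfl⟩ : w ∈ B.twT.range := by rw [B.twT_range h168 he]; exact hw
    rw [← map_mul, ← map_mul]
    exact congrArg B.twT (Subtype.ext (hc b b.2))) with h | h
  · exact Or.inl (congrArg Subtype.val (B.twT_injective (h.trans (map_one _).symm)))
  · exact Or.inr (congrArg Subtype.val (B.twT_injective (h.trans B.twT_uc.symm)))

/-- `u` is a square. -/
theorem uc_square : ∃ y ∈ B.Tc, y ^ 2 = B.uc := by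
  obtain ⟨y, hy, hy2, -⟩ := B.W_facts h168
  obtain ⟨t, rfl⟩ : y ∈ B.twT.range := by rw [B.twT_range h168 he]; exact hy
  refine ⟨t, t.2, ?_⟩
  rw [← map_pow, ← B.twT_uc] at hy2
  exact congrArg Subtype.val (B.twT_injective hy2)

/-- `T` has six square roots of one. -/
theorem card_roots : Nat.card {t : B.Cu // t ∈ B.Tc ∧ t ^ 2 = 1} = 6 := by
  obtain ⟨-, -, -, -, h6, -⟩ := B.W_facts h168
  rw [← h6]
  refine Nat.card_congr (Equiv.ofBijective (fun t => ⟨B.twT ⟨t.1, t.2.1⟩,
    by rw [← B.twT_range h168 he]; exact ⟨_, rfl⟩, by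
      rw [← map_pow, show (⟨t.1, t.2.1⟩ : B.Tc) ^ 2 = 1 from Subtype.ext t.2.2, map_one]⟩) ⟨?_, ?_⟩)
  · intro a b hab
    exact Subtype.ext (congrArg Subtype.val (B.twT_injective (congrArg Subtype.val hab :)) :)
  · rintro ⟨w, hw, hw2⟩
    obtain ⟨t, rfl⟩ : w ∈ B.twT.range := by rw [B.twT_range h168 he]; exact hw
    rw [← map_pow, ← map_one B.twT] at hw2
    exact ⟨⟨t, t.2, congrArg Subtype.val (B.twT_injective hw2)⟩, rfl⟩

/-- Every involution of `T` is conjugate to `u` in the group. -/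
theorem conj_u {t : B.Cu} (ht : t ∈ B.Tc) (ht2 : t ^ 2 = 1) (ht1 : t ≠ 1) :
    ∃ c : G, c * B.u * c⁻¹ = (t : G) := by
  classical
  haveI := Fintype.ofFinite B.Pts
  set w := B.twT ⟨t, ht⟩ with hwdef
  have hw : w ∈ B.W := by rw [← B.twT_range h168 he]; exact ⟨_, rfl⟩
  have hw2 : w ^ 2 = 1 := by
    rw [hwdef, ← map_pow, show (⟨t, ht⟩ : B.Tc) ^ 2 = 1 from Subtype.ext ht2, map_one]
  have hw1 : w ≠ 1 := fun h =>
    ht1 (congrArg Subtype.val (B.twT_injective (h.trans (map_one B.twT).symm)))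
  obtain ⟨q, b, hq, hb, ⟨hbS, hbL⟩, v, hv, hbe⟩ := B.lift_involution h168 hw hw2 hw1
  obtain ⟨v0, rfl⟩ : v ∈ B.twT.range := by rw [B.twT_range h168 he]; exact hv
  set t0 : B.Tc := v0 * ⟨t, ht⟩ * v0⁻¹ with ht0
  have ht0e : B.twT t0 = B.perm b := by rw [ht0, map_mul, map_mul, map_inv, hbe]
  set b1 := B.conjS t0.2.1 with hb1
  have hb1S : b1 ∈ B.S1c := B.hsN _ t0.2.1
  have ha : b * b1⁻¹ ∈ B.Tc := B.inf_ker (mul_mem hbS (inv_mem hb1S)) (by
    rw [map_mul, map_inv, show B.perm b1 = B.perm b from ht0e, mul_inv_cancel])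
  have hacen : ∀ x ∈ B.Tc, b * b1⁻¹ * x = x * (b * b1⁻¹) := fun x hx => by
    have h1 : x * b = b * x := Subgroup.mem_centralizer_iff.mp hbL.1 x hx
    have h2 : Commute x b1 := Subtype.ext (B.commute_T hx t0.2)
    calc b * b1⁻¹ * x = b * (b1⁻¹ * x) := by group
      _ = b * (x * b1⁻¹) := by rw [h2.inv_right.eq]
      _ = x * (b * b1⁻¹) := by rw [← mul_assoc, ← h1, mul_assoc]
  have hbG : (b : G) = (q : G) * B.z * (q : G)⁻¹ := by rw [hb]; rfl
  rcases B.center_Tc h168 he ha hacen with h | h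
  · refine ⟨((B.s * (v0 : B.Cu)) : G)⁻¹ * (q : G) * B.s, ?_⟩
    have h' : (b : G) = B.s * ((v0 : B.Cu) * t * (v0 : B.Cu)⁻¹ : B.Cu) * B.s⁻¹ :=
      congrArg (fun x : B.Cu => (x : G)) (mul_inv_eq_one.mp h)
    rw [hbG, z] at h'
    simp only [Subgroup.coe_mul, Subgroup.coe_inv] at h'
    calc _ = ((B.s * (v0 : B.Cu)) : G)⁻¹ * ((q : G) * (B.s * B.u * B.s⁻¹) * (q : G)⁻¹) *
          (B.s * (v0 : B.Cu)) := by group
      _ = (t : G) := by rw [h']; group
  · exfalso
    have hqu : (q : G) * B.u = B.u * (q : G) := Subgroup.mem_centralizer_singleton_iff.mp q.2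
    have hu2 : B.u * B.u = 1 := by rw [← pow_two, ← B.hu, pow_orderOf_eq_one]
    have h' : (b : G) = B.u * (B.s * ((v0 : B.Cu) * t * (v0 : B.Cu)⁻¹ : B.Cu) * B.s⁻¹) :=
      congrArg (fun x : B.Cu => (x : G)) (mul_inv_eq_iff_eq_mul.mp h)
    rw [hbG] at h'
    simp only [Subgroup.coe_mul, Subgroup.coe_inv] at h'
    set c : G := ((B.s * (v0 : B.Cu)) : G)⁻¹ * (q : G) with hc
    have htc : (t : G) = c * (B.u * B.z) * c⁻¹ := by
      have h2 : (q : G) * (B.u * B.z) * (q : G)⁻¹ =
          B.s * ((v0 : B.Cu) * (t : G) * ((v0 : B.Cu) : G)⁻¹) * B.s⁻¹ := by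
        calc _ = B.u * ((q : G) * B.z * (q : G)⁻¹) := by
              rw [← mul_assoc, hqu]; group
          _ = _ := by rw [h', ← mul_assoc, hu2, one_mul]
      calc (t : G) = ((B.s * (v0 : B.Cu)) : G)⁻¹ *
            (B.s * ((v0 : B.Cu) * (t : G) * ((v0 : B.Cu) : G)⁻¹) * B.s⁻¹) *
            (B.s * (v0 : B.Cu)) := by group
        _ = _ := by rw [← h2, hc]; group
    have hto : orderOf (t : G) = 2 := by
      rw [Subgroup.orderOf_coe]; exact orderOf_eq_prime ht2 ht1
    refine B.cent t hto ht.2 ?_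
    rw [htc, card_centralizer_conj]
    refine B.card_S2.trans (Subgroup.card_dvd_of_le (sup_le (fun a ha => ?_) ?_))
    · rw [Subgroup.mem_centralizer_singleton_iff]
      exact ((show Commute a B.u from Subgroup.mem_centralizer_singleton_iff.mp (B.hS1u ha)).mul_right
        (show Commute a B.z from (B.z_central ha).symm)).eq
    · rw [Subgroup.zpowers_le, Subgroup.mem_centralizer_singleton_iff]
      have huz : Commute B.u B.z :=
        (show Commute B.z B.u from B.z_central B.u_mem_S1).symm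
      calc B.s * (B.u * B.z) = (B.s * B.u * B.s⁻¹) * (B.s * B.z * B.s⁻¹) * B.s := by group
        _ = (B.u * B.z) * B.s := by rw [B.s_z, show B.s * B.u * B.s⁻¹ = B.z from rfl, huz.eq]

/-- Every involution of `T` is conjugate to `u` in `C(P)`. -/
theorem conj_u_Cp {t : B.Cu} (ht : t ∈ B.Tc) (ht2 : t ^ 2 = 1) (ht1 : t ≠ 1) :
    ∃ c ∈ B.Cp, c * B.u * c⁻¹ = (t : G) := by
  haveI : Fact (Nat.Prime 2) := ⟨Nat.prime_two⟩
  have hto : orderOf (t : G) = 2 := by
    rw [Subgroup.orderOf_coe]; exact orderOf_eq_prime ht2 ht1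
  obtain ⟨c, hc⟩ := B.conj_u h168 he ht ht2 ht1
  set Ct := Subgroup.centralizer ({(t : G)} : Set G) with hCt
  have hct : Nat.card Ct = 1344 := by
    rw [hCt, ← hc, card_centralizer_conj]
    exact (B.card_Cu_eq h168 he).1
  have htP : (B.P : Subgroup G) ≤ Ct := fun y hy =>
    Subgroup.mem_centralizer_singleton_iff.mpr (Subgroup.mem_centralizer_iff.mp ht.2 y hy)
  have hk := SmallOrderTools.card_sylow_subgroup_mul B.P Ct htP
  have hmod : Nat.card (Sylow 7 Ct) % 7 = 1 := Sylow.card_sylow_mod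
  rw [hct] at hk
  change Nat.card (Sylow 7 Ct) * Nat.card (B.Np ⊓ Ct : Subgroup G) = 1344 at hk
  -- four divides the part in the normaliser
  obtain ⟨V, hV, hVne⟩ : ∃ V : Subgroup G, V ≤ B.Np ⊓ Ct ∧ 4 ∣ Nat.card V := by
    by_cases htu : (t : G) = B.u
    · refine ⟨B.T, le_inf (inf_le_right.trans B.Cp_le) fun a ha => ?_, ?_⟩
      · rw [hCt, htu]; exact B.hS1u ha.1
      · rw [B.card_T, B.tau_three he]; norm_num
    refine ⟨Subgroup.closure {(t : G), B.u}, ?_, ?_⟩
    · rw [Subgroup.closure_le]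
      intro x hx
      simp only [Set.mem_insert_iff, Set.mem_singleton_iff] at hx
      rcases hx with rfl | rfl
      · exact ⟨B.Cp_le ht.2, Subgroup.mem_centralizer_singleton_iff.mpr rfl⟩
      · exact ⟨B.Cp_le B.huC, Subgroup.mem_centralizer_singleton_iff.mpr
          (Subgroup.mem_centralizer_singleton_iff.mp t.2).symm⟩
    · rw [Involutions.Basic.card_closure_pair hto B.hu]
      have hcomm : Commute (t : G) B.u := Subgroup.mem_centralizer_singleton_iff.mp t.2
      have h2 : ((t : G) * B.u) ^ 2 = 1 := by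
        rw [hcomm.mul_pow, ← hto, pow_orderOf_eq_one, one_mul, hto, ← B.hu, pow_orderOf_eq_one]
      have hne : (t : G) * B.u ≠ 1 := fun e => htu (by
        have hu2 : B.u * B.u = 1 := by rw [← pow_two, ← B.hu, pow_orderOf_eq_one]
        calc (t : G) = (t : G) * B.u * B.u := by rw [mul_assoc, hu2, mul_one]
          _ = B.u := by rw [e, one_mul])
      rw [orderOf_eq_prime h2 hne]
  set Nc := Nat.card (B.Np ⊓ Ct : Subgroup G) with hNc
  have h4 : 4 ∣ Nc := hVne.trans (Subgroup.card_dvd_of_le hV)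
  have h7 : 7 ∣ Nc := by
    rw [hNc, ← B.hP]
    exact Subgroup.card_dvd_of_le (le_inf Subgroup.le_normalizer htP)
  have hrow := List.all_eq_true.mp nc_arith Nc (Options.mem_divs (by norm_num)
    ((Subgroup.card_dvd_of_le inf_le_left).trans B.Np_dvd))
  have hNc168 : Nc = 168 := by
    simp only [Bool.or_eq_true, decide_eq_true_eq] at hrow
    rcases hrow with ((h | h) | h) | h
    · exact absurd (Nat.mod_eq_zero_of_dvd
        ((show Nat.Coprime 4 7 by norm_num).mul_dvd_of_dvd_of_dvd h4 h7)) h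
    · exact absurd (Nat.mod_eq_zero_of_dvd (Dvd.intro_left _ hk)) h
    · rw [← hk, Nat.mul_div_cancel _ (hNc ▸ Nat.card_pos)] at h
      exact absurd hmod h
    · exact h
  -- a Sylow subgroup of `C(P)` centralising `t`
  let R : Sylow 2 (B.Np ⊓ Ct : Subgroup G) := default
  set R' : Subgroup G := (R : Subgroup (B.Np ⊓ Ct : Subgroup G)).map (Subgroup.subtype _) with hR'
  have hR8 : Nat.card R' = 8 := by
    rw [hR', ← Nat.card_congr (Subgroup.equivMapOfInjective _ _ (Subgroup.subtype_injective _)).toEquiv]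
    simpa using Sylow.card_sylow_eq R (a := 3) (m := 21)
      (by rw [← hNc, hNc168]; norm_num) (by norm_num)
  have hRp : IsPGroup 2 R' := IsPGroup.of_card (n := 3) (by rw [hR8]; rfl)
  have hRle : R' ≤ B.Np ⊓ Ct := Subgroup.map_subtype_le _
  have hRC : R' ≤ B.Cp := by
    haveI : (B.Cp.subgroupOf B.Np).Normal :=
      Subgroup.normal_subgroupOf_centralizer_normalizer _
    have hd : B.Cp.relIndex R' ∣ B.e := by
      rw [← B.hrel]
      have h := Subgroup.relIndex_dvd_index_of_normal (H := B.Cp.subgroupOf B.Np)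
        (K := R'.subgroupOf B.Np)
      rw [Subgroup.relIndex_subgroupOf (hRle.trans inf_le_left)] at h
      exact h
    have h8 : B.Cp.relIndex R' ∣ 8 := hR8 ▸ Subgroup.relIndex_dvd_card _ _
    rw [he] at hd
    exact Subgroup.relIndex_eq_one.mp (Nat.dvd_one.mp ((Nat.dvd_gcd hd h8).trans (by norm_num)))
  have htR : (t : G) ∈ R' := by
    have hcz : Subgroup.zpowers (t : G) ≤ Subgroup.normalizer (R' : Set G) := by
      rw [Subgroup.zpowers_le, Subgroup.mem_normalizer_iff]
      intro a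
      have key : ∀ x ∈ R', (t : G) * x * (t : G)⁻¹ = x := fun x hx => by
        rw [← Subgroup.mem_centralizer_singleton_iff.mp (hRle hx).2]; group
      refine ⟨fun ha => by rwa [key a ha], fun ha => ?_⟩
      have := key _ ha
      rw [mul_left_cancel (mul_right_cancel this)] at ha
      exact ha
    have hsup := hRp.to_sup_of_normal_left'
      (IsPGroup.of_card (n := 1) (show Nat.card (Subgroup.zpowers (t : G)) = 2 ^ 1 by
        rw [Nat.card_zpowers, hto, pow_one])) hcz
    have hd := B.le_τ hsup (sup_le hRC (Subgroup.zpowers_le.mpr ht.2))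
    rw [B.tau_three he] at hd
    have heq := Subgroup.eq_of_le_of_card_ge (le_sup_left : R' ≤ R' ⊔ Subgroup.zpowers (t : G))
      (by rw [hR8]; exact Nat.le_of_dvd (by norm_num) hd)
    rw [heq]
    exact le_sup_right (α := Subgroup G) (Subgroup.mem_zpowers _)
  -- conjugate it onto `T`
  obtain ⟨R1, hR1⟩ := (hRp.of_equiv (Subgroup.subgroupOfEquivOfLe hRC).symm).exists_le_sylow
  have hTC : B.T ≤ B.Cp := inf_le_right
  have hT2 : IsPGroup 2 B.T := B.isPGroup_S1.to_le inf_le_left
  obtain ⟨T1, hT1⟩ := (hT2.of_equiv (Subgroup.subgroupOfEquivOfLe hTC).symm).exists_le_sylow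
  have hsyl : ∀ S : Sylow 2 B.Cp, Nat.card (S : Subgroup B.Cp) ≤ 8 := fun S => by
    rw [← B.tau_three he, Nat.card_congr (Subgroup.equivMapOfInjective _ _
      B.Cp.subtype_injective).toEquiv]
    refine Nat.le_of_dvd ?_ (B.le_τ (S.2.map _) (Subgroup.map_subtype_le _))
    rw [B.tau_three he]; norm_num
  have hTe := Subgroup.eq_of_le_of_card_ge hT1 (by
    rw [Nat.card_congr (Subgroup.subgroupOfEquivOfLe hTC).toEquiv, B.card_T, B.tau_three he]
    exact hsyl T1)
  obtain ⟨g, hg⟩ := MulAction.exists_smul_eq B.Cp R1 T1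
  have hmap : ∀ x ∈ R', (g : G) * x * (g : G)⁻¹ ∈ B.T := by
    intro x hx
    have hxC := hRC hx
    have hm : g * ⟨x, hxC⟩ * g⁻¹ ∈ (T1 : Subgroup B.Cp) := by
      rw [← hg, Sylow.coe_subgroup_smul, Subgroup.mem_pointwise_smul_iff_inv_smul_mem]
      simpa [MulAut.smul_def, mul_assoc] using hR1 (show (⟨x, hxC⟩ : B.Cp) ∈ R'.subgroupOf B.Cp from hx)
    rw [← hTe] at hm
    exact hm
  have hTimg : ∀ y ∈ B.T, ∃ x ∈ R', (g : G) * x * (g : G)⁻¹ = y := by
    intro y hy
    have heq : R'.map (MulAut.conj (g : G)).toMonoidHom = B.T := by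
      refine Subgroup.eq_of_le_of_card_ge (fun z ⟨x, hx, hz⟩ => hz ▸ hmap x hx) ?_
      rw [← Nat.card_congr (Subgroup.equivMapOfInjective _ _ (MulEquiv.injective _)).toEquiv, hR8,
        B.card_T, B.tau_three he]
    obtain ⟨x, hx, hxe⟩ := heq ▸ hy
    exact ⟨x, hx, hxe⟩
  set t' : B.Cu := ⟨(g : G) * t * (g : G)⁻¹, B.hS1u (hmap _ htR).1⟩ with ht'
  rcases B.center_Tc h168 he (a := t') (hmap _ htR) (fun b hb => by
    obtain ⟨x, hx, hxe⟩ := hTimg _ hb
    have hc := Subgroup.mem_centralizer_singleton_iff.mp (hRle hx).2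
    refine Subtype.ext ?_
    have hbe : (b : G) = (g : G) * x * (g : G)⁻¹ := hxe.symm
    simp only [Subgroup.coe_mul, ht', hbe]
    calc _ = (g : G) * ((t : G) * x) * (g : G)⁻¹ := by group
      _ = _ := by rw [← hc]; group) with h | h
  · exfalso
    have h1 : (g : G) * t * (g : G)⁻¹ = 1 := congrArg Subtype.val h
    exact ht1 (Subtype.ext (conj_eq_one_iff.mp h1))
  · refine ⟨(g : G)⁻¹, inv_mem g.2, ?_⟩
    have h1 : (g : G) * t * (g : G)⁻¹ = B.u := congrArg Subtype.val h
    rw [← h1]; group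

theorem not_simple_three : False := by
  classical
  haveI : Fact (Nat.Prime 2) := ⟨Nat.prime_two⟩
  haveI := Fintype.ofFinite B.Cp
  haveI := Fintype.ofFinite B.Cu
  set uC : B.Cp := ⟨B.u, B.huC⟩ with huCdef
  let Ω := {x : B.Cp // IsConj uC x}
  haveI : Fintype Ω := Fintype.ofFinite Ω
  -- the conjugation action on the class
  let act : B.Cp → Equiv.Perm Ω := fun a =>
    { toFun := fun x => ⟨a * x.1 * a⁻¹, x.2.trans (isConj_iff.mpr ⟨a, rfl⟩)⟩
      invFun := fun x => ⟨a⁻¹ * x.1 * a, x.2.trans (isConj_iff.mpr ⟨a⁻¹, by rw [inv_inv]⟩)⟩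
      left_inv := fun x => Subtype.ext (by simp [mul_assoc])
      right_inv := fun x => Subtype.ext (by simp [mul_assoc]) }
  have hmul : ∀ a b, act (a * b) = act a * act b := fun a b =>
    Equiv.ext fun x => Subtype.ext (by simp [act, mul_assoc])
  obtain ⟨y, hy, hy2⟩ := B.uc_square h168 he
  set yC : B.Cp := ⟨(y : G), hy.2⟩ with hyC
  have hyu : yC * yC = uC := Subtype.ext (by
    have := congrArg (fun v : B.Cu => (v : G)) hy2
    simpa [pow_two, uc] using this)
  have heven : Equiv.Perm.sign (act uC) = 1 := by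
    rw [show act uC = act yC * act yC by rw [← hmul]; exact congrArg act hyu.symm, map_mul]
    rcases Int.units_eq_one_or (Equiv.Perm.sign (act yC)) with h | h <;> rw [h] <;> rfl
  have hu2 : uC * uC = 1 := Subtype.ext (by
    show B.u * B.u = 1
    rw [← pow_two, ← B.hu, pow_orderOf_eq_one])
  have hσ2 : act uC ^ 2 = 1 := by
    rw [pow_two, ← hmul, hu2]
    exact Equiv.ext fun x => Subtype.ext (by simp [act])
  -- the five fixed points
  have hfix : (Finset.univ.filter fun x : Ω => act uC x = x).card = 5 := by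
    have h6 := B.card_roots h168 he
    rw [Nat.card_eq_fintype_card, Fintype.card_subtype] at h6
    have h5 : ((Finset.univ.filter fun t : B.Cu => t ∈ B.Tc ∧ t ^ 2 = 1).erase 1).card = 5 := by
      rw [Finset.card_erase_of_mem (by simp), h6]
    rw [← h5]
    have hcu : ∀ x : Ω, act uC x = x → ((x.1 : B.Cp) : G) ∈ B.Cu := fun x hx => by
      rw [Cu, Subgroup.mem_centralizer_singleton_iff]
      exact (congrArg Subtype.val (mul_inv_eq_iff_eq_mul.mp (congrArg Subtype.val hx))).symm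
    refine Finset.card_bij (fun x hx => (⟨((x.1 : B.Cp) : G), hcu x (Finset.mem_filter.mp hx).2⟩ : B.Cu))
      ?_ ?_ ?_
    · intro x hx
      have hxc := hcu x (Finset.mem_filter.mp hx).2
      set x' : B.Cu := ⟨((x.1 : B.Cp) : G), hxc⟩
      obtain ⟨c, hc⟩ := isConj_iff.mp x.2
      have hx2 : x' ^ 2 = 1 := Subtype.ext (by
        rw [SubmonoidClass.coe_pow, OneMemClass.coe_one]
        show ((x.1 : B.Cp) : G) ^ 2 = 1
        rw [← SubmonoidClass.coe_pow, ← hc, conj_pow, pow_two, hu2]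
        simp)
      have hx1 : x' ≠ 1 := fun h => by
        have h' : ((x.1 : B.Cp) : G) = 1 := congrArg Subtype.val h
        rw [← hc] at h'
        have h'' : B.u = 1 := congrArg Subtype.val
          (conj_eq_one_iff.mp (Subtype.ext h' : c * uC * c⁻¹ = 1))
        have hou := B.hu
        rw [h'', orderOf_one] at hou
        omega
      obtain ⟨w, hw, hwe⟩ := B.exists_perm_eq B.pt (a := x') x.1.2
      have hker : B.perm x' = 1 := by
        have h7 : B.perm x' ^ 7 = 1 := by
          rw [hwe, ← map_pow, show w ^ 7 = 1 from Subtype.ext (by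
            rw [SubmonoidClass.coe_pow, OneMemClass.coe_one]
            exact FixedSylow.pow_eq_one B.P B.hP hw), map_one]
        have h2 : B.perm x' ^ 2 = 1 := by rw [← map_pow, hx2, map_one]
        have := pow_gcd_eq_one.mpr ⟨h2, h7⟩
        simpa using this
      have hxT : x' ∈ B.Tc := by rw [← (B.card_Cu_eq h168 he).2]; exact hker
      simp [Finset.mem_erase, hx1, hxT, hx2]
    · intro a _ b _ hab
      exact Subtype.ext (Subtype.ext (congrArg (fun v : B.Cu => (v : G)) hab))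
    · intro t ht
      simp only [Finset.mem_erase, Finset.mem_filter, Finset.mem_univ, true_and] at ht
      obtain ⟨c, hcC, hc⟩ := B.conj_u_Cp h168 he ht.2.1 ht.2.2 ht.1
      refine ⟨⟨⟨(t : G), ht.2.1.2⟩, isConj_iff.mpr ⟨⟨c, hcC⟩, Subtype.ext hc⟩⟩,
        Finset.mem_filter.mpr ⟨Finset.mem_univ _, ?_⟩, rfl⟩
      refine Subtype.ext (Subtype.ext ?_)
      show B.u * (t : G) * B.u⁻¹ = (t : G)
      rw [← Subgroup.mem_centralizer_singleton_iff.mp t.2]; group
  -- the class has fifteen members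
  have hΩ : Fintype.card Ω = 15 := by
    have h := Counting.card_isConj_mul uC
    have hcC : Nat.card (Subgroup.centralizer ({uC} : Set B.Cp)) = 56 := by
      have he1 : Nat.card (Subgroup.centralizer ({uC} : Set B.Cp)) =
          Nat.card (B.Cp.subgroupOf B.Cu) := by
        refine Nat.card_congr
          { toFun := fun a => ⟨⟨(a.1 : G), ?_⟩, a.1.2⟩
            invFun := fun a => ⟨⟨(a.1 : G), a.2⟩, ?_⟩
            left_inv := fun a => rfl
            right_inv := fun a => rfl }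
        · exact Subgroup.mem_centralizer_singleton_iff.mpr
            (congrArg Subtype.val (Subgroup.mem_centralizer_singleton_iff.mp a.2))
        · exact Subgroup.mem_centralizer_singleton_iff.mpr (Subtype.ext
            (Subgroup.mem_centralizer_singleton_iff.mp a.1.2))
      rw [he1]
      have h1 := card_map_mul B.perm (B.Cp.subgroupOf B.Cu)
      have hi : B.Cp.subgroupOf B.Cu ⊓ B.perm.ker = B.Tc := by
        rw [(B.card_Cu_eq h168 he).2]
        exact inf_eq_right.mpr fun a ha => ha.2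
      have hm : (B.Cp.subgroupOf B.Cu).map B.perm =
          ((B.P : Subgroup G).subgroupOf B.Cu).map B.perm := by
        refine le_antisymm ?_ (Subgroup.map_mono fun a (ha : (a : G) ∈ (B.P : Subgroup G)) => ?_)
        · rintro _ ⟨a, ha, rfl⟩
          obtain ⟨w, hw, hwe⟩ := B.exists_perm_eq B.pt ha
          exact ⟨w, hw, hwe.symm⟩
        · change (a : G) ∈ B.Cp
          rw [Cp, Subgroup.mem_centralizer_iff]
          intro b hb
          haveI := isCyclic_of_prime_card (B.card_sylow B.P)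
          exact congrArg Subtype.val ((IsCyclic.commGroup (α := (B.P : Subgroup G))).mul_comm
            ⟨b, hb⟩ ⟨(a : G), ha⟩)
      have hp7 := card_map_mul B.perm ((B.P : Subgroup G).subgroupOf B.Cu)
      have hbot : ((B.P : Subgroup G).subgroupOf B.Cu ⊓ B.perm.ker) = ⊥ :=
        (Subgroup.eq_bot_iff_forall _).mpr fun a ha =>
          B.perm_eq_one_of_mem (Q := B.pt) ha.1 ha.2
      rw [hbot, Nat.card_congr (Subgroup.subgroupOfEquivOfLe B.P_le).toEquiv, B.card_sylow,
        Subgroup.card_bot, mul_one] at hp7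
      rw [hi, hm, hp7, B.card_Tc, B.tau_three he] at h1
      omega
    rw [hcC, B.card_Cp, Nat.card_eq_fintype_card] at h
    have h5 : 5 ≤ Fintype.card Ω := by rw [← hfix]; exact Finset.card_le_univ _
    change Fintype.card Ω * 56 = 7 * B.V at h
    rcases B.heV with ⟨-, hV | hV⟩ | ⟨h6, -⟩
    · rw [hV] at h; omega
    · rw [hV] at h; omega
    · omega
  have := (Perm8.sign_involution hσ2).mp heven
  rw [hfix, hΩ] at this
  norm_num at this

end Simple

end Eight

end Cfsg.Agent.Lib.RecogM22.Seven
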