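import Cfsg.Agent.Lib.RecogM22.LocalFrame

/-!
The subgroup of order `16` with normaliser of order `5760`, when every core centralises its four-group.

Owner: helper41.
-/

set_option autoImplicit false
set_option linter.style.haveILetI false
set_option linter.unusedSectionVars false

universe u

namespace Cfsg.Agent.Lib.RecogM22.Local

open Subgroup

variable {G : Type u} [Group G] [Finite G]

/-- A group of order nine on a set whose size nine does not divide fixes a point by an element of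
order three. -/
theorem exists_fixed {P : Subgroup G} (hP : Nat.card P = 9) {S : Set G}
    (hS : ∀ p ∈ P, ∀ s ∈ S, p * s * p⁻¹ ∈ S) (h9 : ¬ 9 ∣ S.ncard) :
    ∃ s ∈ S, ∃ g ∈ P, orderOf g = 3 ∧ g * s = s * g := by
  by_contra hcon
  push Not at hcon
  letI : MulAction P S :=
    { smul := fun p s => ⟨p.1 * s.1 * p.1⁻¹, hS p.1 p.2 s.1 s.2⟩
      one_smul := fun s => Subtype.ext (show (1 : G) * s.1 * 1⁻¹ = s.1 by simp)
      mul_smul := fun p q s => Subtype.ext (show (p.1 * q.1) * s.1 * (p.1 * q.1)⁻¹ =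
        p.1 * (q.1 * s.1 * q.1⁻¹) * p.1⁻¹ by group) }
  refine h9 ?_
  rw [← Nat.card_coe_set_eq, Nat.card_congr (MulAction.selfEquivOrbitsQuotientProd (G := P) ?_),
    Nat.card_prod, hP]
  · exact dvd_mul_left _ _
  intro s
  rw [Subgroup.eq_bot_iff_forall]
  intro p hp
  by_contra hp1
  have hfix : Commute p.1 s.1 := conj_eq_self.1 (congrArg Subtype.val (MulAction.mem_stabilizer_iff.1 hp))
  have hord := hP ▸ orderOf_dvd_natCard P p.2
  obtain ⟨i, hi, hoi⟩ := (Nat.dvd_prime_pow Nat.prime_three).1 (show orderOf p.1 ∣ 3 ^ 2 by simpa using hord)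
  interval_cases i
  · exact hp1 (Subtype.ext (orderOf_eq_one_iff.1 (by simpa using hoi)))
  · exact hcon s.1 s.2 p.1 p.2 (by simpa using hoi) hfix.eq
  · refine hcon s.1 s.2 _ (pow_mem p.2 3) ?_ (hfix.pow_left 3).eq
    rw [orderOf_pow, hoi]
    norm_num

/-- A fixed-point-free element of order three moves a nontrivial element of a four-group everywhere. -/
theorem cycle {U : Subgroup G} (hU : Nat.card U = 4) {h : G} (hh : orderOf h = 3)
    (hn : ∀ u ∈ U, h * u * h⁻¹ ∈ U) (hm : ∀ u ∈ U, u ≠ 1 → h * u * h⁻¹ ≠ u) {u v : G} (hu : u ∈ U)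
    (hu1 : u ≠ 1) (hv : v ∈ U) (hv1 : v ≠ 1) : ∃ i : ℕ, h ^ i * u * (h ^ i)⁻¹ = v := by
  by_contra hcon
  push Not at hcon
  have h0 : u ≠ v := fun e => hcon 0 (by simp [e])
  have h1 : h * u * h⁻¹ ≠ v := by simpa using hcon 1
  set w := h * u * h⁻¹
  have hw : w ∈ U := hn u hu
  have hw1 : w ≠ 1 := by simpa [w] using hu1
  have h2 : h * w * h⁻¹ ≠ v := fun e => hcon 2 (by rw [← e, pow_two]; simp only [w]; group)
  have h3 : h * w * h⁻¹ ≠ u := fun e => by
    refine hm w hw hw1 ?_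
    have hc : (h * h * h) * u * (h * h * h)⁻¹ = u := by
      rw [show h * h * h = h ^ 3 by simp [pow_succ], ← hh, pow_orderOf_eq_one]
      simp
    calc h * w * h⁻¹ = u := e
      _ = h * (h * w * h⁻¹) * h⁻¹ := by
        refine hc.symm.trans ?_
        simp only [w]; group
      _ = w := by rw [e]
  have hsub : ({1, u, w, h * w * h⁻¹, v} : Set G) ⊆ U := by
    rintro z (rfl | rfl | rfl | rfl | rfl)
    exacts [one_mem _, hu, hw, hn w hw, hv]
  have hle := Set.ncard_le_ncard hsub (Set.toFinite _)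
  have hwu : w ≠ u := hm u hu hu1
  have hww : h * w * h⁻¹ ≠ w := hm w hw hw1
  have hw21 : h * w * h⁻¹ ≠ 1 := by simpa using hw1
  rw [Set.ncard_insert_of_notMem (by simp [hu1.symm, hw1.symm, hw21.symm, hv1.symm]),
    Set.ncard_insert_of_notMem (by simp [hwu.symm, h3.symm, h0]),
    Set.ncard_insert_of_notMem (by simp [hww.symm, h1]),
    Set.ncard_insert_of_notMem (by simp [h2]), Set.ncard_singleton, ← Nat.card_coe_set_eq] at hle
  have : Nat.card ↥(U : Set G) = 4 := hU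
  omega

variable (D : LocalData G) {t x a : G} {U P O : Subgroup G} (F : Frame t x U P O a)
include D F

theorem comm_P {p q : G} (hp : p ∈ P) (hq : q ∈ P) : p * q = q * p := by
  haveI : Fact (Nat.Prime 3) := ⟨Nat.prime_three⟩
  exact congrArg Subtype.val ((IsPGroup.isMulCommutative_of_card_eq_prime_sq
    (p := 3) (G := P) (by rw [F.cardP]; norm_num)).is_comm.comm ⟨p, hp⟩ ⟨q, hq⟩)

theorem P_eq {h : G} (hP : h ∈ P) (hx : h ∉ zpowers x) : zpowers x ⊔ zpowers h = P := by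
  have hle : zpowers x ⊔ zpowers h ≤ P := sup_le (zpowers_le.2 F.xP) (zpowers_le.2 hP)
  refine eq_of_le_of_card_ge hle ?_
  rw [F.cardP]
  have hd := F.cardP ▸ card_dvd_of_le hle
  obtain ⟨i, hi, hoi⟩ := (Nat.dvd_prime_pow Nat.prime_three).1
    (show Nat.card ↥(zpowers x ⊔ zpowers h) ∣ 3 ^ 2 by simpa using hd)
  have h3 : 3 ≤ Nat.card ↥(zpowers x ⊔ zpowers h) := by
    have := card_le_of_le (le_sup_left : zpowers x ≤ zpowers x ⊔ zpowers h)
    rwa [Nat.card_zpowers, F.hx] at this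
  interval_cases i
  · omega
  · exfalso
    have : zpowers x = zpowers x ⊔ zpowers h :=
      eq_of_le_of_card_ge le_sup_left (by rw [Nat.card_zpowers, F.hx, hoi]; norm_num)
    exact hx (this ▸ mem_sup_right (mem_zpowers h))
  · omega

/-- An element of `P` outside `⟨x⟩` fixes no involution of `U`. -/
theorem no_fix {h : G} (hP : h ∈ P) (hx : h ∉ zpowers x) {u : G} (hu : u ∈ U) (h1 : u ≠ 1) :
    h * u * h⁻¹ ≠ u := fun e => by
  refine not_comm_nine D F.ht F.hx F.comm F.cardP (orderOf_two_of (F.sqU u hu) h1) ?_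
  rw [← P_eq D F hP hx]
  exact sup_le (zpowers_le.2 (mem_cs.2 (F.Ux u hu).symm)) (zpowers_le.2 (mem_cs.2 (conj_eq_self.1 e)))

variable (hC : O ≤ centralizer (U : Set G))
include hC

theorem comm_OU {o u : G} (ho : o ∈ O) (hu : u ∈ U) : u * o = o * u :=
  mem_centralizer_iff.1 (hC ho) u hu

theorem P_O : ∀ p ∈ P, ∀ o ∈ O, p * o * p⁻¹ ∈ O := by
  intro p hp o ho
  refine conj_le_O D F (isPGroup_O D F) (F.Px p hp) (x_conj D F) (fun q hq => ?_) o ho
  have hu : p⁻¹ * t * p ∈ U := by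
    simpa using (mem_normalizer_iff.1 (inv_mem (mem_normalizer_of_conj D F (F.normU p (F.Px p hp)))) t).1 F.tU
  calc p * q * p⁻¹ * t = p * (q * (p⁻¹ * t * p)) * p⁻¹ := by group
    _ = p * ((p⁻¹ * t * p) * q) * p⁻¹ := by rw [comm_OU D F hC hq hu]
    _ = t * (p * q * p⁻¹) := by group

/-- A fixed point of an element of `P` of order three in the core gives a four-group in the core. -/
theorem four_of_fix {g v : G} (hgP : g ∈ P) (hg : orderOf g = 3) (hgx : g ∉ zpowers x) (hv : v ∈ O)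
    (hv1 : v ≠ 1) (hgv : g * v = v * g) : ∃ t' U' P' O' a', Frame t' g U' P' O' a' ∧ U' ≤ O ∧
      v ∈ U' ∧ ∀ u ∈ U', x * u * x⁻¹ ∈ U' := by
  haveI : Fact (Nat.Prime 3) := ⟨Nat.prime_three⟩
  set A := O ⊓ centralizer ({g} : Set G)
  have hA2 : IsPGroup 2 A := (isPGroup_O D F).to_le inf_le_left
  have hxA : ∀ q ∈ A, x * q * x⁻¹ ∈ A := by
    intro q hq
    refine ⟨x_conj D F q hq.1, mem_cs.2 ?_⟩
    have hxg : Commute x g := comm_P D F F.xP hgP
    have hqg : Commute q g := mem_cs.1 hq.2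
    exact ((hxg.mul_left hqg).mul_left hxg.inv_left).eq
  have hvA : v ∈ A := ⟨hv, mem_cs.2 hgv.symm⟩
  obtain ⟨w, hw⟩ : ∃ w : A, orderOf w = 2 := by
    haveI : Fact (Nat.Prime 2) := ⟨Nat.prime_two⟩
    refine exists_prime_orderOf_dvd_card' 2 ?_
    obtain ⟨n, hn⟩ := IsPGroup.iff_card.1 hA2
    rw [hn]
    refine dvd_pow_self 2 fun e => hv1 ?_
    have : Subsingleton A := (Nat.card_eq_one_iff_unique.1 (by rw [hn, e, pow_zero])).1
    exact congrArg Subtype.val (Subsingleton.elim (⟨v, hvA⟩ : A) 1)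
  have hwt : orderOf w.1 = 2 := by rw [← hw]; exact Subgroup.orderOf_coe w
  obtain ⟨U', P', O', a', F'⟩ := exists_frame D hwt hg (mem_cs.1 w.2.2).symm
  have hAU : A ≤ U' := by
    intro q hq
    obtain ⟨j, hj⟩ := hA2 ⟨q, hq⟩
    exact F'.maxU q j (mem_cs.1 hq.2) (orderOf_dvd_of_pow_eq_one (congrArg Subtype.val hj))
  have hmod := card_modEq (isPGroup_three F.hx) (conj_zpowers hxA)
  have hbot : A ⊓ centralizer (zpowers x : Set G) = ⊥ := by
    rw [Subgroup.eq_bot_iff_forall]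
    rintro q ⟨⟨hqO, hqg⟩, hqx⟩
    have hqU : q ∈ U := by
      rw [← inf_cent_eq_U D F (Q := O) le_rfl (U_le_O D F)]
      exact ⟨hqO, hqx⟩
    by_contra hq1
    exact no_fix D F hgP hgx hqU hq1 (conj_eq_self.2 (mem_cs.1 hqg).symm)
  rw [hbot, Subgroup.card_bot] at hmod
  have h2 : 2 ≤ Nat.card A := by
    have := Nat.le_of_dvd Nat.card_pos (hw ▸ orderOf_dvd_natCard w : 2 ∣ Nat.card A)
    exact this
  have h4 := F'.cardU ▸ card_dvd_of_le hAU
  have hA : A = U' := eq_of_le_of_card_ge hAU (by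
    rw [F'.cardU]
    have := Nat.le_of_dvd (by norm_num) h4
    interval_cases hc : Nat.card A <;> first | omega | simp [Nat.ModEq] at hmod)
  exact ⟨w.1, U', P', O', a', F', hA ▸ inf_le_left, hA ▸ hvA, hA ▸ hxA⟩

omit hC in
theorem conj_U {g : G} (hg : g * x = x * g) : ∀ u ∈ U, g * u * g⁻¹ ∈ U := F.normU g hg

theorem exists_pair : ∃ (h t' a' : G) (U' P' O' : Subgroup G), h ∈ P ∧ h ∉ zpowers x ∧
    Frame t' h U' P' O' a' ∧ U' ≤ O ∧ (∀ u ∈ U', x * u * x⁻¹ ∈ U') := by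
  have hS : ∀ p ∈ P, ∀ s ∈ (O : Set G) \ U, p * s * p⁻¹ ∈ (O : Set G) \ U := fun p hp s hs =>
    ⟨P_O D F hC p hp s hs.1, fun h => hs.2 (by
      have := conj_U D F (g := p⁻¹) ((show Commute p x from F.Px p hp).inv_left).eq _ h
      rwa [show p⁻¹ * (p * s * p⁻¹) * p⁻¹⁻¹ = s by group] at this)⟩
  obtain ⟨v, ⟨hv, hvU⟩, g, hgP, hg, hgv⟩ := exists_fixed F.cardP hS (by
    rw [Set.ncard_sdiff (U_le_O D F), ← Nat.card_coe_set_eq, ← Nat.card_coe_set_eq]
    have h1 : Nat.card ↥(U : Set G) = 4 := F.cardU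
    have h2 : Nat.card ↥(O : Set G) = 64 := F.core.card
    rw [h1, h2]
    norm_num)
  have hgx : g ∉ zpowers x := fun h => hvU (by
    have hx' := zpow_ne_one F.hx h (fun e => by rw [e, orderOf_one] at hg; omega)
    obtain ⟨i, hi⟩ := mem_zpowers_iff.1 hx'
    rw [← inf_cent_eq_U D F (Q := O) le_rfl (U_le_O D F)]
    refine ⟨hv, ?_⟩
    rw [SetLike.mem_coe, centralizer_zpowers']
    exact mem_cs.2 (hi ▸ ((show Commute g v from hgv).zpow_left i).eq).symm)
  obtain ⟨t', U', P', O', a', F', h1, -, h3⟩ := four_of_fix D F hC hgP hg hgx hv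
    (fun e => hvU (e ▸ one_mem _)) hgv
  exact ⟨g, t', a', U', P', O', hgP, hgx, F', h1, h3⟩

omit hC in
theorem P_eq' {g h : G} (hh : orderOf h = 3) (hhP : h ∈ P) (hgP : g ∈ P) (hgh : g ∉ zpowers h) :
    zpowers h ⊔ zpowers g = P := by
  have hle : zpowers h ⊔ zpowers g ≤ P := sup_le (zpowers_le.2 hhP) (zpowers_le.2 hgP)
  refine eq_of_le_of_card_ge hle ?_
  rw [F.cardP]
  have hd := F.cardP ▸ card_dvd_of_le hle
  obtain ⟨i, hi, hoi⟩ := (Nat.dvd_prime_pow Nat.prime_three).1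
    (show Nat.card ↥(zpowers h ⊔ zpowers g) ∣ 3 ^ 2 by simpa using hd)
  have h3 : 3 ≤ Nat.card ↥(zpowers h ⊔ zpowers g) := by
    have := card_le_of_le (le_sup_left : zpowers h ≤ zpowers h ⊔ zpowers g)
    rwa [Nat.card_zpowers, hh] at this
  interval_cases i
  · omega
  · exfalso
    have : zpowers h = zpowers h ⊔ zpowers g :=
      eq_of_le_of_card_ge le_sup_left (by rw [Nat.card_zpowers, hh, hoi]; norm_num)
    exact hgh (this ▸ mem_sup_right (mem_zpowers g))
  · omega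

omit hC in
theorem cent_x_eq : centralizer ({x} : Set G) = U ⊔ P := by
  have hle : U ⊔ P ≤ centralizer ({x} : Set G) :=
    sup_le (fun u hu => mem_cs.2 (F.Ux u hu)) fun p hp => mem_cs.2 (F.Px p hp)
  refine (eq_of_le_of_card_ge hle ?_).symm
  rw [D.centR x t F.hx F.ht F.comm]
  refine Nat.le_of_dvd Nat.card_pos ?_
  rw [show (36 : ℕ) = 4 * 9 by norm_num]
  exact (show Nat.Coprime 4 9 by norm_num).mul_dvd_of_dvd_of_dvd
    (F.cardU ▸ card_dvd_of_le le_sup_left) (F.cardP ▸ card_dvd_of_le le_sup_right)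

omit hC in
/-- A group of order `2880` cannot contain `C(x)` without inverting `x`. -/
theorem no_small {N : Subgroup G} (hN : Nat.card N = 2880) (hCN : centralizer ({x} : Set G) ≤ N)
    (hinv : ∀ g ∈ N, g * x * g⁻¹ ≠ x⁻¹) : False := by
  classical
  haveI : Fact (Nat.Prime 5) := ⟨by norm_num⟩
  obtain ⟨⟨y, hyN⟩, hy'⟩ := exists_prime_orderOf_dvd_card' (G := N) 5 (by rw [hN]; norm_num)
  have hy : orderOf y = 5 := by rwa [orderOf_mk] at hy'
  -- `y` is conjugate in `N` to none of its other powers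
  set R := zpowers y
  set M := N ⊓ normalizer (R : Set G)
  have hR : Nat.card R = 5 := by rw [Nat.card_zpowers, hy]
  have hRN : R ≤ N := zpowers_le.2 hyN
  have hM : Nat.card M = 5 := by
    have h := Sylow.card_normalizer_modEq_card (p := 5) (n := 1) (G := N) (H := R.subgroupOf N) (by
      rw [Nat.card_congr (subgroupOfEquivOfLe hRN).toEquiv, hR, pow_one])
    rw [hN, ← subgroupOf_normalizer_eq hRN] at h
    have he : Nat.card ↥((normalizer (R : Set G)).subgroupOf N) = Nat.card M :=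
      Nat.card_congr ⟨fun g => ⟨g.1.1, g.1.2, g.2⟩, fun g => ⟨⟨g.1, g.2.1⟩, g.2.2⟩, fun _ => rfl,
        fun _ => rfl⟩
    rw [he] at h
    have h1 := orbit_ncard (Q := M) y
    have h2 : Nat.card ↥(M ⊓ centralizer ({y} : Set G)) = 5 := by
      refine le_antisymm ?_ ?_
      · rw [← hR]
        exact Nat.le_of_dvd Nat.card_pos (card_dvd_of_le fun g hg => D.five y g hy (mem_cs.1 hg.2).symm)
      · refine Nat.le_of_dvd Nat.card_pos ?_
        rw [← hy]
        exact orderOf_dvd_natCard _ ⟨⟨hyN, le_normalizer (mem_zpowers y)⟩, mem_cs.2 rfl⟩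
    have h3 : {u : G | ∃ g ∈ M, g * y * g⁻¹ = u}.ncard ≤ 4 := by
      have hs : {u : G | ∃ g ∈ M, g * y * g⁻¹ = u} ⊆ (R : Set G) \ {1} := by
        rintro _ ⟨g, hg, rfl⟩
        refine ⟨(mem_normalizer_iff.1 hg.2 y).1 (mem_zpowers y), fun e => ?_⟩
        rw [conj_eq_one_iff.1 (Set.mem_singleton_iff.1 e), orderOf_one] at hy
        omega
      refine (Set.ncard_le_ncard hs (Set.toFinite _)).trans (le_of_eq ?_)
      rw [Set.ncard_sdiff (Set.singleton_subset_iff.2 (one_mem R)), ← Nat.card_coe_set_eq,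
        Set.ncard_singleton]
      exact congrArg (· - 1) hR
    rw [h2] at h1
    rw [← h1] at h ⊢
    simp only [Nat.ModEq] at h
    omega
  have hRM : R = M :=
    eq_of_le_of_card_ge (le_inf hRN le_normalizer) (by rw [hR, hM])
  set Y : Fin 4 → Set G := fun i => {u : G | ∃ g ∈ N, g * y ^ (i.1 + 1) * g⁻¹ = u}
  have hord : ∀ i : Fin 4, orderOf (y ^ (i.1 + 1)) = 5 := fun i => by
    rw [orderOf_pow, hy]
    fin_cases i <;> norm_num
  have hY : ∀ i, (Y i).ncard = 576 := by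
    intro i
    have h := orbit_ncard (Q := N) (y ^ (i.1 + 1))
    have hc : Nat.card ↥(N ⊓ centralizer ({y ^ (i.1 + 1)} : Set G)) = 5 := by
      refine le_antisymm ?_ ?_
      · rw [← hord i, ← Nat.card_zpowers]
        exact Nat.le_of_dvd Nat.card_pos
          (card_dvd_of_le fun g hg => D.five _ g (hord i) (mem_cs.1 hg.2).symm)
      · refine Nat.le_of_dvd Nat.card_pos ?_
        rw [← hy]
        exact orderOf_dvd_natCard _ ⟨hyN, mem_cs.2 ((Commute.refl y).pow_right _).eq⟩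
    rw [hc, hN] at h
    change (Y i).ncard * 5 = 2880 at h
    omega
  have hYd : ∀ i j, i ≠ j → Disjoint (Y i) (Y j) := by
    intro i j hij
    refine Set.disjoint_left.2 ?_
    rintro _ ⟨g, hg, rfl⟩ ⟨k, hk, he⟩
    have hm : (k⁻¹ * g) * y ^ (i.1 + 1) * (k⁻¹ * g)⁻¹ = y ^ (j.1 + 1) := by
      rw [show (k⁻¹ * g) * y ^ (i.1 + 1) * (k⁻¹ * g)⁻¹ = k⁻¹ * (g * y ^ (i.1 + 1) * g⁻¹) * k by group,
        ← he]
      group
    have hgen : ∀ l : Fin 4, zpowers (y ^ (l.1 + 1)) = R := fun l =>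
      eq_of_le_of_card_ge (zpowers_le.2 (pow_mem (mem_zpowers y) _))
        (by rw [hR, Nat.card_zpowers, hord])
    have hn : k⁻¹ * g ∈ normalizer (R : Set G) := by
      refine mem_normalizer_fintype fun r hr => ?_
      rw [← hgen i] at hr
      obtain ⟨l, rfl⟩ := mem_zpowers_iff.1 hr
      rw [← conj_zpow, hm]
      exact SetLike.mem_coe.2 (zpow_mem (pow_mem (mem_zpowers y) _) l)
    have hmem : k⁻¹ * g ∈ R := by rw [hRM]; exact ⟨N.mul_mem (N.inv_mem hk) hg, hn⟩
    obtain ⟨l, hl⟩ := mem_zpowers_iff.1 hmem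
    rw [← hl, conj_eq_self.2 (((Commute.refl y).zpow_left l).pow_right _).eq] at hm
    have := pow_injOn_Iio_orderOf (x := y) (by rw [hy]; exact Set.mem_Iio.2 (by omega))
      (by rw [hy]; exact Set.mem_Iio.2 (by omega)) hm
    exact hij (Fin.ext (by omega))
  -- the conjugates of `x` and `x⁻¹` times their four-groups
  set Z : G → Set G := fun z => {u : G | ∃ g ∈ N, g * z * g⁻¹ = u}
  have hZ : ∀ z, z = x ∨ z = x⁻¹ → (Z z).ncard = 80 := by
    intro z hz
    have h := orbit_ncard (Q := N) z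
    have hcc : centralizer ({z} : Set G) = centralizer ({x} : Set G) := by
      rcases hz with rfl | rfl
      · rfl
      · ext g
        exact ⟨fun h => mem_cs.2 (by simpa using (show Commute g x⁻¹ from mem_cs.1 h).inv_right.eq),
          fun h => mem_cs.2 ((show Commute g x from mem_cs.1 h).inv_right).eq⟩
    rw [hcc, inf_eq_right.2 hCN, D.centR x t F.hx F.ht F.comm, hN] at h
    change (Z z).ncard * 36 = 2880 at h
    omega
  have hZd : Disjoint (Z x) (Z x⁻¹) := by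
    refine Set.disjoint_left.2 ?_
    rintro _ ⟨g, hg, rfl⟩ ⟨k, hk, he⟩
    refine hinv (k⁻¹ * g) (mul_mem (inv_mem hk) hg) ?_
    rw [show (k⁻¹ * g) * x * (k⁻¹ * g)⁻¹ = k⁻¹ * (g * x * g⁻¹) * k by group, ← he]
    group
  have hex : ∀ z : ↥(Z x ∪ Z x⁻¹), ∃ g ∈ N, ∃ b : G, (b = x ∨ b = x⁻¹) ∧ g * b * g⁻¹ = z.1 := by
    rintro ⟨z, ⟨g, hg, h⟩ | ⟨g, hg, h⟩⟩
    · exact ⟨g, hg, x, Or.inl rfl, h⟩
    · exact ⟨g, hg, x⁻¹, Or.inr rfl, h⟩
  choose g hg b hb hgb using hex
  let f : ↥(Z x ∪ Z x⁻¹) × U → G := fun q => g q.1 * (b q.1 * q.2.1) * (g q.1)⁻¹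
  have hx3 : x ^ 3 = 1 := by rw [← F.hx]; exact pow_orderOf_eq_one x
  have hb4 : ∀ z, b z ^ 4 = b z := fun z => by
    rcases hb z with h | h <;> rw [h]
    · rw [pow_succ, hx3, one_mul]
    · rw [pow_succ, inv_pow, hx3, inv_one, one_mul]
  have hf4 : ∀ q, f q ^ 4 = q.1.1 := fun q => by
    have hc : Commute (b q.1) q.2.1 := by
      rcases hb q.1 with h | h <;> rw [h]
      · exact (F.Ux _ q.2.2).symm
      · exact (show Commute x q.2.1 from (F.Ux _ q.2.2).symm).inv_left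
    have hu : q.2.1 ^ 4 = 1 := by
      rw [show (4 : ℕ) = 2 * 2 from rfl, pow_mul, pow_two q.2.1, F.sqU _ q.2.2, one_pow]
    simp only [f]
    rw [conj_pow, hc.mul_pow, hb4, hu, mul_one, hgb]
  have hf : Function.Injective f := by
    intro q r h
    have h1 : q.1 = r.1 := Subtype.ext (by rw [← hf4 q, ← hf4 r, h])
    refine Prod.ext h1 (Subtype.ext ?_)
    simp only [f, h1] at h
    simpa using h
  have hfY : ∀ i, Disjoint (Set.range f) (Y i) := by
    intro i
    refine Set.disjoint_left.2 ?_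
    rintro _ ⟨q, rfl⟩ ⟨k, -, hk⟩
    have h5 : f q ^ 5 = 1 := by
      rw [← hk, conj_pow, show (y ^ (i.1 + 1)) ^ 5 = 1 by rw [← hord i]; exact pow_orderOf_eq_one _]
      group
    have h12 : f q ^ 12 = 1 := by
      rw [show (12 : ℕ) = 4 * 3 from rfl, pow_mul, hf4, ← hgb q.1, conj_pow]
      rcases hb q.1 with h | h <;> rw [h]
      · rw [hx3]; group
      · rw [inv_pow, hx3]; group
    have hone : f q = 1 := by
      calc f q = f q ^ (5 * 5) * ((f q ^ 12) ^ 2)⁻¹ := by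
            rw [← pow_mul, show 5 * 5 = 12 * 2 + 1 from rfl, pow_succ', mul_inv_cancel_right]
        _ = 1 := by rw [pow_mul, h5, one_pow, h12, one_pow, inv_one, mul_one]
    rw [hone, conj_eq_one_iff] at hk
    have := hord i
    rw [hk, orderOf_one] at this
    omega
  have hsub : Set.range f ∪ Y 0 ∪ Y 1 ∪ Y 2 ∪ Y 3 ⊆ (N : Set G) := by
    rintro m ((((⟨q, rfl⟩ | ⟨k, hk, rfl⟩) | ⟨k, hk, rfl⟩) | ⟨k, hk, rfl⟩) | ⟨k, hk, rfl⟩)
    · refine mul_mem (mul_mem (hg _) (mul_mem ?_ ?_)) (inv_mem (hg _))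
      · rcases hb q.1 with h | h <;> rw [h]
        · exact hCN (mem_cs.2 rfl)
        · exact inv_mem (hCN (mem_cs.2 rfl))
      · exact hCN (mem_cs.2 (F.Ux _ q.2.2))
    all_goals exact mul_mem (mul_mem hk (pow_mem hyN _)) (inv_mem hk)
  have hle := Set.ncard_le_ncard hsub (Set.toFinite _)
  rw [Set.ncard_union_eq (Set.disjoint_union_left.2 ⟨Set.disjoint_union_left.2 ⟨Set.disjoint_union_left.2
      ⟨hfY 3, hYd 0 3 (by decide)⟩, hYd 1 3 (by decide)⟩, hYd 2 3 (by decide)⟩),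
    Set.ncard_union_eq (Set.disjoint_union_left.2 ⟨Set.disjoint_union_left.2 ⟨hfY 2,
      hYd 0 2 (by decide)⟩, hYd 1 2 (by decide)⟩),
    Set.ncard_union_eq (Set.disjoint_union_left.2 ⟨hfY 1, hYd 0 1 (by decide)⟩),
    Set.ncard_union_eq (hfY 0), hY, hY, hY, hY, Set.ncard_range_of_injective hf, Nat.card_prod,
    Nat.card_coe_set_eq, Set.ncard_union_eq hZd, hZ x (Or.inl rfl), hZ x⁻¹ (Or.inr rfl), F.cardU,
    ← Nat.card_coe_set_eq] at hle
  have : Nat.card ↥(N : Set G) = 2880 := hN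
  omega

omit hC in
theorem P_le_norm {W : Subgroup G} {h : G} (hhP : h ∈ P) (hhx : h ∉ zpowers x)
    (hWx : ∀ w ∈ W, x * w * x⁻¹ ∈ W) (hWh : ∀ w ∈ W, h * w * h⁻¹ ∈ W) :
    P ≤ normalizer (W : Set G) := by
  rw [← P_eq D F hhP hhx]
  exact sup_le (zpowers_le.2 (mem_normalizer_of_conj D F hWx))
    (zpowers_le.2 (mem_normalizer_of_conj D F hWh))

/-- When every core centralises its four-group. -/
theorem big_of_central
    (hall : ∀ (t' x' a' : G) (U' P' O' : Subgroup G), Frame t' x' U' P' O' a' →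
      O' ≤ centralizer (U' : Set G)) : ∃ E : Subgroup G, Big E := by
  classical
  obtain ⟨h, t', a', U', P', O', hhP, hhx, F', hU'O, hxU'⟩ := exists_pair D F hC
  have hC' : O' ≤ centralizer (U' : Set G) := hall _ _ _ _ _ _ F'
  have hhU : ∀ u ∈ U, h * u * h⁻¹ ∈ U := F.normU h (F.Px h hhP)
  have hUU' : ∀ u ∈ U, u ∈ U' → u = 1 := fun u hu hu' => by
    by_contra h1
    exact no_fix D F hhP hhx hu h1 (conj_eq_self.2 (F'.Ux u hu').symm)
  have hcomm : ∀ (u : U) (v : U'), Commute (U.subtype u) (U'.subtype v) := fun u v =>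
    comm_OU D F hC (hU'O v.2) u.2
  set φ := MonoidHom.noncommCoprod U.subtype U'.subtype hcomm
  have hφ : Function.Injective φ := by
    refine (MonoidHom.noncommCoprod_injective _ _ _).2
      ⟨U.subtype_injective, U'.subtype_injective, ?_⟩
    rw [range_subtype, range_subtype, disjoint_iff, Subgroup.eq_bot_iff_forall]
    exact fun u hu => hUU' u hu.1 hu.2
  set W := φ.range
  have hmem : ∀ {w : G}, w ∈ W ↔ ∃ u ∈ U, ∃ v ∈ U', u * v = w := fun {w} =>
    ⟨fun ⟨q, hq⟩ => ⟨q.1, q.1.2, q.2, q.2.2, hq⟩,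
      fun ⟨u, hu, v, hv, e⟩ => ⟨(⟨u, hu⟩, ⟨v, hv⟩), e⟩⟩
  have hW16 : Nat.card W = 16 := by
    rw [← Nat.card_congr (MonoidHom.ofInjective hφ).toEquiv, Nat.card_prod, F.cardU, F'.cardU]
  have hUW : U ≤ W := fun u hu => hmem.2 ⟨u, hu, 1, one_mem _, mul_one u⟩
  have hU'W : U' ≤ W := fun v hv => hmem.2 ⟨1, one_mem _, v, hv, one_mul v⟩
  have hWO : W ≤ O := by
    intro w hw
    obtain ⟨u, hu, v, hv, rfl⟩ := hmem.1 hw
    exact mul_mem (U_le_O D F hu) (hU'O hv)
  have hWsq : ∀ w ∈ W, w * w = 1 := by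
    intro w hw
    obtain ⟨u, hu, v, hv, rfl⟩ := hmem.1 hw
    rw [show u * v * (u * v) = u * (v * u) * v by group, ← comm_OU D F hC (hU'O hv) hu,
      show u * (u * v) * v = (u * u) * (v * v) by group, F.sqU u hu, F'.sqU v hv, one_mul]
  have hWx : ∀ w ∈ W, x * w * x⁻¹ ∈ W := by
    intro w hw
    obtain ⟨u, hu, v, hv, rfl⟩ := hmem.1 hw
    exact hmem.2 ⟨x * u * x⁻¹, F.normU x rfl u hu, x * v * x⁻¹, hxU' v hv, by group⟩
  have hWh : ∀ w ∈ W, h * w * h⁻¹ ∈ W := by
    intro w hw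
    obtain ⟨u, hu, v, hv, rfl⟩ := hmem.1 hw
    exact hmem.2 ⟨h * u * h⁻¹, hhU u hu, h * v * h⁻¹, F'.normU h rfl v hv, by group⟩
  have hPW := P_le_norm D F hhP hhx hWx hWh
  have hh3 : orderOf h = 3 := F'.hx
  have ht'U : t' ∈ U' := F'.tU
  have hxh : Commute x h := comm_P D F F.xP hhP
  -- a non-trivial element of `U'` is fixed by `⟨h⟩` only
  have hfixP : ∀ g ∈ P, g ∉ zpowers h → ∀ v ∈ U', g * v * g⁻¹ = v → v = 1 := by
    intro g hgP hgh v hv hgv
    by_contra h1
    refine not_comm_nine D F.ht F.hx F.comm F.cardP (orderOf_two_of (F'.sqU v hv) h1) ?_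
    rw [← P_eq' D F hh3 hhP hgP hgh]
    exact sup_le (zpowers_le.2 (mem_cs.2 (F'.Ux v hv).symm)) (zpowers_le.2 (mem_cs.2 (conj_eq_self.1 hgv)))
  have hxh' : x ∉ zpowers h := fun hx => by
    obtain ⟨i, hi⟩ := mem_zpowers_iff.1 hx
    have := zpow_ne_one F'.hx hx fun e => by have := F.hx; rw [e, orderOf_one] at this; omega
    exact hhx this
  -- the centraliser of `U'` in the core
  have hOW : O ⊓ centralizer (U' : Set G) = W := by
    have hle : W ≤ O ⊓ centralizer (U' : Set G) := le_inf hWO fun w hw =>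
      mem_centralizer_iff.2 fun v hv => comm_of_sq hWsq (hU'W hv) hw
    refine (eq_of_le_of_card_ge hle (le_of_eq ?_)).symm
    rw [hW16]
    refine (card_between D F inf_le_left (hUW.trans hle) fun q hq => ⟨x_conj D F q hq.1,
      mem_centralizer_iff.2 fun v hv => ?_⟩).elim (fun h4 => ?_) fun hh => hh.elim id fun h64 => ?_
    · have hv' : x⁻¹ * v * x ∈ U' := by
        simpa using (mem_normalizer_iff.1 (inv_mem (mem_normalizer_of_conj D F hxU')) v).1 hv
      calc v * (x * q * x⁻¹) = x * ((x⁻¹ * v * x) * q) * x⁻¹ := by group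
        _ = x * (q * (x⁻¹ * v * x)) * x⁻¹ := by rw [mem_centralizer_iff.1 hq.2 _ hv']
        _ = x * q * x⁻¹ * v := by group
    · have := card_le_of_le hle
      omega
    -- the core would be elementary
    exfalso
    have hOU' : O ≤ centralizer (U' : Set G) := by
      rw [← inf_eq_left]
      exact eq_of_le_of_card_ge inf_le_left (by rw [h64, F.core.card])
    have hcW : ∀ w ∈ W, ∀ o ∈ O, w * o = o * w := by
      intro w hw o ho
      obtain ⟨u, hu, v, hv, rfl⟩ := hmem.1 hw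
      exact ((show Commute u o from comm_OU D F hC ho hu).mul_left
        (show Commute v o from mem_centralizer_iff.1 (hOU' ho) v hv)).eq
    obtain ⟨q, ⟨hq, hqW⟩, g, hgP, hg, hgq⟩ := exists_fixed F.cardP (S := (O : Set G) \ W)
      (fun p hp s hs => ⟨P_O D F hC p hp s hs.1, fun hmemW => hs.2
        ((mem_normalizer_iff.1 (hPW hp) s).2 hmemW)⟩) (by
      rw [Set.ncard_sdiff hWO, ← Nat.card_coe_set_eq, ← Nat.card_coe_set_eq,
        show Nat.card ↥(W : Set G) = 16 from hW16, show Nat.card ↥(O : Set G) = 64 from F.core.card]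
      norm_num)
    have hg1 : g ≠ 1 := fun e => by rw [e, orderOf_one] at hg; omega
    have hgx : g ∉ zpowers x := fun hgx => hqW (hUW (by
      obtain ⟨i, hi⟩ := mem_zpowers_iff.1 (zpow_ne_one F.hx hgx hg1)
      rw [← inf_cent_eq_U D F (Q := O) le_rfl (U_le_O D F)]
      refine ⟨hq, ?_⟩
      rw [SetLike.mem_coe, centralizer_zpowers']
      exact mem_cs.2 (hi ▸ ((show Commute g q from hgq).zpow_left i).eq).symm))
    have hgh : g ∉ zpowers h := fun hgh => hqW (hU'W (by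
      obtain ⟨i, hi⟩ := mem_zpowers_iff.1 (zpow_ne_one F'.hx hgh hg1)
      obtain ⟨j, hj⟩ := isPGroup_O D F ⟨q, hq⟩
      exact F'.maxU q j (hi ▸ ((show Commute g q from hgq).zpow_left i).eq).symm
        (orderOf_dvd_of_pow_eq_one (congrArg Subtype.val hj))))
    obtain ⟨t'', U'', P'', O'', a'', F'', hU''O, -, -⟩ :=
      four_of_fix D F hC hgP hg hgx hq (fun e => hqW (e ▸ one_mem _)) hgq
    have hdis : ∀ w ∈ W, w ∈ U'' → w = 1 := by
      intro w hw hw''
      obtain ⟨u, hu, v, hv, rfl⟩ := hmem.1 hw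
      have hfix : g * u * g⁻¹ * (g * v * g⁻¹) = u * v := by
        rw [show g * u * g⁻¹ * (g * v * g⁻¹) = g * (u * v) * g⁻¹ by group]
        exact conj_eq_self.2 (F''.Ux _ hw'').symm
      have hvg : g * v * g⁻¹ ∈ U' := by
        have hgh' : Commute g h := comm_P D F hgP hhP
        exact F'.normU g hgh'.eq v hv
      have hug : g * u * g⁻¹ ∈ U := F.normU g (F.Px g hgP) u hu
      have he : u⁻¹ * (g * u * g⁻¹) = v * (g * v * g⁻¹)⁻¹ := by
        rw [eq_mul_inv_iff_mul_eq, mul_assoc, hfix, inv_mul_cancel_left]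
      have h1 := hUU' _ (mul_mem (inv_mem hu) hug) (he ▸ mul_mem hv (inv_mem hvg))
      have h2 : g * u * g⁻¹ = u := (inv_mul_eq_one.1 h1).symm
      have hu1 : u = 1 := by
        by_contra hu1
        exact no_fix D F hgP hgx hu hu1 h2
      subst hu1
      rw [hfixP g hgP hgh v hv (by simpa using hfix), mul_one]
    have hcomm' : ∀ (w : W) (r : U''), Commute (W.subtype w) (U''.subtype r) := fun w r =>
      hcW w w.2 r (hU''O r.2)
    set ψ := MonoidHom.noncommCoprod W.subtype U''.subtype hcomm'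
    have hψ : Function.Injective ψ := by
      refine (MonoidHom.noncommCoprod_injective _ _ _).2
        ⟨W.subtype_injective, U''.subtype_injective, ?_⟩
      rw [range_subtype, range_subtype, disjoint_iff, Subgroup.eq_bot_iff_forall]
      exact fun u hu => hdis u hu.1 hu.2
    have hψO : ψ.range = O := eq_of_le_of_card_ge
      (by rintro _ ⟨r, rfl⟩; exact mul_mem (hWO r.1.2) (hU''O r.2.2))
      (by rw [← Nat.card_congr (MonoidHom.ofInjective hψ).toEquiv, Nat.card_prod, hW16, F''.cardU,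
        F.core.card])
    have hOsq : ∀ o ∈ O, o * o = 1 := by
      intro o ho
      rw [← hψO] at ho
      obtain ⟨r, rfl⟩ := ho
      show r.1.1 * r.2.1 * (r.1.1 * r.2.1) = 1
      rw [show r.1.1 * r.2.1 * (r.1.1 * r.2.1) = r.1.1 * (r.2.1 * r.1.1) * r.2.1 by group,
        ← hcW _ r.1.2 _ (hU''O r.2.2),
        show r.1.1 * (r.1.1 * r.2.1) * r.2.1 = r.1.1 * r.1.1 * (r.2.1 * r.2.1) by group,
        hWsq _ r.1.2, F''.sqU _ r.2.2, one_mul]
    have hsub : (O : Set G) \ {1} ⊆ {u : G | orderOf u = 2 ∧ u * t = t * u} := fun o ho =>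
      ⟨orderOf_two_of (hOsq o ho.1) ho.2, mem_cs.1 (F.core.le ho.1)⟩
    have hle' := Set.ncard_le_ncard hsub (Set.toFinite _)
    rw [Set.ncard_sdiff (Set.singleton_subset_iff.2 (one_mem O)), ← Nat.card_coe_set_eq,
      ← Nat.card_coe_set_eq {u : G | orderOf u = 2 ∧ u * t = t * u}, Set.ncard_singleton,
      show Nat.card ↥(O : Set G) = 64 from F.core.card] at hle'
    have := D.count t F.ht
    rw [show Nat.card ↥{u : G | orderOf u = 2 ∧ u * t = t * u} =
      Nat.card {u : G // orderOf u = 2 ∧ u * t = t * u} from rfl, this] at hle'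
    omega
  have hcentW : centralizer (W : Set G) ≤ W := fun g hg => by
    rw [← hOW]
    exact ⟨centralizer_le_O D F hWO (by rw [hW16]; norm_num) (hUW F.tU) hWx hg,
      mem_centralizer_iff.2 fun v hv => mem_centralizer_iff.1 hg v (hU'W hv)⟩
  -- the second core
  have hWO' : W ≤ O' := F'.core.max W
    (fun w hw => mem_cs.2 (comm_of_sq hWsq hw (hU'W ht'U)))
    ((isPGroup_O D F).to_le hWO) hWh
  have hO'W : O' ⊓ centralizer (U : Set G) = W := by
    have hle : W ≤ O' ⊓ centralizer (U : Set G) := le_inf hWO' fun w hw =>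
      mem_centralizer_iff.2 fun v hv => comm_of_sq hWsq (hUW hv) hw
    refine (eq_of_le_of_card_ge hle (le_of_eq ?_)).symm
    rw [hW16]
    refine (card_between D F' inf_le_left (hU'W.trans hle) fun q hq => ⟨x_conj D F' q hq.1,
      mem_centralizer_iff.2 fun v hv => ?_⟩).elim (fun h4 => ?_) fun hh => hh.elim id fun h64 => ?_
    · have hv' : h⁻¹ * v * h ∈ U := by
        simpa using (mem_normalizer_iff.1 (inv_mem (mem_normalizer_of_conj D F hhU)) v).1 hv
      calc v * (h * q * h⁻¹) = h * ((h⁻¹ * v * h) * q) * h⁻¹ := by group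
        _ = h * (q * (h⁻¹ * v * h)) * h⁻¹ := by rw [mem_centralizer_iff.1 hq.2 _ hv']
        _ = h * q * h⁻¹ * v := by group
    · have := card_le_of_le hle
      omega
    exfalso
    have hO'U : O' ≤ centralizer (U : Set G) := by
      rw [← inf_eq_left]
      exact eq_of_le_of_card_ge inf_le_left (by rw [h64, F'.core.card])
    have : O' ≤ W := le_trans (fun o ho => mem_centralizer_iff.2 fun w hw => by
      obtain ⟨u, hu, v, hv, rfl⟩ := hmem.1 hw
      exact ((show Commute u o from mem_centralizer_iff.1 (hO'U ho) u hu).mul_left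
        (show Commute v o from mem_centralizer_iff.1 (hC' ho) v hv)).eq) hcentW
    have := card_le_of_le this
    rw [F'.core.card, hW16] at this
    omega
  set N := normalizer (W : Set G)
  have hON : O ≤ N := O_normalizes D F hWO hUW hWx hW16
  have hO'N : O' ≤ N := O_normalizes D F' hWO' hU'W hWh hW16
  have hxN : x ∈ N := hPW F.xP
  have hhN : h ∈ N := hPW hhP
  have hCxN : centralizer ({x} : Set G) ≤ N := by
    rw [cent_x_eq D F]
    exact sup_le ((hUW).trans le_normalizer) hPW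
  have ht1 : t ≠ 1 := fun e => by have := F.ht; rw [e, orderOf_one] at this; omega
  set S := {u : G | ∃ g ∈ N, g * t * g⁻¹ = u}
  have hSN : ∀ g ∈ N, ∀ s ∈ S, g * s * g⁻¹ ∈ S := by
    rintro g hg _ ⟨k, hk, rfl⟩
    exact ⟨g * k, mul_mem hg hk, by group⟩
  have hcyU : ∀ {u v : G}, u ∈ U → u ≠ 1 → v ∈ U → v ≠ 1 → ∃ i : ℕ, h ^ i * u * (h ^ i)⁻¹ = v :=
    cycle F.cardU hh3 hhU fun u hu h1 => no_fix D F hhP hhx hu h1
  have hcyU' : ∀ {u v : G}, u ∈ U' → u ≠ 1 → v ∈ U' → v ≠ 1 → ∃ i : ℕ, x ^ i * u * (x ^ i)⁻¹ = v :=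
    cycle F'.cardU F.hx hxU' fun u hu h1 e => h1 (hfixP x F.xP hxh' u hu e)
  have hUS : ∀ u ∈ U, u ≠ 1 → u ∈ S := fun u hu hu1 => by
    obtain ⟨i, hi⟩ := hcyU F.tU ht1 hu hu1
    exact ⟨h ^ i, pow_mem hhN i, hi⟩
  -- the second core moves `U`
  obtain ⟨o, ho, u₀, hu₀, hmove⟩ : ∃ o ∈ O', ∃ u ∈ U, o * u * o⁻¹ ∉ U := by
    by_contra hcon
    push Not at hcon
    let Ω := {u : G // u ∈ U ∧ u ≠ 1}
    letI : MulAction O' Ω :=
      { smul := fun o u => ⟨o.1 * u.1 * o.1⁻¹, hcon o.1 o.2 u.1 u.2.1, fun e =>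
          u.2.2 (conj_eq_one_iff.1 e)⟩
        one_smul := fun u => Subtype.ext (show (1 : G) * u.1 * 1⁻¹ = u.1 by simp)
        mul_smul := fun g k u => Subtype.ext (show (g.1 * k.1) * u.1 * (g.1 * k.1)⁻¹ =
          g.1 * (k.1 * u.1 * k.1⁻¹) * g.1⁻¹ by group) }
    have hΩ : Nat.card Ω = 3 := by
      have : Nat.card Ω = ((U : Set G) \ {1}).ncard := (Nat.card_coe_set_eq _).symm.trans
        (congrArg Set.ncard (Set.ext fun u => Iff.rfl))
      rw [this, Set.ncard_sdiff (Set.singleton_subset_iff.2 (one_mem U)), ← Nat.card_coe_set_eq,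
        Set.ncard_singleton]
      exact congrArg (· - 1) F.cardU
    set ψ := MulAction.toPermHom O' Ω
    have hker : Nat.card ψ.ker = 16 := by
      rw [← hW16, ← hO'W]
      refine Nat.card_congr ⟨fun g => ⟨g.1.1, g.1.2, mem_centralizer_iff.2 fun u hu => ?_⟩,
        fun g => ⟨⟨g.1, g.2.1⟩, ?_⟩, fun _ => rfl, fun _ => rfl⟩
      · by_cases hu1 : u = 1
        · rw [hu1, one_mul, mul_one]
        · exact (conj_eq_self.1 (congrArg Subtype.val
            (Equiv.ext_iff.1 (MonoidHom.mem_ker.1 g.2) ⟨u, hu, hu1⟩))).symm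
      · refine MonoidHom.mem_ker.2 (Equiv.ext fun u => Subtype.ext ?_)
        show g.1 * u.1 * g.1⁻¹ = u.1
        exact conj_eq_self.2 (mem_centralizer_iff.1 g.2.2 u.1 u.2.1).symm
    have hidx := ψ.ker.card_mul_index
    rw [hker, F'.core.card, index_ker] at hidx
    have hd := ψ.range.card_subgroup_dvd_card
    rw [Nat.card_perm, hΩ, show Nat.card ψ.range = 4 by omega] at hd
    norm_num [Nat.factorial] at hd
  have hu₀1 : u₀ ≠ 1 := fun e => hmove (by simp [e])
  have hmS : o * u₀ * o⁻¹ ∈ S := hSN o (hO'N ho) _ (hUS u₀ hu₀ hu₀1)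
  obtain ⟨u₁, hu₁, v₁, hv₁, huv⟩ :=
    hmem.1 ((mem_normalizer_iff.1 (hO'N ho) u₀).1 (hUW hu₀))
  have hv₁1 : v₁ ≠ 1 := fun e => hmove (by rw [← huv, e, mul_one]; exact hu₁)
  have hu₁1 : u₁ ≠ 1 := fun e => by
    rw [e, one_mul] at huv
    have hoc : o * v₁ = v₁ * o := (mem_centralizer_iff.1 (hC' ho) v₁ hv₁).symm
    have heq : u₀ = v₁ := by
      calc u₀ = o⁻¹ * (o * u₀ * o⁻¹) * o := by group
        _ = o⁻¹ * v₁ * o := by rw [huv]
        _ = v₁ := by rw [mul_assoc, ← hoc, inv_mul_cancel_left]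
    exact hu₀1 (hUU' u₀ hu₀ (heq ▸ hv₁))
  have hall12 : ∀ u ∈ U, u ≠ 1 → ∀ v ∈ U', u * v ∈ S := by
    intro u hu hu1 v hv
    by_cases hv1 : v = 1
    · rw [hv1, mul_one]; exact hUS u hu hu1
    obtain ⟨i, hi⟩ := hcyU hu₁ hu₁1 hu hu1
    obtain ⟨j, hj⟩ := hcyU' hv₁ hv₁1 hv hv1
    have hxj : ∀ w ∈ U, x ^ j * w * (x ^ j)⁻¹ = w := fun w hw =>
      conj_eq_self.2 ((show Commute x w from (F.Ux w hw).symm).pow_left j).eq
    have hhi : ∀ w ∈ U', h ^ i * w * (h ^ i)⁻¹ = w := fun w hw =>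
      conj_eq_self.2 ((show Commute h w from (F'.Ux w hw).symm).pow_left i).eq
    have hxvU : x ^ j * v₁ * (x ^ j)⁻¹ ∈ U' := hj ▸ hv
    have := hSN _ (mul_mem (pow_mem hhN i) (pow_mem hxN j)) _ (huv ▸ hmS)
    rwa [show h ^ i * x ^ j * (u₁ * v₁) * (h ^ i * x ^ j)⁻¹ =
      h ^ i * ((x ^ j * u₁ * (x ^ j)⁻¹) * (x ^ j * v₁ * (x ^ j)⁻¹)) * (h ^ i)⁻¹ by group,
      hxj u₁ hu₁, hj, show h ^ i * (u₁ * v) * (h ^ i)⁻¹ =
      (h ^ i * u₁ * (h ^ i)⁻¹) * (h ^ i * v * (h ^ i)⁻¹) by group, hi, hhi v hv] at this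
  have hS12 : 12 ≤ S.ncard := by
    let f : {u : G // u ∈ U ∧ u ≠ 1} × U' → G := fun q => q.1.1 * q.2.1
    have hf : Function.Injective f := fun q r e => by
      have := hφ (a₁ := (⟨q.1.1, q.1.2.1⟩, q.2)) (a₂ := (⟨r.1.1, r.1.2.1⟩, r.2)) e
      exact Prod.ext (Subtype.ext (congrArg (fun z => (z.1.1 : G)) this))
        (congrArg (fun z => z.2) this :)
    have hle := Set.ncard_le_ncard (s := Set.range f) (t := S)
      (by rintro _ ⟨q, rfl⟩; exact hall12 _ q.1.2.1 q.1.2.2 _ q.2.2) (Set.toFinite _)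
    have hΩ : Nat.card {u : G // u ∈ U ∧ u ≠ 1} = 3 := by
      have : Nat.card {u : G // u ∈ U ∧ u ≠ 1} = ((U : Set G) \ {1}).ncard :=
        (Nat.card_coe_set_eq _).symm.trans (congrArg Set.ncard (Set.ext fun u => Iff.rfl))
      rw [this, Set.ncard_sdiff (Set.singleton_subset_iff.2 (one_mem U)), ← Nat.card_coe_set_eq,
        Set.ncard_singleton]
      exact congrArg (· - 1) F.cardU
    rw [Set.ncard_range_of_injective hf, Nat.card_prod, hΩ, F'.cardU] at hle
    omega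
  have hS15 : S.ncard ≤ 15 := by
    refine le_trans (Set.ncard_le_ncard (?_ : S ⊆ (W : Set G) \ {1}) (Set.toFinite _)) (le_of_eq ?_)
    · rintro _ ⟨g, hg, rfl⟩
      exact ⟨(mem_normalizer_iff.1 hg t).1 (hUW F.tU), fun e =>
        ht1 (conj_eq_one_iff.1 (Set.mem_singleton_iff.1 e))⟩
    · rw [Set.ncard_sdiff (Set.singleton_subset_iff.2 (one_mem W)), ← Nat.card_coe_set_eq,
        Set.ncard_singleton]
      exact congrArg (· - 1) hW16
  set K := N ⊓ centralizer ({t} : Set G)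
  have hcard : S.ncard * Nat.card K = Nat.card N := orbit_ncard (Q := N) t
  have hK : Nat.card K = 192 ∨ Nat.card K = 384 := by
    have hd : Nat.card K ∣ 384 := D.centT t F.ht ▸ card_dvd_of_le inf_le_right
    have h192 : 192 ∣ Nat.card K := by
      rw [show (192 : ℕ) = 64 * 3 by norm_num]
      exact (show Nat.Coprime 64 3 by norm_num).mul_dvd_of_dvd_of_dvd
        (F.core.card ▸ card_dvd_of_le (le_inf hON F.core.le))
        (F.hx ▸ orderOf_dvd_natCard K ⟨hxN, mem_cs.2 F.comm⟩)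
    obtain ⟨k, hk⟩ := h192
    rw [hk] at hd ⊢
    have := Nat.le_of_dvd (by norm_num) hd
    have : k ≠ 0 := fun e => by rw [e] at hd; norm_num at hd
    omega
  have hNd : Nat.card N ∣ 443520 := D.card ▸ card_subgroup_dvd_card N
  have hN9 : 9 ∣ Nat.card N := F.cardP ▸ card_dvd_of_le hPW
  have hS : S.ncard = 15 := by
    rw [← hcard] at hNd hN9
    rcases hK with hK | hK <;> rw [hK] at hNd hN9 <;>
      interval_cases hk : S.ncard <;> omega
  refine ⟨W, hW16, hWsq, fun g hg => hcentW (mem_centralizer_iff.2 fun e he => (hg e he).symm), ?_,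
    trans_of_card D F hW16 (hUW F.tU) hS.ge⟩
  rw [← hcard, hS]
  rcases hK with hK | hK
  · exfalso
    refine no_small D F (N := N) (by rw [← hcard, hS, hK]) hCxN fun g hg hgx => ?_
    have hgU : g * t * g⁻¹ ∈ U := by
      refine F.maxU _ 1 ?_ (orderOf_dvd_of_pow_eq_one ?_)
      · have h1 : g * t * g⁻¹ * x⁻¹ = x⁻¹ * (g * t * g⁻¹) := by
          rw [← hgx]; exact (conj_comm F.comm).symm
        simpa using (show Commute (g * t * g⁻¹) x⁻¹ from h1).inv_right.eq
      · rw [conj_pow, pow_one, ← F.ht, pow_orderOf_eq_one]; group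
    obtain ⟨i, hi⟩ := hcyU hgU (fun e => ht1 (conj_eq_one_iff.1 e)) F.tU ht1
    have hz : h ^ i * g ∈ centralizer ({t} : Set G) := mem_cs.2 (conj_eq_self.1 (by
      refine Eq.trans ?_ hi
      group))
    have hzx : (h ^ i * g) * x * (h ^ i * g)⁻¹ = x⁻¹ := by
      rw [show (h ^ i * g) * x * (h ^ i * g)⁻¹ = h ^ i * (g * x * g⁻¹) * (h ^ i)⁻¹ by group, hgx]
      exact conj_eq_self.2 ((hxh.symm.pow_left i).inv_right).eq
    have hKC : K = centralizer ({t} : Set G) :=
      inf_eq_right.2 (C_le D F hON hxN hz hzx (mul_mem (pow_mem hhN i) hg))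
    rw [hKC, D.centT t F.ht] at hK
    omega
  · rw [hK]

omit F hC in
/-- There is an elementary subgroup of order `16` with normaliser of order `5760`. -/
theorem exists_big : ∃ E : Subgroup G, Big E := by
  haveI : Fact (Nat.Prime 2) := ⟨Nat.prime_two⟩
  haveI : Fact (Nat.Prime 3) := ⟨Nat.prime_three⟩
  obtain ⟨t, ht⟩ := exists_prime_orderOf_dvd_card' (G := G) 2 (by rw [D.card]; norm_num)
  obtain ⟨⟨x, hxt⟩, hx⟩ := exists_prime_orderOf_dvd_card' (G := centralizer ({t} : Set G)) 3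
    (by rw [D.centT t ht]; norm_num)
  rw [orderOf_mk] at hx
  by_cases hall : ∀ (t' x' a' : G) (U' P' O' : Subgroup G), Frame t' x' U' P' O' a' →
      O' ≤ centralizer (U' : Set G)
  · obtain ⟨U, P, O, a, F⟩ := exists_frame D ht hx (mem_cs.1 hxt)
    exact big_of_central D F (hall _ _ _ _ _ _ F) hall
  · push Not at hall
    obtain ⟨t', x', a', U', P', O', F', hne⟩ := hall
    refine ⟨_, big_of_sixteen D F' ((card_cent D F').resolve_right fun h64 => hne ?_)⟩
    rw [← inf_eq_left]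
    exact eq_of_le_of_card_ge inf_le_left (by rw [h64, F'.core.card])

end Cfsg.Agent.Lib.RecogM22.Local
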