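import Cfsg.Agent.Lib.RecogM22.Local

/-!
The core of order `64` of the centraliser of an involution, and the fixed points on it.

Owner: helper41.
-/

set_option autoImplicit false
set_option linter.style.haveILetI false
set_option linter.unusedSectionVars false

universe u

namespace Cfsg.Agent.Lib.RecogM22.Local

open Subgroup

variable {G : Type u} [Group G]

theorem conj_eq_self {g q : G} : g * q * g⁻¹ = q ↔ g * q = q * g := mul_inv_eq_iff_eq_mul

theorem conj_back {g y : G} : g⁻¹ * (g * y * g⁻¹) * g = y := by group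

theorem conj_comm {g u v : G} (h : u * v = v * u) :
    g * u * g⁻¹ * (g * v * g⁻¹) = g * v * g⁻¹ * (g * u * g⁻¹) := by
  rw [show g * u * g⁻¹ * (g * v * g⁻¹) = g * (u * v) * g⁻¹ by group, h]; group

theorem comm_of_sq {H : Subgroup G} (h : ∀ a ∈ H, a * a = 1) {a b : G} (ha : a ∈ H) (hb : b ∈ H) :
    a * b = b * a := by
  have hab := inv_eq_of_mul_eq_one_right (h _ (mul_mem ha hb))
  rw [mul_inv_rev, inv_eq_of_mul_eq_one_right (h a ha), inv_eq_of_mul_eq_one_right (h b hb)] at hab
  exact hab.symm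

theorem zpow_ne_one {x h : G} (hx : orderOf x = 3) (hh : h ∈ zpowers x) (h1 : h ≠ 1) :
    x ∈ zpowers h := by
  obtain ⟨i, rfl⟩ := mem_zpowers_iff.1 hh
  have hi : i % 3 ≠ 0 := fun e => h1 (by rw [← zpow_mod_orderOf, hx]; simp [e])
  rcases (show i % 3 = 1 ∨ i % 3 = 2 by omega) with e | e <;>
    rw [← zpow_mod_orderOf, hx, show ((3 : ℕ) : ℤ) = 3 from rfl, e]
  · rw [zpow_one]; exact mem_zpowers x
  · refine mem_zpowers_iff.2 ⟨2, ?_⟩
    have h3 : x ^ (3 : ℤ) = 1 := by
      show x ^ ((3 : ℕ) : ℤ) = 1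
      rw [zpow_natCast, ← hx, pow_orderOf_eq_one]
    calc (x ^ (2 : ℤ)) ^ (2 : ℤ) = x ^ (3 : ℤ) * x := by group
      _ = x := by rw [h3, one_mul]

variable [Finite G] (D : LocalData G)

/-- The largest `2`-subgroup of `C(t)` normalised by an element `x` of order three. -/
structure Core (t x : G) (O : Subgroup G) : Prop where
  le : O ≤ centralizer ({t} : Set G)
  card : Nat.card O = 64
  norm : ∀ g ∈ centralizer ({t} : Set G), ∀ o ∈ O, g * o * g⁻¹ ∈ O
  max : ∀ Q : Subgroup G, Q ≤ centralizer ({t} : Set G) → IsPGroup 2 Q →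
    (∀ q ∈ Q, x * q * x⁻¹ ∈ Q) → Q ≤ O

variable {t x : G} (ht : orderOf t = 2) (hx : orderOf x = 3) (htx : x * t = t * x)
include D ht hx htx

theorem exists_core : ∃ O, Core t x O := by
  classical
  haveI : Fact (Nat.Prime 2) := ⟨Nat.prime_two⟩
  obtain ⟨z, hz, hzx⟩ := exists_inverter D ht hx htx
  set C := centralizer ({t} : Set G) with hCdef
  have hC : Nat.card C = 384 := D.centT t ht
  set x' : C := ⟨x, mem_cs.2 htx⟩
  set z' : C := ⟨z, hz⟩
  have hx' : orderOf x' = 3 := by rw [orderOf_mk, hx]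
  -- no normal subgroup of index three
  have hnot : ∀ J : Subgroup C, J.Normal → Nat.card J ≠ 128 := by
    intro J hJ hJc
    haveI := hJ
    have hq : Nat.card (C ⧸ J) = 3 := by
      have h := J.card_mul_index
      rw [hJc, hC] at h
      change 128 * Nat.card (C ⧸ J) = 384 at h
      omega
    haveI : IsCyclic (C ⧸ J) := isCyclic_of_prime_card hq
    obtain ⟨g, hg⟩ := IsCyclic.exists_generator (α := C ⧸ J)
    have habel : ∀ a b : C ⧸ J, a * b = b * a := fun a b => by
      obtain ⟨i, rfl⟩ := mem_zpowers_iff.1 (hg a)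
      obtain ⟨j, rfl⟩ := mem_zpowers_iff.1 (hg b)
      exact zpow_mul_comm g i j
    have h1 : ((z' * x' * z'⁻¹ : C) : C ⧸ J) = ((x'⁻¹ : C) : C ⧸ J) :=
      congrArg _ (Subtype.ext hzx)
    rw [QuotientGroup.mk_mul, QuotientGroup.mk_mul, QuotientGroup.mk_inv, QuotientGroup.mk_inv,
      habel (z' : C ⧸ J), mul_inv_cancel_right] at h1
    have h2 : x' * x' ∈ J := (QuotientGroup.eq_one_iff _).1 (by
      rw [QuotientGroup.mk_mul]
      exact mul_eq_one_iff_eq_inv.2 h1)
    have h3 := Subgroup.orderOf_dvd_natCard J h2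
    rw [hJc, show x' * x' = x' ^ 2 from (pow_two x').symm, orderOf_pow, hx'] at h3
    norm_num at h3
  obtain ⟨S⟩ := (inferInstance : Nonempty (Sylow 2 C))
  have hS : Nat.card (S : Subgroup C) = 128 := sylow_card S (k := 7) (m := 3) hC (by norm_num)
  have hidx : (S : Subgroup C).index = 3 := by
    have h := (S : Subgroup C).card_mul_index
    rw [hS, hC] at h
    omega
  set K := (S : Subgroup C).normalCore
  have hK : Nat.card K = 64 := by
    have h1 : Nat.card K ≠ 128 := hnot K inferInstance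
    have h2 : Nat.card K ∣ 128 := hS ▸ card_dvd_of_le (normalCore_le _)
    have h3 : K.index ∣ 6 := by
      have h := (MulAction.toPermHom C (C ⧸ (S : Subgroup C))).range.card_subgroup_dvd_card
      have h6 : Nat.card (C ⧸ (S : Subgroup C)) = 3 := hidx
      rw [← Subgroup.index_ker, ← normalCore_eq_ker, Nat.card_perm, h6] at h
      exact h
    have h5 := K.card_mul_index
    rw [hC] at h5
    have h6 := Nat.le_of_dvd (by norm_num) h3
    have h7 := Nat.le_of_dvd (by norm_num) h2
    interval_cases hk : K.index <;> first | omega | (norm_num at h3)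
  have hmax : ∀ Q : Subgroup C, IsPGroup 2 Q → (∀ q ∈ Q, x' * q * x'⁻¹ ∈ Q) → Q ≤ K := by
    intro Q hQ hn
    set J := Q ⊔ K
    have hKJ : K ≤ J := le_sup_right
    have hJ2 : IsPGroup 2 J := hQ.to_sup_of_normal_right
      (IsPGroup.of_card (n := 6) (by rw [hK]; norm_num))
    obtain ⟨n, hn'⟩ := IsPGroup.iff_card.1 hJ2
    have hd : Nat.card J ∣ 384 := hC ▸ card_subgroup_dvd_card J
    have hd' : Nat.card J ∣ 128 := by
      rw [hn'] at hd ⊢
      exact (Nat.Coprime.pow_left n (by norm_num : Nat.Coprime 2 3)).dvd_of_dvd_mul_right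
        (show 2 ^ n ∣ 128 * 3 from hd)
    have h64 : 64 ∣ Nat.card J := hK ▸ card_dvd_of_le hKJ
    have hcases : Nat.card J = 64 ∨ Nat.card J = 128 := by
      obtain ⟨k, hk⟩ := h64
      rw [hk] at hd' ⊢
      have := Nat.le_of_dvd (by norm_num) hd'
      have : k ≤ 2 := by omega
      interval_cases k <;> first | (norm_num at hd'; done) | norm_num
    rcases hcases with h | h
    · have : K = J := eq_of_le_of_card_ge hKJ (by rw [h, hK])
      exact this ▸ (le_sup_left : Q ≤ J)
    · exfalso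
      refine hnot J ?_ h
      have hmem : x' ∈ normalizer (J : Set C) := by
        refine mem_normalizer_iff_map_conj_eq.2 ?_
        rw [Subgroup.map_sup]
        congr 1
        · exact eq_of_le_of_card_ge (by rintro _ ⟨q, hq, rfl⟩; exact hn q hq)
            (card_map_of_injective (MulAut.conj x').injective).ge
        · exact eq_of_le_of_card_ge
            (by rintro _ ⟨q, hq, rfl⟩; exact normalCore_normal _ |>.conj_mem q hq x')
            (card_map_of_injective (MulAut.conj x').injective).ge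
      refine normalizer_eq_top_iff.1 (eq_top_of_card_eq _ (Nat.dvd_antisymm ?_ ?_))
      · exact card_subgroup_dvd_card _
      · rw [hC, show (384 : ℕ) = 128 * 3 by norm_num]
        refine (show Nat.Coprime 128 3 by norm_num).mul_dvd_of_dvd_of_dvd ?_ ?_
        · exact h ▸ card_dvd_of_le le_normalizer
        · exact hx' ▸ Subgroup.orderOf_dvd_natCard _ hmem
  refine ⟨K.map C.subtype, map_subtype_le _,
    (card_map_of_injective C.subtype_injective).trans hK, ?_, fun Q hQC hQ hn => ?_⟩
  · rintro g hg _ ⟨o, ho, rfl⟩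
    exact ⟨⟨g, hg⟩ * o * ⟨g, hg⟩⁻¹, (normalCore_normal _).conj_mem o ho ⟨g, hg⟩, rfl⟩
  · intro q hq
    exact ⟨⟨q, hQC hq⟩, hmax (Q.subgroupOf C)
      (hQ.of_equiv (subgroupOfEquivOfLe hQC).symm) (fun r hr => hn r hr) hq, rfl⟩

end Cfsg.Agent.Lib.RecogM22.Local
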