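import Cfsg.Agent.Lib.RecogM22.Basic

/-!
The possible pairs of a number of Sylow subgroups of prime order and an index `|N : C|`, from
explicit lists of divisors, less those killed by cheap criteria.
-/

set_option autoImplicit false
set_option linter.style.haveILetI false
set_option linter.unusedSectionVars false

namespace Cfsg.Agent.Lib.RecogM22.Options

open Cfsg.Agent.Lib.Classif Cfsg.Agent.Lib.SmallGroups
open Cfsg.Agent.Lib.Classif.PrimeExceptional (deg)

universe u

/-- The divisors of a small number. -/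
def divs (m : ℕ) : List ℕ := (List.range (m + 1)).filter fun a => decide (m % a = 0)

theorem mem_divs {m a : ℕ} (hm : m ≠ 0) (h : a ∣ m) : a ∈ divs m := by
  simp only [divs, List.mem_filter, List.mem_range, decide_eq_true_eq]
  exact ⟨Nat.lt_succ_of_le (Nat.le_of_dvd (Nat.pos_of_ne_zero hm) h), Nat.mod_eq_zero_of_dvd h⟩

/-- The degree equation has no solution for `e = 2`. -/
def degBad2 (g p n e : ℕ) : Bool :=
  let ok : ℕ → Bool := fun k => decide (g / (n * e) = p) || decide (2 * p ≤ k)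
  decide (e = 2) && PrimeDegrees.degGenBad g p e ok ok ok

/-- The surviving pairs, `g = p * (m₁ * m₂)`. -/
def opts (g p m₁ m₂ : ℕ) : List (ℕ × ℕ) :=
  (((divs m₁).flatMap fun a => (divs m₂).map fun b => a * b).filter fun n =>
      decide (n % p = 1) && decide (n ≠ 1)).flatMap fun n =>
    ((List.range p).filter fun e =>
      decide (1 < e) && decide ((p - 1) % e = 0) && decide (g % (n * e * p) = 0) &&
        !(decide (n < 100) && Order175560.semiBad n p (g / (n * e))) &&
        !(degBad2 g p n e)).map fun e => (n, e)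

theorem exists_opt {G : Type u} [Group G] [Finite G] [IsSimpleGroup G]
    (hG : ¬ IsMulCommutative G) {p : ℕ} [hp : Fact p.Prime] {g m₁ m₂ : ℕ}
    (h : Nat.card G = g) (hgm : g = p * (m₁ * m₂)) (hp2 : p ≠ 2) (hm : (m₁ * m₂) % p ≠ 0)
    (hm1 : m₁ * m₂ ≠ 1) (P : Sylow p G) :
    ∃ n e c : ℕ, (n, e) ∈ opts g p m₁ m₂ ∧ Nat.card (P : Subgroup G) = p ∧
      Nat.card (Sylow p G) = n ∧ c * e * n = g ∧ p ∣ c ∧
      Nat.card (Subgroup.centralizer ((P : Subgroup G) : Set G)) = c ∧
      Nat.card (Subgroup.normalizer ((P : Subgroup G) : Set G)) = c * e ∧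
      (Subgroup.centralizer ((P : Subgroup G) : Set G)).relIndex
        (Subgroup.normalizer ((P : Subgroup G) : Set G)) = e := by
  have h1 : Nat.card G = p ^ 1 * (m₁ * m₂) := by rw [h, hgm, pow_one]
  have hm' : ¬ p ∣ m₁ * m₂ := fun hd => hm (Nat.mod_eq_zero_of_dvd hd)
  have hP : Nat.card (P : Subgroup G) = p := by rw [Sylow.card_sylow_eq P h1 hm', pow_one]
  obtain ⟨e, c, he, he1, hc, hC, hce⟩ := Sylow.exists_normalizer_factor hG P hP
  have hrel : (Subgroup.centralizer ((P : Subgroup G) : Set G)).relIndex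
      (Subgroup.normalizer ((P : Subgroup G) : Set G)) = e := by
    have h' := Sylow.card_centralizer_mul_relIndex (P : Subgroup G)
    rw [← hce, hC] at h'
    exact Nat.eq_of_mul_eq_mul_left (by rw [← hC]; exact Nat.card_pos) h'
  have hne := Sylow.card_sylow_ne_one h1 hm' one_ne_zero hm1
  have hprod : c * e * Nat.card (Sylow p G) = g := by rw [hce, Sylow.card_normalizer_mul, h]
  have hdvd := Sylow.card_sylow_dvd h1 hm'
  have hmod : Nat.card (Sylow p G) % p = 1 := Sylow.card_sylow_mod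
  generalize hn : Nat.card (Sylow p G) = n at *
  refine ⟨n, e, c, ?_, hP, rfl, hprod, hc, hC, hce.symm, hrel⟩
  have hm0 : m₁ ≠ 0 ∧ m₂ ≠ 0 := by
    constructor <;> rintro rfl <;> simp at hm'
  obtain ⟨a, b, ha, hb, hab⟩ := Nat.dvd_mul.mp hdvd
  have hpos : 0 < n * e := Nat.mul_pos (hn ▸ Nat.card_pos) (by omega)
  have hcq : c = g / (n * e) := by
    rw [← hprod, mul_assoc c e, mul_comm e n, Nat.mul_div_cancel _ hpos]
  simp only [opts, List.mem_flatMap, List.mem_map, List.mem_filter, List.mem_range,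
    Bool.and_eq_true, decide_eq_true_eq, Bool.not_eq_true', Bool.and_eq_false_imp]
  refine ⟨n, ⟨⟨a, mem_divs hm0.1 ha, b, mem_divs hm0.2 hb, hab⟩, hmod, hne⟩, e,
    ⟨?_, ⟨⟨⟨⟨he1, Nat.mod_eq_zero_of_dvd he⟩, ?_⟩, ?_⟩, ?_⟩⟩, rfl⟩
  · have := Nat.le_of_dvd (Nat.sub_pos_of_lt hp.out.one_lt) he
    have := hp.out.two_le
    omega
  · obtain ⟨d, rfl⟩ := hc
    exact Nat.mod_eq_zero_of_dvd ⟨d, by rw [← hprod]; ring⟩
  · intro _
    rw [Bool.eq_false_iff]
    intro hs
    exact Order175560.deadCase_false hG h hp2 P hP hn hne hcq hC hce.symm hrel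
      (by simp [Order175560.deadCase, hs])
  · rw [Bool.eq_false_iff]
    intro hb'
    simp only [degBad2, Bool.and_eq_true, decide_eq_true_eq] at hb'
    obtain ⟨rfl, hbad⟩ := hb'
    obtain ⟨D⟩ := FirstPowerData.exists_data P hP hrel
    obtain ⟨χ₀, hχ₀⟩ : D.K.Nonempty := Finset.card_pos.mp (by have := D.card_K; omega)
    have hperf := Sylow.commutator_eq_top hG
    by_cases hcp : c = p
    · refine PrimeDegrees.false_of_degGen hperf hP D h _ _ _ hχ₀ ?_ (fun χ _ _ => ?_) ?_ hbad <;>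
        simp [← hcq, hcp]
    · obtain ⟨h1', h2'⟩ := PrimeDegrees.two_mul_le_of_centralizer hG hP hC hcp hc (fun hd => by
        obtain ⟨d, rfl⟩ := hc
        rw [pow_two] at hd
        obtain ⟨k, hk⟩ := hd
        refine hm' ⟨k * 2 * n, ?_⟩
        have hg' : p * (m₁ * m₂) = p * (p * (k * 2 * n)) := by
          rw [← hgm, ← hprod, hk]; ring
        exact Nat.eq_of_mul_eq_mul_left hp.out.pos hg') D
      refine PrimeDegrees.false_of_degGen hperf hP D h _ _ _ hχ₀ ?_ (fun χ hχ _ => ?_) ?_ hbad <;>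
        simp only [Bool.or_eq_true, decide_eq_true_eq]
      · exact Or.inr (h1' _ hχ₀)
      · exact Or.inr (h1' χ hχ)
      · exact Or.inr h2'

end Cfsg.Agent.Lib.RecogM22.Options
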