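import Mathlib

/-!
A transitive action of degree `77` of a simple group of order `443520` with a point stabiliser
`2^4.A6`-like subgroup: the suborbits `16`, `60` and the adjacency in the second one.

Owner: helper41.
-/

set_option autoImplicit false
set_option linter.style.haveILetI false
set_option linter.unusedSectionVars false

universe u w

namespace Cfsg.Agent.Lib.RecogM22

open MulAction

/-- What is used about the action on the cosets of `N(E)`, `E` elementary abelian of order `16`. -/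
structure Max77 (G : Type u) [Group G] (Ω : Type w) [MulAction G Ω] where
  p : Ω
  E : Subgroup G
  card_E : Nat.card E = 16
  sq : ∀ e ∈ E, e * e = 1
  stab_eq : stabilizer G p = Subgroup.normalizer (E : Set G)
  cent : ∀ g : G, (∀ e ∈ E, g * e = e * g) → g ∈ E
  trans : ∀ a ∈ E, a ≠ 1 → ∀ b ∈ E, b ≠ 1 → ∃ m ∈ stabilizer G p, m * a * m⁻¹ = b
  card_G : Nat.card G = 443520
  card_Ω : Nat.card Ω = 77
  pretransitive : IsPretransitive G Ω
  suborbits : ∃ v w, v ≠ p ∧ w ≠ p ∧
    ∀ x, x ≠ p → (∃ m ∈ stabilizer G p, m • v = x) ∨ (∃ m ∈ stabilizer G p, m • w = x)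
  fix : ∀ e ∈ E, e ≠ 1 → Nat.card {x : Ω // e • x = x} = 13
  five : ∀ y z : G, orderOf y = 5 → y * z = z * y → z ∈ Subgroup.zpowers y

namespace Max77

variable {G : Type u} [Group G] [Finite G] {Ω : Type w} [MulAction G Ω] [Finite Ω]
  (D : Max77 G Ω)

include D in
/-- The point stabiliser. -/
theorem card_stab : Nat.card (stabilizer G D.p) = 5760 := by
  haveI := D.pretransitive
  have h := (stabilizer G D.p).card_mul_index
  rw [index_stabilizer, orbit_eq_univ, Set.ncard_univ, D.card_Ω, D.card_G] at h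
  omega

theorem le_stab : D.E ≤ stabilizer G D.p := D.stab_eq ▸ Subgroup.le_normalizer

theorem conj_mem {m : G} (hm : m ∈ stabilizer G D.p) {e : G} (he : e ∈ D.E) :
    m * e * m⁻¹ ∈ D.E :=
  (Subgroup.mem_normalizer_iff.1 (D.stab_eq ▸ hm) e).1 he

theorem inv_eq {e : G} (he : e ∈ D.E) : e⁻¹ = e := inv_eq_of_mul_eq_one_right (D.sq e he)

theorem comm {a b : G} (ha : a ∈ D.E) (hb : b ∈ D.E) : a * b = b * a := by
  have h := D.inv_eq (mul_mem ha hb)
  rw [mul_inv_rev, D.inv_eq ha, D.inv_eq hb] at h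
  exact h.symm

theorem smul_p {m : G} (hm : m ∈ stabilizer G D.p) : m • D.p = D.p := hm

/-- The elements of `E` fixing a point. -/
def ES (x : Ω) : Subgroup G := D.E ⊓ stabilizer G x

theorem mem_ES {x : Ω} {e : G} : e ∈ D.ES x ↔ e ∈ D.E ∧ e • x = x := Iff.rfl

theorem ES_p : D.ES D.p = D.E := inf_eq_left.2 D.le_stab

theorem card_ES_smul {m : G} (hm : m ∈ stabilizer G D.p) (x : Ω) :
    Nat.card (D.ES (m • x)) = Nat.card (D.ES x) := by
  have h : (D.ES x).map (MulAut.conj m).toMonoidHom = D.ES (m • x) := by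
    ext e
    constructor
    · rintro ⟨a, ⟨ha, hax⟩, rfl⟩
      refine ⟨D.conj_mem hm ha, ?_⟩
      show (m * a * m⁻¹) • m • x = m • x
      rw [smul_smul, inv_mul_cancel_right, mul_smul, (hax : a • x = x)]
    · rintro ⟨he, hex⟩
      refine ⟨m⁻¹ * e * m, ⟨by simpa using D.conj_mem (inv_mem hm) he, ?_⟩, by simp [mul_assoc]⟩
      show (m⁻¹ * e * m) • x = x
      rw [mul_smul, mul_smul, (hex : e • m • x = m • x), inv_smul_smul]
  rw [← h, Subgroup.card_map_of_injective (MulAut.conj m).injective]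

/-- The orbit of the stabiliser. -/
def orb (x : Ω) : Set Ω := {y | ∃ m ∈ stabilizer G D.p, m • x = y}

theorem mem_orb_self (x : Ω) : x ∈ D.orb x := ⟨1, one_mem _, one_smul G x⟩

theorem orb_eq {x y : Ω} (h : y ∈ D.orb x) : D.orb y = D.orb x := by
  obtain ⟨m, hm, rfl⟩ := h
  ext z
  exact ⟨fun ⟨k, hk, hz⟩ => ⟨k * m, mul_mem hk hm, by rw [mul_smul, hz]⟩,
    fun ⟨k, hk, hz⟩ => ⟨k * m⁻¹, mul_mem hk (inv_mem hm), by rw [mul_smul, inv_smul_smul, hz]⟩⟩

theorem ncard_orb_mul (x : Ω) :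
    (D.orb x).ncard * Nat.card ↥(stabilizer G D.p ⊓ stabilizer G x) = 5760 := by
  have h : D.orb x = orbit ↥(stabilizer G D.p) x := by
    ext y
    exact ⟨fun ⟨m, hm, h⟩ => ⟨⟨m, hm⟩, h⟩, fun ⟨m, h⟩ => ⟨m, m.2, h⟩⟩
  have h2 := (stabilizer (stabilizer G D.p) x).card_mul_index
  rw [index_stabilizer, D.card_stab, ← h, mul_comm] at h2
  rw [← h2]
  congr 1
  refine Nat.card_congr ⟨fun g => ⟨⟨g.1, g.2.1⟩, g.2.2⟩, fun g => ⟨g.1.1, g.1.2, g.2⟩, fun g => rfl,
    fun g => rfl⟩

theorem orbit_E_ncard (x : Ω) : (orbit ↥D.E x).ncard * Nat.card (D.ES x) = 16 := by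
  have h2 := (stabilizer D.E x).card_mul_index
  rw [index_stabilizer, D.card_E, mul_comm] at h2
  rw [← h2]
  congr 1
  exact Nat.card_congr ⟨fun g => ⟨⟨g.1, g.2.1⟩, g.2.2⟩, fun g => ⟨g.1.1, g.1.2, g.2⟩, fun g => rfl,
    fun g => rfl⟩

open Classical in
theorem sum_ES [Fintype Ω] : ∑ x : Ω, Nat.card (D.ES x) = 272 := by
  haveI := Fintype.ofFinite D.E
  have hx : ∀ x : Ω, Nat.card (D.ES x) = ∑ e : D.E, if (e : G) • x = x then 1 else 0 := fun x => by
    rw [Finset.sum_boole, Nat.cast_id, ← Fintype.card_subtype, ← Nat.card_eq_fintype_card]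
    exact Nat.card_congr ⟨fun g => ⟨⟨g.1, g.2.1⟩, g.2.2⟩, fun g => ⟨g.1.1, g.1.2, g.2⟩, fun g => rfl,
      fun g => rfl⟩
  have he : ∀ e : D.E, (∑ x : Ω, if (e : G) • x = x then 1 else 0) = if e = 1 then 77 else 13 := by
    intro e
    split_ifs with h
    · subst h
      simp [← Nat.card_eq_fintype_card, D.card_Ω]
    · rw [Finset.sum_boole, Nat.cast_id, ← Fintype.card_subtype, ← Nat.card_eq_fintype_card]
      exact D.fix e e.2 fun h' => h (Subtype.ext h')
  rw [Finset.sum_congr rfl fun x _ => hx x, Finset.sum_comm, Finset.sum_congr rfl fun e _ => he e,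
    Finset.sum_ite, Finset.sum_const, Finset.sum_const, Finset.filter_eq']
  simp only [Finset.mem_univ, if_true, Finset.card_singleton, smul_eq_mul, one_mul]
  rw [Finset.filter_ne', Finset.card_erase_of_mem (Finset.mem_univ _), Finset.card_univ,
    ← Nat.card_eq_fintype_card, D.card_E]

theorem sum_two {v w : Ω} (hv : v ≠ D.p) (hw : w ≠ D.p) (hdis : Disjoint (D.orb v) (D.orb w))
    (hall : ∀ x, x ≠ D.p → x ∈ D.orb v ∨ x ∈ D.orb w) :
    (D.orb v).ncard + (D.orb w).ncard = 76 ∧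
      (D.orb v).ncard * Nat.card (D.ES v) + (D.orb w).ncard * Nat.card (D.ES w) = 256 := by
  classical
  haveI := Fintype.ofFinite Ω
  have hp : ∀ {u : Ω}, u ≠ D.p → D.p ∉ D.orb u := fun {u} hu ⟨m, hm, e⟩ =>
    hu (smul_left_cancel m (e.trans (D.smul_p hm).symm))
  have hcompl : Finset.univ.erase D.p = (D.orb v).toFinset ∪ (D.orb w).toFinset := by
    ext x
    simp only [Finset.mem_erase, Finset.mem_univ, and_true, Finset.mem_union, Set.mem_toFinset]
    exact ⟨hall x, fun h e => by subst e; exact h.elim (hp hv) (hp hw)⟩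
  have hd : Disjoint (D.orb v).toFinset (D.orb w).toFinset := Set.disjoint_toFinset.2 hdis
  constructor
  · have h := congrArg Finset.card hcompl
    rw [Finset.card_union_of_disjoint hd, Finset.card_erase_of_mem (Finset.mem_univ _),
      Finset.card_univ, ← Nat.card_eq_fintype_card, D.card_Ω, ← Set.ncard_eq_toFinset_card',
      ← Set.ncard_eq_toFinset_card'] at h
    exact h.symm
  · have h := D.sum_ES
    rw [← Finset.add_sum_erase _ _ (Finset.mem_univ D.p), hcompl, Finset.sum_union hd, ES_p,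
      D.card_E] at h
    have hc : ∀ u, ∑ x ∈ (D.orb u).toFinset, Nat.card (D.ES x) =
        (D.orb u).ncard * Nat.card (D.ES u) := fun u => by
      rw [Set.ncard_eq_toFinset_card', ← smul_eq_mul, ← Finset.sum_const]
      refine Finset.sum_congr rfl fun x hx => ?_
      obtain ⟨m, hm, rfl⟩ := Set.mem_toFinset.1 hx
      exact D.card_ES_smul hm u
    rw [hc, hc] at h
    omega

theorem card_ES_mem (x : Ω) : Nat.card (D.ES x) ∈ Nat.divisors 16 :=
  Nat.mem_divisors.2 ⟨D.card_E ▸ Subgroup.card_dvd_of_le inf_le_left, by norm_num⟩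

include D in
/-- An element of order five commutes with no involution. -/
theorem not_comm_five {y e : G} (hy : orderOf y = 5) (he : e * e = 1) (h1 : e ≠ 1) :
    y * e ≠ e * y := fun h => by
  have h5 : orderOf e ∣ 5 := hy ▸ orderOf_dvd_of_mem_zpowers (D.five y e hy h)
  have h2 : orderOf e ∣ 2 := orderOf_dvd_of_pow_eq_one (by rw [pow_two, he])
  exact h1 (orderOf_eq_one_iff.1 (Nat.dvd_one.1 ((show Nat.gcd 5 2 = 1 by norm_num) ▸
    Nat.dvd_gcd h5 h2)))

/-- `E` fixes no other point. -/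
theorem not_fixed {x : Ω} (hx : x ≠ D.p) (h12 : (D.orb x).ncard = 12)
    (huniq : ∀ z, z ≠ D.p → (D.orb z).ncard = 12 → Nat.card (D.ES z) = 16) : False := by
  have hfixE : ∀ z, z ≠ D.p → (D.orb z).ncard = 12 → D.E ≤ stabilizer G z := fun z h1 h2 =>
    inf_eq_left.1 (Subgroup.eq_of_le_of_card_ge inf_le_left ((huniq z h1 h2).trans D.card_E.symm).ge)
  have hE := hfixE x hx h12
  classical
  haveI := D.pretransitive
  set H := stabilizer G D.p ⊓ stabilizer G x
  have hH : Nat.card H = 480 := by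
    have := D.ncard_orb_mul x
    rw [h12] at this
    change 12 * Nat.card H = 5760 at this
    omega
  obtain ⟨g, hg⟩ := exists_smul_eq G D.p x
  set E' := D.E.map (MulAut.conj g).toMonoidHom
  have hst : stabilizer G x = Subgroup.normalizer (E' : Set G) := by
    rw [← hg, stabilizer_smul_eq_stabilizer_map_conj, D.stab_eq, Subgroup.map_normalizer_eq_of_bijective]
    exact (MulAut.conj g).bijective
  have hnE : ∀ m ∈ H, ∀ e ∈ D.E, m * e * m⁻¹ ∈ D.E := fun m hm e he => D.conj_mem hm.1 he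
  have hnE' : ∀ m ∈ H, ∀ e ∈ E', m * e * m⁻¹ ∈ E' := fun m hm e he =>
    (Subgroup.mem_normalizer_iff.1 (hst ▸ hm.2) e).1 he
  haveI : Fact (Nat.Prime 5) := ⟨by norm_num⟩
  obtain ⟨⟨y, hyH⟩, hy⟩ := exists_prime_orderOf_dvd_card' (G := H) 5 (by rw [hH]; norm_num)
  rw [Subgroup.orderOf_mk] at hy
  have hy5 : y ^ 5 = 1 := hy ▸ pow_orderOf_eq_one y
  set d := D.E ⊓ E'
  have hd16 : Nat.card d ∣ 16 := D.card_E ▸ Subgroup.card_dvd_of_le inf_le_left
  -- `y` fixes a non-trivial element of the intersection, if there is one and it is small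
  have hfix : Nat.card d = 1 ∨ Nat.card d = 16 := by
    by_contra hcon
    push Not at hcon
    have hmem : ∀ z : G, z ∈ d → y * z * y⁻¹ ∈ d := fun z hz =>
      ⟨hnE y hyH z hz.1, hnE' y hyH z hz.2⟩
    let σ : Equiv.Perm d := Equiv.ofBijective (fun z => (⟨y * z * y⁻¹, hmem z z.2⟩ : d))
      (Finite.injective_iff_bijective.1 fun a b e => Subtype.ext (by simpa using congrArg Subtype.val e))
    have hpow : ∀ (n : ℕ) (z : d), ((σ ^ n) z : G) = y ^ n * z * (y ^ n)⁻¹ := by
      intro n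
      induction n with
      | zero => simp
      | succ n ih =>
        intro z
        rw [pow_succ', Equiv.Perm.mul_apply]
        show y * ((σ ^ n) z : G) * y⁻¹ = _
        rw [ih, pow_succ', mul_inv_rev]
        simp only [mul_assoc]
    have hσ : IsPGroup 5 (Subgroup.zpowers σ) := fun ⟨τ, hτ⟩ => ⟨1, by
      obtain ⟨i, rfl⟩ := Subgroup.mem_zpowers_iff.1 hτ
      have h1 : σ ^ 5 = 1 := Equiv.ext fun z => Subtype.ext (by
        rw [hpow, hy5]
        simp)
      exact Subtype.ext (show (σ ^ i) ^ (5 ^ 1) = 1 by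
        rw [pow_one, ← zpow_natCast, ← zpow_mul, mul_comm, zpow_mul, zpow_natCast, h1, one_zpow])⟩
    have hmod := hσ.card_modEq_card_fixedPoints d
    have hd : Nat.card d ∈ Nat.divisors 16 := Nat.mem_divisors.2 ⟨hd16, by norm_num⟩
    rw [show Nat.divisors 16 = {1, 2, 4, 8, 16} by decide +kernel] at hd
    simp only [Finset.mem_insert, Finset.mem_singleton] at hd
    have hsub : Subsingleton (fixedPoints (Subgroup.zpowers σ) d) := ⟨fun a b => by
      have h1 : ∀ c : fixedPoints (Subgroup.zpowers σ) d, ((c : d) : G) = 1 := fun c => by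
        have h2 := congrArg Subtype.val (c.2 ⟨σ, Subgroup.mem_zpowers σ⟩)
        have h3 : y * ((c : d) : G) * y⁻¹ = ((c : d) : G) := h2
        by_contra hne
        exact D.not_comm_five hy (D.sq _ (c : d).2.1) hne (by
          conv_rhs => rw [← h3]
          simp [mul_assoc])
      exact Subtype.ext (Subtype.ext ((h1 a).trans (h1 b).symm))⟩
    haveI : Nonempty (fixedPoints (Subgroup.zpowers σ) d) := ⟨⟨1, fun τ => by
      obtain ⟨i, hi⟩ := Subgroup.mem_zpowers_iff.1 τ.2
      show τ.1 1 = 1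
      rw [← hi]
      exact Function.IsFixedPt.perm_zpow (Subtype.ext (by
        show y * 1 * y⁻¹ = 1
        simp) : σ 1 = 1) i⟩⟩
    rw [Nat.card_unique (α := fixedPoints (Subgroup.zpowers σ) d)] at hmod
    rcases hd with h | h | h | h | h <;> rw [h] at hmod hcon <;>
      simp [Nat.ModEq] at hmod hcon
  have hE' : Nat.card E' = 16 :=
    (Subgroup.card_map_of_injective (MulAut.conj g).injective).trans D.card_E
  rcases hfix with h | h
  · -- sixteen elements in a factor of order `30`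
    have hEH : D.E ≤ H := le_inf D.le_stab hE
    set z := g⁻¹ • D.p with hzdef
    have hz : z ≠ D.p := fun e => hx (by rw [← hg]; exact (inv_smul_eq_iff.1 e).symm)
    have hz12 : (D.orb z).ncard = 12 := by
      have h1 := D.ncard_orb_mul z
      have h2 : Nat.card ↥(stabilizer G D.p ⊓ stabilizer G z) = 480 := by
        rw [← hH, ← Subgroup.card_map_of_injective (f := (MulAut.conj g).toMonoidHom)
          (MulAut.conj g).injective (K := stabilizer G D.p ⊓ stabilizer G z),
          Subgroup.map_inf _ _ (MulAut.conj g).toMonoidHom (MulAut.conj g).injective, ← stabilizer_smul_eq_stabilizer_map_conj,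
          ← stabilizer_smul_eq_stabilizer_map_conj, hg, hzdef, smul_inv_smul, inf_comm]
      rw [h2] at h1
      omega
    have hE'H : E' ≤ H := by
      refine le_inf ?_ (hst ▸ Subgroup.le_normalizer)
      rintro _ ⟨e, he, rfl⟩
      show (g * e * g⁻¹) • D.p = D.p
      rw [mul_smul, mul_smul, (hfixE z hz hz12 he : e • z = z), hzdef, smul_inv_smul]
    haveI : (D.E.subgroupOf H).Normal :=
      ⟨fun a ha m => Subgroup.mem_subgroupOf.2 (hnE m m.2 a (Subgroup.mem_subgroupOf.1 ha))⟩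
    let f : E' →* H ⧸ D.E.subgroupOf H :=
      (QuotientGroup.mk' _).comp (Subgroup.inclusion hE'H)
    have hf : Function.Injective f := by
      rw [← MonoidHom.ker_eq_bot_iff, eq_bot_iff]
      intro a ha
      have ha0 : ((Subgroup.inclusion hE'H a : H) : H ⧸ D.E.subgroupOf H) = 1 := MonoidHom.mem_ker.1 ha
      have ha' : (a : G) ∈ D.E := (Subgroup.mem_subgroupOf.1
        ((QuotientGroup.eq_one_iff (Subgroup.inclusion hE'H a)).1 ha0) :)
      have hd1 : d = ⊥ := Subgroup.card_eq_one.1 h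
      exact Subgroup.mem_bot.2 (Subtype.ext (Subgroup.mem_bot.1 (hd1 ▸ (⟨ha', a.2⟩ : (a : G) ∈ d))))
    have hdvd := Subgroup.card_dvd_of_injective f hf
    have hq := (D.E.subgroupOf H).card_mul_index
    rw [Nat.card_congr (Subgroup.subgroupOfEquivOfLe hEH).toEquiv, D.card_E, hH] at hq
    rw [hE', ← Subgroup.index, show (D.E.subgroupOf H).index = 30 by omega] at hdvd
    norm_num at hdvd
  · have h1 : D.E = E' := Subgroup.eq_of_le_of_card_ge
      (inf_eq_left.1 (Subgroup.eq_of_le_of_card_ge inf_le_left (by rw [h, D.card_E])))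
      (by rw [hE', D.card_E])
    have h2 : stabilizer G x = stabilizer G D.p := by rw [hst, D.stab_eq, h1]
    have h3 : stabilizer G D.p ⊓ stabilizer G x = stabilizer G D.p := by rw [h2, inf_idem]
    have h4 := D.ncard_orb_mul x
    rw [h3, D.card_stab, h12] at h4
    omega

/-- The two suborbits. -/
theorem exists_suborbits : ∃ w v : Ω, w ≠ D.p ∧ v ≠ D.p ∧ (D.orb w).ncard = 16 ∧
    Nat.card (D.ES w) = 1 ∧ (D.orb v).ncard = 60 ∧ Nat.card (D.ES v) = 4 ∧
    ∀ x, x ≠ D.p → x ∈ D.orb w ∨ x ∈ D.orb v := by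
  classical
  obtain ⟨v, w, hv, hw, hall⟩ := D.suborbits
  have hdvd : ∀ u, (D.orb u).ncard ∣ 5760 := fun u => Dvd.intro _ (D.ncard_orb_mul u)
  have hdis : Disjoint (D.orb v) (D.orb w) := by
    refine Set.disjoint_left.2 fun x hxv hxw => ?_
    have he : D.orb w = D.orb v := (D.orb_eq hxw).symm.trans (D.orb_eq hxv)
    have hsub : ∀ x, x ≠ D.p → x ∈ D.orb v := fun x hx => (hall x hx).elim id fun h => he ▸ h
    have : D.orb v = {D.p}ᶜ := by
      ext x
      refine ⟨fun ⟨m, hm, e⟩ => fun hxp => ?_, hsub x⟩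
      exact hv (smul_left_cancel m ((e.trans hxp).trans (D.smul_p hm).symm))
    have h76 := hdvd v
    rw [this, Set.ncard_compl {D.p}, Set.ncard_singleton, D.card_Ω] at h76
    norm_num at h76
  obtain ⟨hs, hs'⟩ := D.sum_two hv hw hdis hall
  have key : ∀ a b : ℕ, a + b = 76 → ∀ e₁ ∈ Nat.divisors 16, ∀ e₂ ∈ Nat.divisors 16,
      a * e₁ + b * e₂ = 256 → a ∣ 5760 → b ∣ 5760 →
      (a = 16 ∧ e₁ = 1 ∧ b = 60 ∧ e₂ = 4) ∨ (a = 60 ∧ e₁ = 4 ∧ b = 16 ∧ e₂ = 1) ∨
        (a = 64 ∧ b = 12 ∧ e₂ = 16) ∨ (a = 12 ∧ b = 64 ∧ e₁ = 16) := by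
    intro a b hab e₁ h1 e₂ h2 heq ha hb
    rw [show Nat.divisors 16 = {1, 2, 4, 8, 16} by decide +kernel] at h1 h2
    simp only [Finset.mem_insert, Finset.mem_singleton] at h1 h2
    obtain rfl : b = 76 - a := by omega
    rcases h1 with rfl | rfl | rfl | rfl | rfl <;> rcases h2 with rfl | rfl | rfl | rfl | rfl <;>
      first
        | omega
        | (rcases (show a = 16 ∨ a = 60 ∨ a = 64 ∨ a = 12 ∨ a = 24 ∨ a = 52 by omega) with
            rfl | rfl | rfl | rfl | rfl | rfl <;> simp_all)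
  have h12 : ∀ a b : Ω, a ≠ D.p → (∀ x, x ≠ D.p → x ∈ D.orb a ∨ x ∈ D.orb b) →
      (D.orb a).ncard = 12 → (D.orb b).ncard ≠ 12 → Nat.card (D.ES a) = 16 → False := by
    intro a b ha hab h1 h2 h3
    refine D.not_fixed ha h1 fun z hz hz12 => ?_
    rcases hab z hz with ⟨m, hm, rfl⟩ | h
    · rw [D.card_ES_smul hm, h3]
    · rw [D.orb_eq h] at hz12
      exact absurd hz12 h2
  rcases key _ _ hs _ (D.card_ES_mem v) _ (D.card_ES_mem w) hs' (hdvd v) (hdvd w) with
    ⟨a, b, c, d⟩ | ⟨a, b, c, d⟩ | ⟨a, b, c⟩ | ⟨a, b, c⟩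
  · exact ⟨v, w, hv, hw, a, b, c, d, hall⟩
  · exact ⟨w, v, hw, hv, c, d, a, b, fun x hx => (hall x hx).symm⟩
  · exact (h12 w v hw (fun x hx => (hall x hx).symm) b (by omega) c).elim
  · exact (h12 v w hv hall a (by omega) c).elim

end Max77

end Cfsg.Agent.Lib.RecogM22
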