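import Cfsg.Agent.Lib.RecogM22.TableBlocks
import Cfsg.Agent.Lib.RecogM22.Local
import Cfsg.Agent.Lib.Characters.DefectZero

/-!
The elements of order three commuting with an involution have centralisers of order `36`; the
data of the local analysis.

Owner: helper16.
-/

set_option autoImplicit false
set_option linter.style.haveILetI false
set_option linter.unusedSectionVars false

namespace Cfsg.Agent.Lib.RecogM22.Table

open Cfsg.Agent.Lib.Characters Cfsg.Agent.Lib.Characters.Basic Cfsg.Agent.Lib.Characters.Complete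
open Cfsg.Agent.Lib.Classif Cfsg.Agent.Lib.SmallGroups
open Cfsg.Agent.Lib.Classif.PrimeExceptional (deg apply_one_eq)
open scoped ComplexConjugate

universe u

/-- The orders `c` allowed by the twice real parts `a` at degree `21` and `b` at degree `210`. -/
def threeOk (a b : ℤ) : Bool :=
  let s := 2 - a + b
  let A1 := 2 + 21 * a + 110 + 560 * s + 210 * b + 154 * (2 + a)
  let A2 := 2 + 5 * a + 14 - 16 * s + 2 * b + 10 * (2 + a)
  let k := A1 / 385
  let e := (k - A2) / 16
  let f := -k - e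
  let q := 4 + a * a + 4 + (2 + a + e) * (2 + a + e) + b * b + e * e + 2 * (s * s) + f * f
  decide (A1 % 385 ≠ 0) || decide ((k - A2) % 16 ≠ 0) || decide (q % 72 ≠ 0) ||
    decide (1152 % (q / 4) ≠ 0) || decide (q = 144)

theorem threeOk_all : ((List.range 22).map fun i : ℕ => -21 + 3 * (i : ℤ)).all (fun a =>
    ((List.range 211).map fun i : ℕ => -210 + 3 * (i : ℤ)).all (threeOk a)) = true := by
  decide +kernel

variable {G : Type u} [Group G] [Finite G] [IsSimpleGroup G]

/-- Twice the real part of a value at an element of order three. -/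
theorem exists_re2 (χ : Cfsg.IrrCharacter G) {x : G} (hx : x ^ 3 = 1) :
    ∃ s : ℤ, (χ : G → ℂ) x + conj ((χ : G → ℂ) x) = (s : ℂ) ∧ (3 : ℤ) ∣ s - 2 * deg χ ∧
      -deg χ ≤ s ∧ s ≤ 2 * deg χ := by
  classical
  obtain ⟨n, ρ, -, hχρ⟩ := exists_rep χ
  obtain ⟨ι, hι, b, ζ, hζ, hcard, htr⟩ := Diag.exists_eigenbasis ρ x three_ne_zero hx
  have hdeg : deg χ = (Fintype.card ι : ℤ) := by
    have h2 := apply_one_eq χ
    rw [← hχρ, Representation.char_one, ← hcard] at h2
    exact_mod_cast h2.symm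
  have hone : ∀ i, ζ i + conj (ζ i) = if ζ i = 1 then (2 : ℂ) else -1 := by
    intro i
    split_ifs with h1
    · rw [h1, map_one]; norm_num
    · have h3 := (hζ i).2
      have hsum : ζ i ^ 2 + ζ i + 1 = 0 := by
        have h : (ζ i - 1) * (ζ i ^ 2 + ζ i + 1) = 0 := by linear_combination h3
        exact (mul_eq_zero.mp h).resolve_left (sub_ne_zero.mpr h1)
      rw [Diag.conj_eq_inv_of_pow three_ne_zero h3,
        show (ζ i)⁻¹ = ζ i ^ 2 from inv_eq_of_mul_eq_one_right (by rw [← pow_succ', h3])]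
      linear_combination hsum
  refine ⟨∑ i : ι, if ζ i = 1 then (2 : ℤ) else -1, ?_, ?_, ?_, ?_⟩
  · rw [← hχρ, htr, map_sum, ← Finset.sum_add_distrib, Finset.sum_congr rfl fun i _ => hone i]
    push_cast
    rfl
  · rw [hdeg, show 2 * (Fintype.card ι : ℤ) = ∑ _i : ι, (2 : ℤ) by simp [mul_comm],
      ← Finset.sum_sub_distrib]
    refine Finset.dvd_sum fun i _ => ?_
    split_ifs <;> norm_num
  · rw [hdeg, show -(Fintype.card ι : ℤ) = ∑ _i : ι, (-1 : ℤ) by simp]
    exact Finset.sum_le_sum fun i _ => by split_ifs <;> norm_num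
  · rw [hdeg, show 2 * (Fintype.card ι : ℤ) = ∑ _i : ι, (2 : ℤ) by simp [mul_comm]]
    exact Finset.sum_le_sum fun i _ => by split_ifs <;> norm_num

variable (h : TableData G)

include h

/-- An element of order three commutes with no element of order `5`, `7` or `11`. -/
theorem no_common [Fact (Nat.Prime 7)] [Fact (Nat.Prime 11)] {x y : G} {p : ℕ}
    (hp : p = 5 ∨ p = 7 ∨ p = 11) (hy : orderOf y = p) (hxy : x * y = y * x)
    (hx : orderOf x = 3) : False := by
  haveI : Fact p.Prime := ⟨by rcases hp with rfl | rfl | rfl <;> norm_num⟩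
  obtain ⟨Q, hQ⟩ := (IsPGroup.of_card (n := 1)
    (show Nat.card (Subgroup.zpowers y) = p ^ 1 by rw [Nat.card_zpowers, hy, pow_one])
    ).exists_le_sylow
  have hQc : Nat.card (Q : Subgroup G) = p ∧
      Nat.card (Subgroup.centralizer ((Q : Subgroup G) : Set G)) = p := by
    rcases hp with rfl | rfl | rfl
    · refine ⟨?_, (h.five Q).1⟩
      simpa using Sylow.card_sylow_eq Q (a := 1) (m := 88704) (by rw [h.card]; norm_num) (by norm_num)
    · exact ⟨(Seven.data h.card Q).1, (Seven.data h.card Q).2.2.1⟩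
    · exact ⟨(Eleven.data h.card Q).1, (Eleven.data h.card Q).2.2.1⟩
  have hQe := Subgroup.eq_of_le_of_card_ge hQ (by rw [Nat.card_zpowers, hy, hQc.1])
  have hxC : x ∈ Subgroup.centralizer ((Q : Subgroup G) : Set G) := by
    rw [← hQe, Subgroup.mem_centralizer_iff]
    intro z hz
    obtain ⟨i, rfl⟩ := Subgroup.mem_zpowers_iff.mp hz
    exact ((show Commute y x from hxy.symm).zpow_left i).eq
  have := Subgroup.orderOf_dvd_natCard _ hxC
  rw [hQc.2, hx] at this
  rcases hp with rfl | rfl | rfl <;> norm_num at this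

set_option maxHeartbeats 800000 in
/-- The centraliser of an element of order three that commutes with an involution. -/
theorem centR [Fact (Nat.Prime 5)] [Fact (Nat.Prime 7)] [Fact (Nat.Prime 11)] {x t : G}
    (hx : orderOf x = 3) (ht : orderOf t = 2) (hxt : x * t = t * x) :
    Nat.card (Subgroup.centralizer ({x} : Set G)) = 36 := by
  classical
  haveI := Fintype.ofFinite G
  haveI := Fintype.ofFinite (Cfsg.IrrCharacter G)
  haveI : Fact (Nat.Prime 3) := ⟨Nat.prime_three⟩
  set C := Subgroup.centralizer ({x} : Set G) with hC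
  have h1152 : Nat.card C ∣ 1152 := by
    have hd : Nat.card C ∣ 1152 * 385 := (h.card ▸ Subgroup.card_subgroup_dvd_card C : _ ∣ 443520)
    refine Nat.Coprime.dvd_of_dvd_mul_right ?_ hd
    rw [show 385 = 5 * (7 * 11) from rfl, Nat.coprime_mul_iff_right, Nat.coprime_mul_iff_right]
    have key : ∀ p, p = 5 ∨ p = 7 ∨ p = 11 → Nat.Coprime (Nat.card C) p := fun p hp => by
      have hpp : p.Prime := by rcases hp with rfl | rfl | rfl <;> norm_num
      haveI : Fact p.Prime := ⟨hpp⟩
      refine ((Nat.Prime.coprime_iff_not_dvd hpp).mpr fun hdvd => ?_).symm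
      obtain ⟨⟨y, hy⟩, hyo⟩ := exists_prime_orderOf_dvd_card' (G := C) p hdvd
      rw [Subgroup.orderOf_mk] at hyo
      exact no_common h hp hyo (Subgroup.mem_centralizer_singleton_iff.mp hy).symm hx
    exact ⟨key 5 (by simp), key 7 (by simp), key 11 (by simp)⟩
  have h2 : 2 ∣ Nat.card C := ht ▸ Subgroup.orderOf_dvd_natCard C
    (Subgroup.mem_centralizer_singleton_iff.mpr hxt.symm)
  have h9 : 9 ∣ Nat.card C := by
    obtain ⟨P, hP⟩ := (IsPGroup.of_card (n := 1)
      (show Nat.card (Subgroup.zpowers x) = 3 ^ 1 by rw [Nat.card_zpowers, hx, pow_one])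
      ).exists_le_sylow
    have hPc : Nat.card (P : Subgroup G) = 3 ^ 2 :=
      Sylow.card_sylow_eq P (a := 2) (m := 49280) (by rw [h.card]; norm_num) (by norm_num)
    haveI := IsPGroup.isMulCommutative_of_card_eq_prime_sq (p := 3) hPc
    rw [show (9 : ℕ) = 3 ^ 2 from rfl, ← hPc]
    refine Subgroup.card_dvd_of_le fun a ha => Subgroup.mem_centralizer_singleton_iff.mpr ?_
    exact congrArg Subtype.val
      (mul_comm' (⟨a, ha⟩ : (P : Subgroup G)) ⟨x, hP (Subgroup.mem_zpowers x)⟩)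
  have h18 : 18 ∣ Nat.card C :=
    (show Nat.Coprime 2 9 by norm_num).mul_dvd_of_dvd_of_dvd h2 h9
  have hx3 : x ^ 3 = 1 := by rw [← hx, pow_orderOf_eq_one]
  obtain ⟨c, hc, hd⟩ := exists_enum h
  have hreg : ∀ p, p = 5 ∨ p = 7 ∨ p = 11 → ¬ p ∣ orderOf x := fun p hp => by
    rw [hx]; rcases hp with rfl | rfl | rfl <;> norm_num
  obtain ⟨b11, b280⟩ := block_eleven h hc hd (hreg 11 (by simp))
  obtain ⟨b7, b45⟩ := block_seven h hc hd (hreg 7 (by simp))
  have b5 := block_five h hc hd (hreg 5 (by simp))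
  have hzero : ∀ i : Fin 12, i = 2 ∨ i = 3 ∨ i = 5 → (c i : G → ℂ) x = 0 := by
    intro i hi
    refine DefectZero.apply_eq_zero (p := 3) (n := 2) (r := 49280)
      (e := (deg (c i)).natAbs / 9) Nat.prime_three (c i) (by rw [h.card]; norm_num) (by norm_num)
      ?_ (by rw [hx])
    rcases hi with rfl | rfl | rfl
    · rw [apply_one_eq, show deg (c 2) = 45 from hd 2]; norm_num
    · rw [apply_one_eq, show deg (c 3) = 45 from hd 3]; norm_num
    · rw [apply_one_eq, show deg (c 5) = 99 from hd 5]; norm_num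
  -- the values are real
  have hreal : ∀ i, conj ((c i : G → ℂ) x) = (c i : G → ℂ) x := by
    intro i
    obtain ⟨j, hj⟩ := hc.2 (Linear.conjChar (c i))
    have hdj : deg (c j) = deg (c i) := by
      have h1 := apply_one_eq (c i)
      have h2 := apply_one_eq (c j)
      rw [hj, Linear.conjChar_apply, h1, map_intCast, ← hj] at h2
      exact_mod_cast h2.symm
    rw [← Linear.conjChar_apply, ← hj]
    rw [hd, hd] at hdj
    fin_cases i <;> fin_cases j <;> first
      | rfl
      | exact absurd hdj (by decide)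
      | exact b45 | exact b45.symm | exact b280 | exact b280.symm
  choose s hs hs3 hslo hshi using fun i => exists_re2 (c i) hx3
  have hsv : ∀ i, 2 * (c i : G → ℂ) x = (s i : ℂ) := fun i => by
    rw [← hs i, hreal i]; ring
  have hsum : ∀ F : Cfsg.IrrCharacter G → ℂ, ∑ χ, F χ = ∑ i, F (c i) := fun F =>
    (hc.sum_comp F).symm
  have hc0 : (c 0 : G → ℂ) x = 1 := by rw [c_zero h hc hd, oneChar_apply]
  -- orthogonality
  have e1 : ∑ i, (c i : G → ℂ) x * ((![(1 : ℤ), 21, 45, 45, 55, 99, 154, 210, 231, 280, 280, 385] i :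
      ℤ) : ℂ) = 0 := by
    have h1 := sum_irr_mul_conj x (1 : G)
    rw [if_neg (fun hcj => ?_)] at h1
    · rw [hsum] at h1
      simpa only [apply_one_eq, map_intCast, hd] using h1
    · obtain ⟨w, hw⟩ := isConj_iff.mp hcj
      rw [conj_eq_one_iff.mp hw, orderOf_one] at hx
      omega
  have e2 : ∑ i, (c i : G → ℂ) x * ((colT (![(1 : ℤ), 21, 45, 45, 55, 99, 154, 210, 231, 280, 280,
      385] i) : ℤ) : ℂ) = 0 := by
    have h1 := sum_irr_mul_conj x t
    rw [if_neg (fun hcj => ?_)] at h1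
    · rw [hsum] at h1
      simpa only [h.inv t ht, map_intCast, hd] using h1
    · obtain ⟨w, hw⟩ := isConj_iff.mp hcj
      have := MulEquiv.orderOf_eq (MulAut.conj w) x
      rw [MulAut.conj_apply, hw, ht, hx] at this
      omega
  have e3 : ∑ i, (c i : G → ℂ) x * (c i : G → ℂ) x = (Nat.card C : ℂ) := by
    have h1 := sum_irr_mul_conj x x
    rw [if_pos (IsConj.refl x), hsum] at h1
    simpa only [hreal] using h1
  simp only [Fin.sum_univ_succ, Fin.sum_univ_zero, add_zero, Matrix.cons_val_zero,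
    Matrix.cons_val_succ, Fin.succ_zero_eq_one, Fin.succ_one_eq_two, Fin.reduceSucc] at e1 e2 e3
  norm_num [colT, hc0, hzero 2 (by simp), hzero 3 (by simp), hzero 5 (by simp)] at e1 e2 e3 b11 b7 b5
  rw [← b280] at e1 e2 e3
  -- the equations between twice the values
  have h55 : s 4 = 2 := by
    have : ((s 4 : ℤ) : ℂ) = ((2 : ℤ) : ℂ) := by rw [← hsv 4]; push_cast; linear_combination (-2 : ℂ) * b7
    exact_mod_cast this
  have hz : s 9 = 2 - s 1 + s 7 := by
    have : ((s 9 : ℤ) : ℂ) = ((2 - s 1 + s 7 : ℤ) : ℂ) := by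
      push_cast; rw [← hsv 9, ← hsv 1, ← hsv 7]; linear_combination (-2 : ℂ) * b11
    exact_mod_cast this
  have h154 : s 6 = 2 + s 1 + s 8 := by
    have : ((s 6 : ℤ) : ℂ) = ((2 + s 1 + s 8 : ℤ) : ℂ) := by
      push_cast; rw [← hsv 6, ← hsv 1, ← hsv 8]; linear_combination (-2 : ℂ) * b5
    exact_mod_cast this
  have he1 : 2 + 21 * s 1 + 55 * s 4 + 154 * s 6 + 210 * s 7 + 231 * s 8 + 560 * s 9 + 385 * s 11 = 0 := by
    have : ((2 + 21 * s 1 + 55 * s 4 + 154 * s 6 + 210 * s 7 + 231 * s 8 + 560 * s 9 + 385 * s 11 :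
        ℤ) : ℂ) = ((0 : ℤ) : ℂ) := by
      push_cast
      rw [← hsv 1, ← hsv 4, ← hsv 6, ← hsv 7, ← hsv 8, ← hsv 9, ← hsv 11]
      linear_combination (2 : ℂ) * e1
    exact_mod_cast this
  have he2 : 2 + 5 * s 1 + 7 * s 4 + 10 * s 6 + 2 * s 7 + 7 * s 8 - 16 * s 9 + s 11 = 0 := by
    have : ((2 + 5 * s 1 + 7 * s 4 + 10 * s 6 + 2 * s 7 + 7 * s 8 - 16 * s 9 + s 11 :
        ℤ) : ℂ) = ((0 : ℤ) : ℂ) := by
      push_cast
      rw [← hsv 1, ← hsv 4, ← hsv 6, ← hsv 7, ← hsv 8, ← hsv 9, ← hsv 11]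
      linear_combination (2 : ℂ) * e2
    exact_mod_cast this
  have he3 : 4 + s 1 * s 1 + s 4 * s 4 + s 6 * s 6 + s 7 * s 7 + s 8 * s 8 + 2 * (s 9 * s 9) +
      s 11 * s 11 = 4 * (Nat.card C : ℤ) := by
    have : ((4 + s 1 * s 1 + s 4 * s 4 + s 6 * s 6 + s 7 * s 7 + s 8 * s 8 + 2 * (s 9 * s 9) +
        s 11 * s 11 : ℤ) : ℂ) = ((4 * (Nat.card C : ℤ) : ℤ) : ℂ) := by
      push_cast
      rw [← hsv 1, ← hsv 4, ← hsv 6, ← hsv 7, ← hsv 8, ← hsv 9, ← hsv 11]
      simp only [Nat.card_eq_fintype_card]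
      linear_combination (4 : ℂ) * e3
    exact_mod_cast this
  have hd1 : deg (c 1) = 21 := hd 1
  have hd7 : deg (c 7) = 210 := hd 7
  have l1 := hslo 1; have u1 := hshi 1; have m1 := hs3 1
  have l7 := hslo 7; have u7 := hshi 7; have m7 := hs3 7
  rw [hd1] at l1 u1 m1
  rw [hd7] at l7 u7 m7
  have hrow := List.all_eq_true.mp (List.all_eq_true.mp threeOk_all (s 1)
    (List.mem_map.mpr ⟨((s 1 + 21) / 3).toNat, List.mem_range.mpr (by omega), by omega⟩)) (s 7)
    (List.mem_map.mpr ⟨((s 7 + 210) / 3).toNat, List.mem_range.mpr (by omega), by omega⟩)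
  simp only [threeOk, Bool.or_eq_true, decide_eq_true_eq] at hrow
  rw [← hz] at hrow
  set A1 := 2 + 21 * s 1 + 110 + 560 * s 9 + 210 * s 7 + 154 * (2 + s 1) with hA1
  set A2 := 2 + 5 * s 1 + 14 - 16 * s 9 + 2 * s 7 + 10 * (2 + s 1) with hA2
  set k := A1 / 385 with hk
  have hk' : k = -(s 8) - s 11 := by omega
  have hA1' : A1 % 385 = 0 := by omega
  have he : (k - A2) / 16 = s 8 := by omega
  have he' : (k - A2) % 16 = 0 := by omega
  rw [he, show -k - s 8 = s 11 by omega, ← h154] at hrow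
  rw [h55] at he3
  have hq : 4 + s 1 * s 1 + 4 + s 6 * s 6 + s 7 * s 7 + s 8 * s 8 + 2 * (s 9 * s 9) + s 11 * s 11 =
      4 * (Nat.card C : ℤ) := by linarith
  rw [hq] at hrow
  obtain ⟨m, hm⟩ := h18
  obtain ⟨n, hn⟩ := h1152
  rcases hrow with (((h' | h') | h') | h') | h'
  · exact absurd hA1' h'
  · exact absurd he' h'
  · exfalso; omega
  · exfalso
    refine h' ?_
    rw [Int.mul_ediv_cancel_left _ (by norm_num : (4 : ℤ) ≠ 0)]
    exact Int.emod_eq_zero_of_dvd ⟨n, by exact_mod_cast hn⟩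
  · omega

/-- The data of the local analysis. -/
theorem localData : LocalData G := by
  haveI : Fact (Nat.Prime 5) := ⟨by norm_num⟩
  haveI : Fact (Nat.Prime 7) := ⟨by norm_num⟩
  haveI : Fact (Nat.Prime 11) := ⟨by norm_num⟩
  refine ⟨h.card, fun t ht => centT h ht, fun x t hx ht hxt => centR h hx ht hxt,
    fun y z hy hyz => ?_, fun t ht => count h ht⟩
  obtain ⟨Q, hQ⟩ := (IsPGroup.of_card (n := 1)
    (show Nat.card (Subgroup.zpowers y) = 5 ^ 1 by rw [Nat.card_zpowers, hy, pow_one])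
    ).exists_le_sylow
  have hQc : Nat.card (Q : Subgroup G) = 5 := by
    simpa using Sylow.card_sylow_eq Q (a := 1) (m := 88704) (by rw [h.card]; norm_num) (by norm_num)
  have hQe := Subgroup.eq_of_le_of_card_ge hQ (by rw [Nat.card_zpowers, hy, hQc])
  have hCQ : Subgroup.centralizer ((Q : Subgroup G) : Set G) = (Q : Subgroup G) := by
    symm
    refine Subgroup.eq_of_le_of_card_ge (fun a ha => ?_) (by rw [(h.five Q).1, hQc])
    rw [Subgroup.mem_centralizer_iff]
    intro b hb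
    haveI := isCyclic_of_prime_card hQc
    exact congrArg Subtype.val
      ((IsCyclic.commGroup (α := (Q : Subgroup G))).mul_comm ⟨b, hb⟩ ⟨a, ha⟩)
  rw [hQe, ← hCQ, Subgroup.mem_centralizer_iff]
  intro w hw
  obtain ⟨i, rfl⟩ := Subgroup.mem_zpowers_iff.mp (hQe.symm ▸ hw : w ∈ Subgroup.zpowers y)
  exact ((show Commute y z from hyz).zpow_left i).eq

end Cfsg.Agent.Lib.RecogM22.Table
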