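import Cfsg.Agent.Lib.RecogThree.M12.Full
import Cfsg.Agent.Lib.Classif.FixedSylow
import Cfsg.Agent.Lib.H80.ClassMult

/-!
Products of two conjugate involutions against the family of a Sylow subgroup of prime order, with
no hypothesis on the centraliser: the mixed class sum counts the `p`-singular products, and for
one class of involutions this number is governed by a square.
-/

set_option autoImplicit false
set_option linter.style.haveILetI false
set_option linter.unusedSectionVars false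

namespace Cfsg.Agent.Lib.RecogM22.Pairs

open Cfsg.Agent.Lib.Characters Cfsg.Agent.Lib.Characters.Basic
open Cfsg.Agent.Lib.Classif
open Cfsg.Agent.Lib.Classif.PrimeExceptional (deg apply_one_eq)
open Cfsg.Agent.Lib.RecogThree.M12 (Full.Extra)

universe u

variable {G : Type u} [Group G] [Finite G] {p : ℕ} [hp : Fact p.Prime] {P : Sylow p G}
  (hP : Nat.card (P : Subgroup G) = p)

include hP in
theorem orderOf_of_mem {x : G} (hx : x ∈ (P : Subgroup G)) (h1 : x ≠ 1) : orderOf x = p :=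
  orderOf_eq_prime (FixedSylow.pow_eq_one P hP hx) h1

include hP in
/-- A `p`-element commuting with `P` lies in it. -/
theorem mem_of_commute {y : G} (hy : orderOf y = p)
    (hc : y ∈ Subgroup.centralizer ((P : Subgroup G) : Set G)) : y ∈ (P : Subgroup G) := by
  have hQ : IsPGroup p (Subgroup.zpowers y) :=
    IsPGroup.of_card (n := 1) (by rw [Nat.card_zpowers, hy, pow_one])
  have hN : Subgroup.zpowers y ≤ Subgroup.normalizer ((P : Subgroup G) : Set G) :=
    Subgroup.zpowers_le.mpr (Cfsg.Agent.Lib.SmallGroups.Sylow.centralizer_le_normalizer _ hc)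
  have hsup := hQ.to_sup_of_normal_right' P.isPGroup' hN
  exact le_sup_left.trans_eq (P.is_maximal' hsup le_sup_right) (Subgroup.mem_zpowers y)

include hP in
/-- The decomposition of a `p`-singular element, moved to `P`. -/
theorem exists_conj_split {g : G} (hg : p ∣ orderOf g) :
    ∃ b x v : G, b * g * b⁻¹ = x * v ∧ x ∈ (P : Subgroup G) ∧ x ≠ 1 ∧
      v ∈ Subgroup.centralizer ((P : Subgroup G) : Set G) ∧ ¬ p ∣ orderOf v := by
  obtain ⟨k, hk⟩ := hg
  have hk0 : k ≠ 0 := fun h => (orderOf_pos g).ne' (by rw [hk, h, mul_zero])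
  have hgk : orderOf (g ^ k) = p := by
    rw [orderOf_pow, hk, Nat.gcd_mul_left_left, Nat.mul_div_cancel _ (Nat.pos_of_ne_zero hk0)]
  have hpk : ¬ p ∣ k := by
    rintro ⟨m, rfl⟩
    exact PrimePrincipal.Setup.not_sq_dvd P hP
      ((Dvd.intro m (by rw [hk]; ring)).trans (orderOf_dvd_natCard g))
  obtain ⟨Q, hQ⟩ := (IsPGroup.of_card (n := 1)
    (show Nat.card (Subgroup.zpowers (g ^ k)) = p ^ 1 by
      rw [Nat.card_zpowers, hgk, pow_one])).exists_le_sylow
  obtain ⟨b, hb⟩ := MulAction.exists_smul_eq G Q P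
  set x₀ := b * g ^ k * b⁻¹ with hx₀
  have hx₀P : x₀ ∈ (P : Subgroup G) := by
    rw [hx₀, ← hb, Sylow.coe_subgroup_smul, Subgroup.mem_pointwise_smul_iff_inv_smul_mem]
    convert hQ (Subgroup.mem_zpowers (g ^ k)) using 1
    rw [MulAut.smul_def, ← map_inv, MulAut.conj_apply]
    group
  have hx₀o : orderOf x₀ = p := by
    rw [hx₀, ← MulAut.conj_apply, MulEquiv.orderOf_eq, hgk]
  set v₀ := b * g ^ p * b⁻¹ with hv₀
  have hv₀o : orderOf v₀ = k := by
    rw [hv₀, ← MulAut.conj_apply, MulEquiv.orderOf_eq, orderOf_pow, hk, Nat.gcd_mul_right_left,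
      Nat.mul_div_cancel_left _ hp.out.pos]
  have hv₀C : v₀ ∈ Subgroup.centralizer ((P : Subgroup G) : Set G) := by
    rw [Subgroup.mem_centralizer_iff]
    intro y hy
    rw [SetLike.mem_coe, ← PrimeExceptional.zpowers_eq P hP hx₀P
      (fun h => by rw [h, orderOf_one] at hx₀o; exact hp.out.ne_one hx₀o.symm)] at hy
    obtain ⟨i, rfl⟩ := Subgroup.mem_zpowers_iff.mp hy
    refine (Commute.zpow_left ?_ i).eq
    rw [hx₀, hv₀, ← conj_pow, ← conj_pow]
    exact (Commute.refl _).pow_pow k p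
  obtain ⟨i, j, hij⟩ : ∃ i j : ℤ, i * k + j * p = 1 := by
    have hco : IsCoprime (k : ℤ) (p : ℤ) :=
      Nat.isCoprime_iff_coprime.mpr ((hp.out.coprime_iff_not_dvd.mpr hpk).symm)
    exact hco
  refine ⟨b, x₀ ^ i, v₀ ^ j, ?_, zpow_mem hx₀P i, ?_, zpow_mem hv₀C j, ?_⟩
  · rw [hx₀, hv₀, conj_zpow, conj_zpow, conj_mul, ← zpow_natCast, ← zpow_natCast, ← zpow_mul,
      ← zpow_mul, ← zpow_add, show (k : ℤ) * i + (p : ℤ) * j = 1 by linarith, zpow_one]
  · intro h
    have := orderOf_dvd_iff_zpow_eq_one.mpr h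
    rw [hx₀o] at this
    obtain ⟨m, rfl⟩ := this
    have h' : (p : ℤ) ∣ 1 := ⟨m * k + j, by linarith⟩
    exact hp.out.ne_one (Nat.dvd_one.mp (by exact_mod_cast h'))
  · intro h
    have h' := h.trans (orderOf_dvd_iff_pow_eq_one.mpr (show (v₀ ^ j) ^ orderOf v₀ = 1 by
      rw [← zpow_natCast, zpow_comm, zpow_natCast, pow_orderOf_eq_one, one_zpow]))
    rw [hv₀o] at h'
    exact hpk h'

variable {e : ℕ} (D : FirstPowerData.Data P e)

/-- The mixed class sum divided by the order of the group. -/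
noncomputable def T (u v : G) : ℂ :=
  1 + ∑ χ ∈ D.K, (D.a χ : ℂ) * ((χ : G → ℂ) u * (χ : G → ℂ) v / (deg χ : ℂ)) -
    (D.δ : ℂ) * ((D.θ : G → ℂ) u * (D.θ : G → ℂ) v / (deg D.θ : ℂ))

include hP in
theorem pointwise (E : Full.Extra P D) (z : G) :
    (D.fam.card : ℂ) * (1 + ∑ χ ∈ D.K, (D.a χ : ℂ) * (χ : G → ℂ) z) -
      (D.δ : ℂ) * ∑ θ' ∈ D.fam, (θ' : G → ℂ) z = if p ∣ orderOf z then (p : ℂ) else 0 := by
  classical
  split_ifs with hz
  · obtain ⟨b, x, v, hb, hx, hx1, hv, hv'⟩ := exists_conj_split hP hz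
    have hcl : ∀ χ : Cfsg.IrrCharacter G, (χ : G → ℂ) z = (χ : G → ℂ) (x * v) := fun χ => by
      rw [← hb, isClassFunction_irr χ z b]
    simp only [hcl]
    rw [Finset.sum_congr rfl (g := fun _ => (1 : ℂ)) fun χ hχ => by
        rw [D.value χ hχ x hx hx1 v hv hv']
        rcases D.a_unit χ hχ with h | h <;> rw [h] <;> norm_num,
      Finset.sum_const, nsmul_one,
      Finset.sum_congr rfl fun θ' hθ' => E.fam_const θ' hθ' x hx hx1 v ((E.mem_V v).2 ⟨hv, hv'⟩),
      E.fam_sum x hx hx1]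
    have h1 : (D.K.card : ℂ) + 1 = e := by exact_mod_cast D.card_K
    have h2 : (e : ℂ) * D.fam.card + 1 = p := by exact_mod_cast D.fam_card
    have hδ : (D.δ : ℂ) * D.δ = 1 := by rcases D.δ_unit with h | h <;> rw [h] <;> norm_num
    linear_combination (D.fam.card : ℂ) * h1 + h2 + hδ
  · rw [D.rel z hz, Finset.sum_congr rfl fun θ' h => D.fam_regular θ' h z hz, Finset.sum_const,
      nsmul_eq_mul]
    ring

include hP in
theorem mixed (E : Full.Extra P D) {u v : G} (hu : ¬ p ∣ orderOf u) (hv : ¬ p ∣ orderOf v) :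
    (Nat.card G : ℂ) * (D.fam.card : ℂ) * T D u v =
      (p : ℂ) * (Nat.card {a : G // p ∣ orderOf (u * (a * v * a⁻¹))} : ℂ) := by
  classical
  haveI := Fintype.ofFinite G
  have hsum : ∑ a : G, ((D.fam.card : ℂ) *
      (1 + ∑ χ ∈ D.K, (D.a χ : ℂ) * (χ : G → ℂ) (u * (a * v * a⁻¹))) -
      (D.δ : ℂ) * ∑ θ' ∈ D.fam, (θ' : G → ℂ) (u * (a * v * a⁻¹))) =
      ∑ a : G, if p ∣ orderOf (u * (a * v * a⁻¹)) then (p : ℂ) else 0 :=
    Finset.sum_congr rfl fun a _ => pointwise hP D E _
  rw [Finset.sum_ite, Finset.sum_const_zero, add_zero, Finset.sum_const, nsmul_eq_mul,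
    Finset.sum_sub_distrib, ← Finset.mul_sum, Finset.sum_add_distrib, ← Finset.mul_sum,
    Finset.sum_comm (t := D.K), Finset.sum_comm (t := D.fam)] at hsum
  simp only [← Finset.mul_sum, H80.ClassMult.sum_apply_mul_conj, apply_one_eq, Finset.sum_const,
    Finset.card_univ, nsmul_eq_mul, mul_one, ← Nat.card_eq_fintype_card] at hsum
  rw [Finset.sum_congr rfl (s₁ := D.fam) fun θ' h' => by
      rw [D.fam_regular θ' h' u hu, D.fam_regular θ' h' v hv, D.fam_deg θ' h'],
    Finset.sum_const, nsmul_eq_mul] at hsum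
  rw [Nat.card_eq_fintype_card (α := {a : G // p ∣ orderOf (u * (a * v * a⁻¹))}),
    Fintype.card_subtype, mul_comm (p : ℂ), ← hsum, T]
  have hK : ∑ χ ∈ D.K, (D.a χ : ℂ) *
      ((Nat.card G : ℂ) * (χ : G → ℂ) u * (χ : G → ℂ) v / (deg χ : ℂ)) =
      (Nat.card G : ℂ) * ∑ χ ∈ D.K, (D.a χ : ℂ) *
        ((χ : G → ℂ) u * (χ : G → ℂ) v / (deg χ : ℂ)) := by
    rw [Finset.mul_sum]
    exact Finset.sum_congr rfl fun χ _ => by ring
  rw [hK]
  ring

/-- The elements inverting `P`. -/
def Inv (P : Sylow p G) (x : G) : Prop := ∀ y ∈ (P : Subgroup G), x * y * x⁻¹ = y⁻¹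

include hP in
theorem inv_of_inverts_one (hp2 : p ≠ 2) {x y : G} (hx : x * x = 1) (hy : y ∈ (P : Subgroup G))
    (hy1 : y ≠ 1) (h : x * y * x⁻¹ = y⁻¹) : Inv P x := by
  haveI := Fintype.ofFinite G
  have hN : x ∈ Subgroup.normalizer ((P : Subgroup G) : Set G) := by
    by_contra hn
    exact hy1 (PrimeExceptional.hTI P hP x hn y hy (h ▸ inv_mem hy))
  refine (FixedSylow.inverts_or_centralizes P hP hN hx).resolve_left fun hc => hy1 ?_
  have h2 : y * y = 1 := by
    rw [← (Subgroup.mem_centralizer_iff.mp hc y hy), mul_inv_cancel_right] at h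
    exact mul_eq_one_iff_eq_inv.mpr h
  have ho : orderOf y ∣ 2 := orderOf_dvd_of_pow_eq_one (by rw [pow_two, h2])
  rw [orderOf_of_mem hP hy hy1] at ho
  exact absurd ((Nat.prime_dvd_prime_iff_eq hp.out Nat.prime_two).mp ho) hp2

theorem Inv.mul_mem_centralizer {x v : G} (hx : Inv P x) (hv : Inv P v) :
    x * v ∈ Subgroup.centralizer ((P : Subgroup G) : Set G) := by
  rw [Subgroup.mem_centralizer_iff]
  intro y hy
  refine (mul_inv_eq_iff_eq_mul.mp ?_).symm
  calc x * v * y * (x * v)⁻¹ = x * (v * y * v⁻¹) * x⁻¹ := by group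
    _ = y := by rw [hv y hy, hx _ (inv_mem hy), inv_inv]

theorem mul_inv_of_involutions {x v : G} (hx : x * x = 1) (hv : v * v = 1) :
    x * (x * v) * x⁻¹ = (x * v)⁻¹ := by
  rw [mul_inv_rev, inv_eq_of_mul_eq_one_right hx, inv_eq_of_mul_eq_one_right hv, ← mul_assoc x x v,
    hx, one_mul]

include hP in
/-- Two involutions with `p`-singular product: conjugates inverting `P`. -/
theorem exists_inverting (hp2 : p ≠ 2) {x v : G} (hx : x * x = 1) (hv : v * v = 1)
    (h : p ∣ orderOf (x * v)) :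
    ∃ b : G, Inv P (b * x * b⁻¹) ∧ Inv P (b * v * b⁻¹) := by
  obtain ⟨b, y, w, hb, hy, hy1, hw, hw'⟩ := exists_conj_split hP h
  refine ⟨b, ?_⟩
  have hcomm : Commute y w := (Subgroup.mem_centralizer_iff.mp hw y hy :)
  set X := b * x * b⁻¹ with hX
  set W := b * v * b⁻¹ with hW
  have hX2 : X * X = 1 := by rw [hX, conj_mul, hx, mul_one, mul_inv_cancel]
  have hW2 : W * W = 1 := by rw [hW, conj_mul, hv, mul_one, mul_inv_cancel]
  have hXW : X * W = y * w := by rw [hX, hW, conj_mul, hb]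
  -- a power of the product is the `p`-part
  obtain ⟨m, hm⟩ : ∃ m : ℤ, (y * w) ^ m = y := by
    have hco : IsCoprime (orderOf w : ℤ) (p : ℤ) :=
      Nat.isCoprime_iff_coprime.mpr ((hp.out.coprime_iff_not_dvd.mpr hw').symm)
    obtain ⟨i, j, hij⟩ := hco
    refine ⟨i * orderOf w, ?_⟩
    have hyp : y ^ (p : ℤ) = 1 := by rw [zpow_natCast, FixedSylow.pow_eq_one P hP hy]
    have hi : i * (orderOf w : ℤ) = 1 + (-j) * p := by linarith
    rw [hcomm.mul_zpow, mul_comm i, zpow_mul w, zpow_natCast, pow_orderOf_eq_one, one_zpow,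
      mul_one, mul_comm (orderOf w : ℤ) i, hi, zpow_add, zpow_one, mul_comm (-j),
      zpow_mul, hyp, one_zpow, mul_one]
  have hXy : X * y * X⁻¹ = y⁻¹ := by
    rw [← hm, ← conj_zpow, ← hXW, mul_inv_of_involutions hX2 hW2, inv_zpow]
  have hXinv := inv_of_inverts_one hP hp2 hX2 hy hy1 hXy
  refine ⟨hXinv, inv_of_inverts_one hP hp2 hW2 hy hy1 ?_⟩
  have hWe : W = X * (y * w) := by rw [← hXW, ← mul_assoc, hX2, one_mul]
  calc W * y * W⁻¹ = X * (y * w * y * (y * w)⁻¹) * X⁻¹ := by rw [hWe]; group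
    _ = X * y * X⁻¹ := by
        congr 2
        rw [mul_inv_rev, mul_assoc y w y, ← hcomm.eq]
        group
    _ = y⁻¹ := hXy

include hP in
theorem not_dvd_of_odd (hp2 : p ≠ 2)
    (he : (Subgroup.centralizer ((P : Subgroup G) : Set G)).relIndex
      (Subgroup.normalizer ((P : Subgroup G) : Set G)) = e) (hodd : Odd e)
    {x v : G} (hx : x * x = 1) (hv : v * v = 1) : ¬ p ∣ orderOf (x * v) := by
  intro h
  obtain ⟨b, hb, -⟩ := exists_inverting hP hp2 hx hv h
  set X := b * x * b⁻¹ with hX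
  have hX2 : X ^ 2 = 1 := by rw [hX, pow_two, conj_mul, hx, mul_one, mul_inv_cancel]
  obtain ⟨⟨y, hy⟩, hyo⟩ := exists_prime_orderOf_dvd_card' (G := (P : Subgroup G)) p (by rw [hP])
  rw [Subgroup.orderOf_mk] at hyo
  have hy1 : y ≠ 1 := fun h => by rw [h, orderOf_one] at hyo; exact hp.out.ne_one hyo.symm
  haveI := Fintype.ofFinite G
  have hXN : X ∈ Subgroup.normalizer ((P : Subgroup G) : Set G) := by
    by_contra hn
    exact hy1 (PrimeExceptional.hTI P hP X hn y hy (hb y hy ▸ inv_mem hy))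
  set C := Subgroup.centralizer ((P : Subgroup G) : Set G)
  haveI : (C.subgroupOf (Subgroup.normalizer ((P : Subgroup G) : Set G))).Normal :=
    Subgroup.normal_subgroupOf_centralizer_normalizer _
  have hmem := Subgroup.pow_index_mem
    (C.subgroupOf (Subgroup.normalizer ((P : Subgroup G) : Set G))) ⟨X, hXN⟩
  obtain ⟨k, hk⟩ := hodd
  rw [← Subgroup.relIndex, he, hk, Subgroup.mem_subgroupOf] at hmem
  simp only [SubmonoidClass.coe_pow] at hmem
  rw [pow_succ, pow_mul, hX2, one_pow, one_mul] at hmem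
  have h1 := hb y hy
  rw [← (Subgroup.mem_centralizer_iff.mp hmem y hy), mul_inv_cancel_right] at h1
  have ho : orderOf y ∣ 2 :=
    orderOf_dvd_of_pow_eq_one (by rw [pow_two]; exact mul_eq_one_iff_eq_inv.mpr h1)
  rw [hyo] at ho
  exact hp2 ((Nat.prime_dvd_prime_iff_eq hp.out Nat.prime_two).mp ho)

include hP in
/-- With `|N : C|` odd the mixed class sum of two involutions vanishes. -/
theorem T_eq_zero (E : Full.Extra P D) (hp2 : p ≠ 2)
    (he : (Subgroup.centralizer ((P : Subgroup G) : Set G)).relIndex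
      (Subgroup.normalizer ((P : Subgroup G) : Set G)) = e) (hodd : Odd e)
    {u v : G} (hu : orderOf u = 2) (hv : orderOf v = 2) : T D u v = 0 := by
  have h2 : ¬ p ∣ 2 := fun h => hp2 ((Nat.prime_dvd_prime_iff_eq hp.out Nat.prime_two).mp h)
  have h := mixed hP D E (by rwa [hu]) (by rwa [hv])
  haveI : IsEmpty {a : G // p ∣ orderOf (u * (a * v * a⁻¹))} := by
    refine ⟨fun a => not_dvd_of_odd hP hp2 he hodd ?_ ?_ a.2⟩
    · rw [← pow_two, ← hu, pow_orderOf_eq_one]
    · rw [conj_mul, ← pow_two, ← hv, pow_orderOf_eq_one, mul_one, mul_inv_cancel]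
  rw [Nat.card_of_isEmpty (α := {a : G // p ∣ orderOf (u * (a * v * a⁻¹))}), Nat.cast_zero,
    mul_zero] at h
  rcases mul_eq_zero.mp h with h' | h'
  · rcases mul_eq_zero.mp h' with h'' | h''
    · exact absurd h'' (Nat.cast_ne_zero.mpr Nat.card_pos.ne')
    · exact absurd h'' (Nat.cast_ne_zero.mpr D.fam_pos.ne')
  · exact h'

section Square

variable [Fintype G]

open scoped Classical in
/-- The conjugates of `u`. -/
noncomputable def cls (u : G) : Finset G := Finset.univ.filter fun x => IsConj u x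

open scoped Classical in
/-- Those inverting `P`. -/
noncomputable def invCls (P : Sylow p G) (u : G) : Finset G := (cls u).filter fun x => Inv P x

include hP in
theorem mul_self_of_mem_cls {u x : G} (hu : orderOf u = 2) (h : x ∈ cls u) : x * x = 1 := by
  classical
  obtain ⟨a, rfl⟩ := isConj_iff.mp (Finset.mem_filter.mp h).2
  rw [conj_mul, ← pow_two, ← hu, pow_orderOf_eq_one, mul_one, mul_inv_cancel]

omit [Finite G] in
include hP in
theorem mul_mem_invCls (hp2 : p ≠ 2) {u v y : G} (hv : v ∈ invCls P u)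
    (hy : y ∈ (P : Subgroup G)) : y * v ∈ invCls P u := by
  classical
  obtain ⟨hv, hi⟩ := Finset.mem_filter.mp hv
  obtain ⟨k, hk⟩ := hp.out.odd_of_ne_two hp2
  set w := y ^ (k + 1) with hw
  have hwP : w ∈ (P : Subgroup G) := pow_mem hy _
  have hww : w * w = y := by
    rw [hw, ← pow_add, show k + 1 + (k + 1) = p + 1 by omega, pow_succ,
      FixedSylow.pow_eq_one P hP hy, one_mul]
  have hcv : w * v * w⁻¹ = y * v := by
    have h := hi w⁻¹ (inv_mem hwP)
    rw [inv_inv, mul_inv_eq_iff_eq_mul] at h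
    rw [mul_assoc, h, ← hww, mul_assoc]
  refine Finset.mem_filter.mpr ⟨Finset.mem_filter.mpr ⟨Finset.mem_univ _, ?_⟩, ?_⟩
  · exact (Finset.mem_filter.mp hv).2.trans (isConj_iff.mpr ⟨w, hcv⟩)
  · intro z hz
    rw [← hcv]
    have hcomm : ∀ a ∈ (P : Subgroup G), ∀ b ∈ (P : Subgroup G), a * b * a⁻¹ = b := by
      intro a ha b hb
      haveI := isCyclic_of_prime_card hP
      haveI : IsMulCommutative (P : Subgroup G) := IsCyclic.isMulCommutative
      have := congrArg Subtype.val (mul_comm' (⟨a, ha⟩ : (P : Subgroup G)) ⟨b, hb⟩)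
      rw [mul_inv_eq_iff_eq_mul]
      exact this
    calc w * v * w⁻¹ * z * (w * v * w⁻¹)⁻¹ = w * (v * (w⁻¹ * z * w⁻¹⁻¹) * v⁻¹) * w⁻¹ := by group
      _ = z⁻¹ := by rw [hcomm _ (inv_mem hwP) z hz, hi z hz, hcomm w hwP _ (inv_mem hz)]

include hP in
/-- In each coset of `P` in the inverting conjugates exactly one product is `p`-regular. -/
theorem card_regular (hp2 : p ≠ 2) {u x : G} (hu : orderOf u = 2) (hx : x ∈ invCls P u) :
    p * ((invCls P u).filter fun v => ¬ p ∣ orderOf (x * v)).card = (invCls P u).card := by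
  classical
  refine (congrArg (· * _) hP.symm).trans ?_
  rw [Nat.card_eq_fintype_card, ← Finset.card_univ, ← Finset.card_product]
  refine Finset.card_bij (fun yv _ => (yv.1 : G) * yv.2) ?_ ?_ ?_
  · intro yv hyv
    exact mul_mem_invCls hP hp2 (Finset.mem_filter.mp (Finset.mem_product.mp hyv).2).1 yv.1.2
  · rintro ⟨y, v⟩ hyv ⟨y', v'⟩ hyv' he
    obtain ⟨hv, hvr⟩ := Finset.mem_filter.mp (Finset.mem_product.mp hyv).2
    obtain ⟨hv', hvr'⟩ := Finset.mem_filter.mp (Finset.mem_product.mp hyv').2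
    simp only at he hv hv' hvr hvr'
    set z : G := (y' : G)⁻¹ * y with hz
    have hzP : z ∈ (P : Subgroup G) := mul_mem (inv_mem y'.2) y.2
    have hv'z : v' = z * v := by rw [hz, mul_assoc, he, inv_mul_cancel_left]
    have hxi := (Finset.mem_filter.mp hx).2
    have hxz : x * v' = z⁻¹ * (x * v) := by
      rw [hv'z, ← hxi z hzP]; group
    by_cases hz1 : z = 1
    · have hyy : y = y' := Subtype.ext (inv_mul_eq_one.mp hz1).symm
      subst hyy
      exact Prod.ext rfl (mul_left_cancel he)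
    · exfalso
      apply hvr'
      rw [hxz]
      have hC := Inv.mul_mem_centralizer hxi (Finset.mem_filter.mp hv).2
      have hcomm : Commute z⁻¹ (x * v) := (Subgroup.mem_centralizer_iff.mp hC _ (inv_mem hzP) :)
      have hzo : orderOf z⁻¹ = p := by rw [orderOf_inv, orderOf_of_mem hP hzP hz1]
      rw [hcomm.orderOf_mul_eq_mul_orderOf_of_coprime
        (by rw [hzo]; exact hp.out.coprime_iff_not_dvd.mpr hvr), hzo]
      exact dvd_mul_right p _
  · intro v hv
    have hxi := (Finset.mem_filter.mp hx).2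
    have hC := Inv.mul_mem_centralizer hxi (Finset.mem_filter.mp hv).2
    by_cases hs : p ∣ orderOf (x * v)
    · obtain ⟨k, hk⟩ := hs
      -- the `p`-part of the product
      have hk0 : k ≠ 0 := fun h => (orderOf_pos (x * v)).ne' (by rw [hk, h, mul_zero])
      have hyk : orderOf ((x * v) ^ k) = p := by
        rw [orderOf_pow, hk, Nat.gcd_mul_left_left, Nat.mul_div_cancel _ (Nat.pos_of_ne_zero hk0)]
      have hpk : ¬ p ∣ k := fun hd => PrimePrincipal.Setup.not_sq_dvd P hP (by
        refine (?_ : p ^ 2 ∣ orderOf (x * v)).trans (orderOf_dvd_natCard _)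
        rw [hk, pow_two]; exact Nat.mul_dvd_mul_left p hd)
      obtain ⟨i, j, hij⟩ : ∃ i j : ℤ, i * k + j * p = 1 :=
        Nat.isCoprime_iff_coprime.mpr ((hp.out.coprime_iff_not_dvd.mpr hpk).symm)
      have hyP : ((x * v) ^ k) ^ i ∈ (P : Subgroup G) :=
        zpow_mem (mem_of_commute hP hyk (pow_mem hC k)) i
      refine ⟨(⟨_, inv_mem hyP⟩, ((x * v) ^ k) ^ i * v), Finset.mem_product.mpr
        ⟨Finset.mem_univ _, Finset.mem_filter.mpr ⟨mul_mem_invCls hP hp2 hv hyP, ?_⟩⟩,
        inv_mul_cancel_left _ _⟩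
      have he : x * (((x * v) ^ k) ^ i * v) = ((x * v) ^ p) ^ j := by
        have h1 : x * (((x * v) ^ k) ^ i * v) = (((x * v) ^ k) ^ i)⁻¹ * (x * v) := by
          rw [← hxi _ hyP]; group
        rw [h1, ← zpow_natCast (x * v) k, ← zpow_natCast (x * v) p, ← zpow_mul, ← zpow_mul,
          ← zpow_neg, ← zpow_add_one]
        congr 1
        linarith
      rw [he]
      intro hd
      have h2 : orderOf (((x * v) ^ p) ^ j) ∣ k := by
        refine orderOf_dvd_of_pow_eq_one ?_
        rw [← zpow_natCast, zpow_comm, zpow_natCast, ← pow_mul, ← hk, pow_orderOf_eq_one,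
          one_zpow]
      exact hpk (hd.trans h2)
    · exact ⟨(1, v), Finset.mem_product.mpr ⟨Finset.mem_univ _, Finset.mem_filter.mpr ⟨hv, hs⟩⟩,
        by simp⟩

include hP in
/-- For one class of involutions the class sum is `p² c² j² / (|G| |C(P)|)`. -/
theorem exists_square (E : Full.Extra P D) (hp2 : p ≠ 2)
    (he : (Subgroup.centralizer ((P : Subgroup G) : Set G)).relIndex
      (Subgroup.normalizer ((P : Subgroup G) : Set G)) = e)
    {u : G} (hu : orderOf u = 2) :
    ∃ j : ℕ, (invCls P u).card = p * j ∧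
      T D u u * (Nat.card G : ℂ) *
        (Nat.card (Subgroup.centralizer ((P : Subgroup G) : Set G)) : ℂ) =
      ((p ^ 2 * Nat.card (Subgroup.centralizer ({u} : Set G)) ^ 2 * j ^ 2 : ℕ) : ℂ) := by
  classical
  obtain ⟨j, hj, hfib⟩ : ∃ j, (invCls P u).card = p * j ∧ ∀ x ∈ invCls P u,
      ((invCls P u).filter fun v => p ∣ orderOf (x * v)).card + j = p * j := by
    rcases (invCls P u).eq_empty_or_nonempty with h | ⟨x₀, hx₀⟩
    · exact ⟨0, by simp [h], fun x hx => by simp [h] at hx⟩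
    · refine ⟨_, (card_regular hP hp2 hu hx₀).symm, fun x hx => ?_⟩
      have h1 := card_regular hP hp2 hu hx
      have h2 := card_regular hP hp2 hu hx₀
      have h3 := Finset.card_filter_add_card_filter_not (s := invCls P u)
        (fun v => p ∣ orderOf (x * v))
      have : ((invCls P u).filter fun v => ¬ p ∣ orderOf (x * v)).card =
          ((invCls P u).filter fun v => ¬ p ∣ orderOf (x₀ * v)).card :=
        Nat.eq_of_mul_eq_mul_left hp.out.pos (h1.trans h2.symm)
      omega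
  refine ⟨j, hj, ?_⟩
  set c := Nat.card (Subgroup.centralizer ({u} : Set G)) with hc
  set K := cls u with hK
  have hcl : ∀ {x}, x ∈ K ↔ IsConj u x := fun {x} => by simp [hK, cls]
  have hfibre : ∀ v ∈ K, (Finset.univ.filter fun a : G => a * u * a⁻¹ = v).card = c := by
    intro v hv
    obtain ⟨b, rfl⟩ := isConj_iff.mp (hcl.mp hv)
    rw [← Fintype.card_subtype, ← Nat.card_eq_fintype_card, hc]
    refine Nat.card_congr ((Equiv.mulLeft b⁻¹).subtypeEquiv fun a => ?_)
    rw [eq_comm]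
    exact FixedSylow.conj_eq_iff
  have hKc : K.card * c = Nat.card G := by
    have h := Finset.card_eq_sum_card_fiberwise (s := (Finset.univ : Finset G))
      (f := fun a : G => a * u * a⁻¹) (t := K) (fun a _ => by
        simp only [Finset.mem_coe]; exact hcl.mpr (isConj_iff.mpr ⟨a, rfl⟩))
    rw [Finset.sum_congr rfl hfibre, Finset.sum_const, smul_eq_mul, Finset.card_univ,
      ← Nat.card_eq_fintype_card] at h
    exact h.symm
  set A := Nat.card {a : G // p ∣ orderOf (u * (a * u * a⁻¹))} with hA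
  have hAB : A = c * (K.filter fun v => p ∣ orderOf (u * v)).card := by
    rw [hA, Nat.card_eq_fintype_card, Fintype.card_subtype, Finset.card_eq_sum_card_fiberwise
      (f := fun a : G => a * u * a⁻¹) (t := K.filter fun v => p ∣ orderOf (u * v)) (fun a ha => by
        simp only [Finset.mem_coe, Finset.mem_filter] at ha ⊢
        exact ⟨hcl.mpr (isConj_iff.mpr ⟨a, rfl⟩), ha.2⟩)]
    rw [Finset.sum_congr rfl (g := fun _ => c) fun v hv => ?_, Finset.sum_const, smul_eq_mul,
      mul_comm]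
    rw [← hfibre v (Finset.mem_filter.mp hv).1, Finset.filter_filter]
    refine congrArg Finset.card (Finset.filter_congr fun a _ => ?_)
    exact ⟨fun h => h.2, fun h => ⟨by rw [h]; exact (Finset.mem_filter.mp hv).2, h⟩⟩
  set Pi := (K ×ˢ K).filter fun xv => p ∣ orderOf (xv.1 * xv.2) with hPi
  have hPiB : Pi.card = K.card * (K.filter fun v => p ∣ orderOf (u * v)).card := by
    rw [Finset.card_eq_sum_card_fiberwise (f := Prod.fst) (t := K) (fun xv h => by
        simp only [Finset.mem_coe, hPi, Finset.mem_filter, Finset.mem_product] at h ⊢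
        exact h.1.1),
      Finset.sum_congr rfl (g := fun _ => (K.filter fun v => p ∣ orderOf (u * v)).card)
        fun x hx => ?_, Finset.sum_const, smul_eq_mul]
    obtain ⟨b, hb⟩ := isConj_iff.mp (hcl.mp hx)
    symm
    refine Finset.card_bij' (fun v _ => (x, b * v * b⁻¹)) (fun xv _ => b⁻¹ * xv.2 * b) ?_ ?_ ?_ ?_
    · intro v hv
      obtain ⟨hvK, hvo⟩ := Finset.mem_filter.mp hv
      simp only [hPi, Finset.mem_filter, Finset.mem_product]
      refine ⟨⟨⟨hx, hcl.mpr ((hcl.mp hvK).trans (isConj_iff.mpr ⟨b, rfl⟩))⟩, ?_⟩, trivial⟩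
      rw [← hb, conj_mul, ← MulAut.conj_apply, MulEquiv.orderOf_eq]
      exact hvo
    · intro xv hxv
      simp only [hPi, Finset.mem_filter, Finset.mem_product] at hxv ⊢
      obtain ⟨⟨⟨-, h2⟩, h3⟩, rfl⟩ := hxv
      refine ⟨hcl.mpr ((hcl.mp h2).trans (isConj_iff.mpr ⟨b⁻¹, by group⟩)), ?_⟩
      have : u * (b⁻¹ * xv.2 * b) = b⁻¹ * (xv.1 * xv.2) * b⁻¹⁻¹ := by rw [← hb]; group
      rw [this, ← MulAut.conj_apply, MulEquiv.orderOf_eq]
      exact h3
    · intro v _; group
    · intro xv hxv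
      simp only [hPi, Finset.mem_filter, Finset.mem_product] at hxv
      exact Prod.ext hxv.2.symm (by group)
  have hpt : ∀ Q : Sylow p G, Nat.card (Q : Subgroup G) = p := fun Q =>
    (Nat.card_congr (Q.equiv P).toEquiv).trans hP
  -- the fibre over a Sylow subgroup
  have hQfib : ∀ Q : Sylow p G,
      (Pi.filter fun xv => Inv Q xv.1 ∧ Inv Q xv.2).card + p * j * j = p * p * j * j := by
    intro Q
    obtain ⟨b, rfl⟩ := MulAction.exists_smul_eq G P Q
    have hinv : ∀ x : G, Inv (b • P) (b * x * b⁻¹) ↔ Inv P x := by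
      intro x
      constructor
      · intro h y hy
        have h' := h (b * y * b⁻¹) (by
          rw [Sylow.coe_subgroup_smul, Subgroup.mem_pointwise_smul_iff_inv_smul_mem,
            MulAut.smul_def, ← map_inv, MulAut.conj_apply]
          simpa [mul_assoc] using hy)
        have e1 : b * x * b⁻¹ * (b * y * b⁻¹) * (b * x * b⁻¹)⁻¹ = b * (x * y * x⁻¹) * b⁻¹ := by
          group
        rw [e1, show (b * y * b⁻¹)⁻¹ = b * y⁻¹ * b⁻¹ by group] at h'
        exact mul_left_cancel (mul_right_cancel h')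
      · intro h y hy
        rw [Sylow.coe_subgroup_smul, Subgroup.mem_pointwise_smul_iff_inv_smul_mem,
          MulAut.smul_def, ← map_inv, MulAut.conj_apply, inv_inv] at hy
        calc b * x * b⁻¹ * y * (b * x * b⁻¹)⁻¹ = b * (x * (b⁻¹ * y * b) * x⁻¹) * b⁻¹ := by group
          _ = y⁻¹ := by rw [h _ hy]; group
    have hsum : ((invCls P u ×ˢ invCls P u).filter fun xv => p ∣ orderOf (xv.1 * xv.2)).card +
        p * j * j = p * p * j * j := by
      rw [Finset.card_eq_sum_card_fiberwise (f := Prod.fst) (t := invCls P u) (fun xv h => by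
        simp only [Finset.mem_coe, Finset.mem_filter, Finset.mem_product] at h ⊢
        exact h.1.1)]
      have hsame : ∀ x ∈ invCls P u, (((invCls P u ×ˢ invCls P u).filter fun xv =>
          p ∣ orderOf (xv.1 * xv.2)).filter fun xv => xv.1 = x).card =
          ((invCls P u).filter fun v => p ∣ orderOf (x * v)).card := by
        intro x hx
        refine Finset.card_bij' (fun xv _ => xv.2) (fun v _ => (x, v)) ?_ ?_ ?_ ?_
        · intro xv h
          simp only [Finset.mem_filter, Finset.mem_product] at h ⊢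
          obtain ⟨⟨⟨-, h2⟩, h3⟩, rfl⟩ := h
          exact ⟨h2, h3⟩
        · intro v h
          simp only [Finset.mem_filter, Finset.mem_product] at h ⊢
          exact ⟨⟨⟨hx, h.1⟩, h.2⟩, trivial⟩
        · intro xv h
          simp only [Finset.mem_filter] at h
          exact Prod.ext h.2.symm rfl
        · intro v _; rfl
      rw [Finset.sum_congr rfl hsame]
      have h4 : ∑ x ∈ invCls P u, (((invCls P u).filter fun v => p ∣ orderOf (x * v)).card + j) =
          ∑ _x ∈ invCls P u, p * j := Finset.sum_congr rfl hfib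
      rw [Finset.sum_add_distrib, Finset.sum_const, Finset.sum_const, hj, smul_eq_mul,
        smul_eq_mul] at h4
      linear_combination h4
    rw [← hsum]
    congr 1
    refine Finset.card_bij' (fun xv _ => (b⁻¹ * xv.1 * b, b⁻¹ * xv.2 * b))
      (fun xv _ => (b * xv.1 * b⁻¹, b * xv.2 * b⁻¹)) ?_ ?_ ?_ ?_
    · intro xv h
      simp only [hPi, invCls, Finset.mem_filter, Finset.mem_product] at h ⊢
      obtain ⟨⟨⟨h1, h2⟩, h3⟩, h4, h5⟩ := h
      have e1 : ∀ x : G, b * (b⁻¹ * x * b) * b⁻¹ = x := fun x => by group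
      have e2 : ∀ {x : G}, x ∈ K → b⁻¹ * x * b ∈ cls u := fun {x} hx =>
        hcl.mpr ((hcl.mp hx).trans (isConj_iff.mpr ⟨b⁻¹, by group⟩))
      refine ⟨⟨⟨e2 h1, (hinv _).mp ((e1 _).symm ▸ h4)⟩, e2 h2,
        (hinv _).mp ((e1 _).symm ▸ h5)⟩, ?_⟩
      rw [show b⁻¹ * xv.1 * b * (b⁻¹ * xv.2 * b) = b⁻¹ * (xv.1 * xv.2) * b⁻¹⁻¹ by group,
        ← MulAut.conj_apply, MulEquiv.orderOf_eq]
      exact h3
    · intro xv h
      simp only [hPi, invCls, Finset.mem_filter, Finset.mem_product] at h ⊢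
      obtain ⟨⟨⟨h1, h4⟩, h2, h5⟩, h3⟩ := h
      have e2 : ∀ {x : G}, x ∈ cls u → b * x * b⁻¹ ∈ K := fun {x} hx =>
        hcl.mpr ((hcl.mp hx).trans (isConj_iff.mpr ⟨b, rfl⟩))
      refine ⟨⟨⟨e2 h1, e2 h2⟩, ?_⟩, (hinv _).mpr h4, (hinv _).mpr h5⟩
      rw [conj_mul, ← MulAut.conj_apply, MulEquiv.orderOf_eq]
      exact h3
    · intro xv _; exact Prod.ext (by group) (by group)
    · intro xv _; exact Prod.ext (by group) (by group)
  -- each pair lies in exactly one fibre
  haveI := Fintype.ofFinite (Sylow p G)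
  have hPisum : Pi.card + Nat.card (Sylow p G) * (p * j * j) =
      Nat.card (Sylow p G) * (p * p * j * j) := by
    have hex : ∀ xv ∈ Pi, ((Finset.univ : Finset (Sylow p G)).filter
        fun Q => Inv Q xv.1 ∧ Inv Q xv.2).card = 1 := by
      intro xv hxv
      simp only [hPi, Finset.mem_filter, Finset.mem_product] at hxv
      obtain ⟨⟨h1, h2⟩, h3⟩ := hxv
      have hx := mul_self_of_mem_cls hP hu h1
      have hv := mul_self_of_mem_cls hP hu h2
      obtain ⟨b, hb1, hb2⟩ := exists_inverting hP hp2 hx hv h3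
      have hpre : ∀ {x : G}, Inv P (b * x * b⁻¹) → Inv (b⁻¹ • P) x := by
        intro x hb y hy
        rw [Sylow.coe_subgroup_smul, Subgroup.mem_pointwise_smul_iff_inv_smul_mem,
          MulAut.smul_def, ← map_inv, MulAut.conj_apply, inv_inv] at hy
        calc x * y * x⁻¹ = b⁻¹ * (b * x * b⁻¹ * (b * y * b⁻¹) * (b * x * b⁻¹)⁻¹) * b := by group
          _ = y⁻¹ := by rw [hb _ (by simpa using hy)]; group
      obtain ⟨k, hk⟩ := h3
      have hk0 : k ≠ 0 := fun h => (orderOf_pos (xv.1 * xv.2)).ne' (by rw [hk, h, mul_zero])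
      set y := (xv.1 * xv.2) ^ k with hy
      have hyo : orderOf y = p := by
        rw [hy, orderOf_pow, hk, Nat.gcd_mul_left_left,
          Nat.mul_div_cancel _ (Nat.pos_of_ne_zero hk0)]
      have hy1 : y ≠ 1 := fun h => by rw [h, orderOf_one] at hyo; exact hp.out.ne_one hyo.symm
      rw [Finset.card_eq_one]
      refine ⟨b⁻¹ • P, Finset.ext fun Q => ?_⟩
      simp only [Finset.mem_filter, Finset.mem_univ, true_and, Finset.mem_singleton]
      refine ⟨fun ⟨q1, q2⟩ => ?_, fun h => by rw [h]; exact ⟨hpre hb1, hpre hb2⟩⟩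
      have m1 := mem_of_commute (hpt Q) hyo (pow_mem (Inv.mul_mem_centralizer q1 q2) k)
      have m2 := mem_of_commute (hpt (b⁻¹ • P)) hyo
        (pow_mem (Inv.mul_mem_centralizer (hpre hb1) (hpre hb2)) k)
      refine Sylow.ext ?_
      rw [← PrimeExceptional.zpowers_eq Q (hpt Q) m1 hy1,
        ← PrimeExceptional.zpowers_eq (b⁻¹ • P) (hpt _) m2 hy1]
    have h5 : ∑ Q : Sylow p G, ((Pi.filter fun xv => Inv Q xv.1 ∧ Inv Q xv.2).card + p * j * j) =
        ∑ _Q : Sylow p G, p * p * j * j := Finset.sum_congr rfl fun Q _ => hQfib Q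
    rw [Finset.sum_add_distrib, Finset.sum_const, Finset.sum_const, Finset.card_univ,
      smul_eq_mul, smul_eq_mul, ← Nat.card_eq_fintype_card] at h5
    have h6 : ∑ Q : Sylow p G, (Pi.filter fun xv => Inv Q xv.1 ∧ Inv Q xv.2).card = Pi.card := by
      simp only [Finset.card_filter]
      rw [Finset.sum_comm, Finset.sum_congr rfl (g := fun _ => 1) fun xv hxv => by
        rw [← Finset.card_filter]; exact hex xv hxv, Finset.sum_const, smul_eq_mul, mul_one]
    rw [h6] at h5
    exact h5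
  -- arithmetic
  have hu' : ¬ p ∣ orderOf u := by
    rw [hu]; exact fun h => hp2 ((Nat.prime_dvd_prime_iff_eq hp.out Nat.prime_two).mp h)
  have hmix := mixed hP D E hu' hu'
  rw [← hA] at hmix
  set C := Nat.card (Subgroup.centralizer ((P : Subgroup G) : Set G)) with hC
  set n := Nat.card (Sylow p G) with hn
  have hNn : n * (C * e) = Nat.card G := by
    rw [hn, P.card_eq_index_normalizer, hC, ← he,
      Cfsg.Agent.Lib.SmallGroups.Sylow.card_centralizer_mul_relIndex (P : Subgroup G), mul_comm]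
    exact Subgroup.card_mul_index _
  have hte : e * D.fam.card + 1 = p := D.fam_card
  have hAG : (A : ℂ) * (Nat.card G : ℂ) =
      (c : ℂ) ^ 2 * n * (p * (e * D.fam.card) * j * j) := by
    have h7 : A * Nat.card G + c ^ 2 * (n * (p * j * j)) = c ^ 2 * (n * (p * p * j * j)) := by
      rw [← hPisum, hAB, hPiB, ← hKc]; ring
    have h7' : (A : ℂ) * (Nat.card G : ℂ) + (c : ℂ) ^ 2 * (n * (p * j * j)) =
        (c : ℂ) ^ 2 * (n * (p * p * j * j)) := by exact_mod_cast h7
    have h8 : (e : ℂ) * D.fam.card + 1 = p := by exact_mod_cast hte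
    linear_combination h7' - (c : ℂ) ^ 2 * n * p * j * j * h8
  have hne : (D.fam.card : ℂ) * (e : ℂ) * n ≠ 0 := by
    refine mul_ne_zero (mul_ne_zero (Nat.cast_ne_zero.mpr D.fam_pos.ne') ?_) ?_
    · have := D.card_K
      exact Nat.cast_ne_zero.mpr (by omega)
    · exact Nat.cast_ne_zero.mpr Nat.card_pos.ne'
  have hG' : (Nat.card G : ℂ) = n * (C * e) := by exact_mod_cast hNn.symm
  push_cast
  apply mul_left_cancel₀ hne
  calc (D.fam.card : ℂ) * e * n * (T D u u * (Nat.card G : ℂ) * C)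
      = ((Nat.card G : ℂ) * (D.fam.card : ℂ) * T D u u) * (n * (C * e)) := by ring
    _ = (p : ℂ) * ((A : ℂ) * (Nat.card G : ℂ)) := by rw [hmix, ← hG']; ring
    _ = _ := by rw [hAG]; ring

end Square

end Cfsg.Agent.Lib.RecogM22.Pairs

namespace Cfsg.Agent.Lib.RecogM22.Pairs

variable {G : Type*} [Group G] [Fintype G] {p : ℕ} [hp : Fact p.Prime] {P : Sylow p G}

/-- The inverting conjugates lie in one coset of the centraliser. -/
theorem card_invCls_le (u : G) :
    (invCls P u).card ≤ Nat.card (Subgroup.centralizer ((P : Subgroup G) : Set G)) := by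
  classical
  rcases (invCls P u).eq_empty_or_nonempty with h | ⟨x₀, hx₀⟩
  · simp [h]
  rw [Nat.card_eq_fintype_card, ← Finset.card_univ]
  refine Finset.card_le_card_of_injOn (fun x => if h : x ∈ invCls P u then
    (⟨x₀ * x, Inv.mul_mem_centralizer (Finset.mem_filter.mp hx₀).2 (Finset.mem_filter.mp h).2⟩ :
      Subgroup.centralizer ((P : Subgroup G) : Set G)) else 1) (fun x _ => Finset.mem_univ _) ?_
  intro x hx y hy he
  simp only [Finset.mem_coe] at hx hy
  simp only [dif_pos hx, dif_pos hy, Subtype.mk.injEq] at he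
  exact mul_left_cancel he

end Cfsg.Agent.Lib.RecogM22.Pairs
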