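import Cfsg.Agent.Lib.RecogM22.Local7Eight

/-!
Simple groups of order `443520`: the Sylow subgroups of order `7` are self-centralising, with
normalisers of order `21`.
-/

set_option autoImplicit false
set_option linter.style.haveILetI false
set_option linter.unusedSectionVars false

namespace Cfsg.Agent.Lib.RecogM22.Seven

open Cfsg.Agent.Lib.Classif Cfsg.Agent.Lib.SmallGroups
open Cfsg.Agent.Lib.Classif.PrimeExceptional (deg)

universe u

/-- The degree equation `1 ± d = ± k` for `e = 2`. -/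
theorem deg_two : ((List.range 666).filter fun d => decide (14 ≤ d) && decide (443520 % d = 0)).all
    (fun d => [(1 : ℤ), -1].all fun a =>
      decide ((a * (d : ℤ) - 1) % 7 ≠ 0) || decide ((1 + a * (d : ℤ)).natAbs < 14) ||
      decide (443520 % (1 + a * (d : ℤ)).natAbs ≠ 0) ||
      decide (443520 < 1 + (d : ℤ) * d + 3 * ((1 + a * (d : ℤ)) * (1 + a * (d : ℤ)))) ||
      decide ((1 + a * (d : ℤ)).natAbs = 16)) = true := by decide +kernel

/-- The arithmetic for `330` Sylow subgroups. -/
theorem three_thirty : ((Options.divs 315).map fun w => 128 * w).all (fun c =>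
    [448, 1344].all fun Nc => decide (c % Nc ≠ 0) || decide (c / Nc % 7 ≠ 1)) = true := by
  decide +kernel

/-- No number of Sylow `5`-subgroups gives a centraliser of order `315 k`, `k ≡ 1 (mod 7)`. -/
theorem five_arith : (Options.opts 443520 5 128 693).all (fun ne : ℕ × ℕ =>
    decide (443520 / (ne.1 * ne.2) % 315 ≠ 0) || decide (443520 / (ne.1 * ne.2) / 315 % 7 ≠ 1)) =
      true := by decide +kernel

variable {G : Type u} [Group G] [Finite G] [IsSimpleGroup G] (h : Nat.card G = 443520)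

include h

section

variable [Fact (Nat.Prime 7)] [Fact (Nat.Prime 11)] {P : Sylow 7 G}
  (hP : Nat.card (P : Subgroup G) = 7)

include hP

/-- `|N : C| = 2` does not occur. -/
theorem not_two (hrel : (Subgroup.centralizer ((P : Subgroup G) : Set G)).relIndex
      (Subgroup.normalizer ((P : Subgroup G) : Set G)) = 2) {c : ℕ}
    (hC : Nat.card (Subgroup.centralizer ((P : Subgroup G) : Set G)) = c) (hc : 7 ∣ c)
    (hc7 : c ≠ 7) : False := by
  classical
  haveI := Fintype.ofFinite G
  have hG := Eleven.not_comm h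
  obtain ⟨D, ⟨E⟩⟩ := RecogThree.M12.Full.exists_full P hP hrel
  obtain ⟨hK, hθ⟩ := PrimeDegrees.two_mul_le_of_centralizer hG hP hC hc7 hc (fun hd => by
    have h49 : 7 ^ 2 ∣ 443520 := hd.trans (hC ▸ h ▸ Subgroup.card_subgroup_dvd_card _)
    norm_num at h49) D
  have hcard := D.card_K
  have hfam := D.fam_card
  have hf3 : D.fam.card = 3 := by omega
  obtain ⟨χ, hχ⟩ := Finset.card_eq_one.mp (show D.K.card = 1 by omega)
  have hχK : χ ∈ D.K := by rw [hχ]; exact Finset.mem_singleton_self χ
  have heq := D.degree_eq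
  rw [hχ, Finset.sum_singleton] at heq
  have hsq := D.square_sum
  rw [hχ, Finset.sum_singleton, h, hf3] at hsq
  have hperf := Cfsg.Agent.Lib.SmallGroups.Sylow.commutator_eq_top hG
  have hcong : (7 : ℤ) ∣ D.a χ * deg χ - 1 :=
    (FirstPowerKills.signed_facts hperf hP D hχK).1
  have hdvd : ∀ ψ : Cfsg.IrrCharacter G, (deg ψ).natAbs ∣ 443520 := fun ψ => by
    rw [PrimeExceptional.natAbs_deg, ← h]
    exact H80.ClassMult.charDegree_dvd_card ψ
  have hpos : 2 ≤ deg χ :=
    PrimeExceptional.two_le_deg hperf χ fun h' => D.one_not_mem (h' ▸ hχK)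
  have hK' := hK χ hχK
  set d := (deg χ).natAbs with hd
  have hdz : (deg χ : ℤ) = d := (Int.natAbs_of_nonneg (by omega)).symm
  have hθsq : deg D.θ ^ 2 = (1 + D.a χ * deg χ) * (1 + D.a χ * deg χ) := by
    rw [heq]; rcases D.δ_unit with h' | h' <;> rw [h'] <;> ring
  have hθabs : (1 + D.a χ * deg χ).natAbs = (deg D.θ).natAbs := by
    rw [heq]; rcases D.δ_unit with h' | h' <;> rw [h'] <;> simp
  have hd666 : d < 666 := by
    by_contra hge
    have h' : (666 : ℤ) ≤ deg χ := by omega
    have h'' := mul_le_mul h' h' (by norm_num) (by omega)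
    push_cast at hsq
    linarith [sq_nonneg (deg D.θ), pow_two (deg χ)]
  have hrow := List.all_eq_true.mp deg_two d (by
    simp only [List.mem_filter, List.mem_range, Bool.and_eq_true, decide_eq_true_eq]
    exact ⟨hd666, by omega, Nat.mod_eq_zero_of_dvd (hdvd χ)⟩)
  have hrow' := List.all_eq_true.mp hrow (D.a χ) (by
    rcases D.a_unit χ hχK with h' | h' <;> simp [h'])
  simp only [Bool.or_eq_true, decide_eq_true_eq, ← hdz] at hrow'
  have h16 : (deg D.θ).natAbs = 16 := by
    rcases hrow' with (((h' | h') | h') | h') | h'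
    · exact absurd (Int.emod_eq_zero_of_dvd hcong) h'
    · rw [hθabs] at h'; omega
    · rw [hθabs] at h'; exact absurd (Nat.mod_eq_zero_of_dvd (hdvd D.θ)) h'
    · exfalso
      rw [← hθsq] at h'
      push_cast at hsq
      nlinarith
    · rw [← hθabs]; exact h'
  -- three characters of degree sixteen lie in the family of two at the prime eleven
  let Q : Sylow 11 G := default
  obtain ⟨hQ, -, hCQ, hNQ⟩ := Eleven.data h Q
  have hrelQ : (Subgroup.centralizer ((Q : Subgroup G) : Set G)).relIndex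
      (Subgroup.normalizer ((Q : Subgroup G) : Set G)) = 5 := by
    have h' := Sylow.card_centralizer_mul_relIndex (Q : Subgroup G)
    rw [hCQ, hNQ] at h'
    omega
  obtain ⟨D', -⟩ := RecogThree.M12.Full.exists_full Q hQ hrelQ
  have hCQ' : Subgroup.centralizer ((Q : Subgroup G) : Set G) = Q := by
    symm
    refine Subgroup.eq_of_le_of_card_ge (fun a ha => ?_) (by rw [hCQ, hQ])
    rw [Subgroup.mem_centralizer_iff]
    intro b hb
    haveI := isCyclic_of_prime_card hQ
    exact congrArg Subtype.val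
      ((IsCyclic.commGroup (α := (Q : Subgroup G))).mul_comm ⟨b, hb⟩ ⟨a, ha⟩)
  have hsub : D.fam ⊆ D'.fam := by
    intro ψ hψ
    by_contra hn
    have hd16 : deg ψ = 16 ∨ deg ψ = -16 := by
      rw [D.fam_deg ψ hψ]; omega
    by_cases hK11 : ψ ∈ D'.K
    · have h' : (11 : ℤ) ∣ D'.a ψ * deg ψ - 1 := (FirstPowerKills.signed_facts hperf hQ D' hK11).1
      rcases D'.a_unit ψ hK11 with ha | ha <;> rcases hd16 with hd' | hd' <;>
        rw [ha, hd'] at h' <;> norm_num at h'
    · have h' : (11 : ℤ) ∣ deg ψ :=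
        PrimeDegrees.dvd_deg_of_other hQ hCQ' D' ψ (fun he => D.fam_one (he ▸ hψ)) hK11 hn
      rcases hd16 with hd' | hd' <;> rw [hd'] at h' <;> norm_num at h'
  have hle := Finset.card_le_card hsub
  have hfam' := D'.fam_card
  omega

/-- `1408` Sylow subgroups do not occur. -/
theorem not_1408 (hrel : (Subgroup.centralizer ((P : Subgroup G) : Set G)).relIndex
      (Subgroup.normalizer ((P : Subgroup G) : Set G)) = 3)
    (hC : Nat.card (Subgroup.centralizer ((P : Subgroup G) : Set G)) = 105) : False := by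
  classical
  haveI : Fact (Nat.Prime 5) := ⟨by norm_num⟩
  have hG := Eleven.not_comm h
  set N := Subgroup.normalizer ((P : Subgroup G) : Set G) with hNdef
  set C := Subgroup.centralizer ((P : Subgroup G) : Set G) with hCdef
  have hN : Nat.card N = 315 := by
    rw [← Sylow.card_centralizer_mul_relIndex (P : Subgroup G), hrel, hC]
  let R : Sylow 5 C := default
  have hR : Nat.card (R : Subgroup C) = 5 := by
    simpa using Sylow.card_sylow_eq R (a := 1) (m := 21) (by rw [hC]; norm_num) (by norm_num)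
  -- the Sylow subgroup of `C` is normal
  have hn : Nat.card (Sylow 5 C) = 1 := by
    have hmod : Nat.card (Sylow 5 C) % 5 = 1 := Sylow.card_sylow_mod
    have hd : Nat.card (Sylow 5 C) ∣ 21 :=
      Sylow.card_sylow_dvd (p := 5) (a := 1) (m := 21) (by rw [hC]; norm_num) (by norm_num)
    have hle := Nat.le_of_dvd (by norm_num) hd
    have hNR := Sylow.card_normalizer_mul R
    rw [hC] at hNR
    -- the central Sylow `7`-subgroup normalises it
    have h7 : 7 ∣ Nat.card (Subgroup.normalizer ((R : Subgroup C) : Set C)) := by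
      have hPC : (P : Subgroup G) ≤ C := fun a ha => by
        rw [hCdef, Subgroup.mem_centralizer_iff]
        intro b hb
        haveI := isCyclic_of_prime_card hP
        exact congrArg Subtype.val
          ((IsCyclic.commGroup (α := (P : Subgroup G))).mul_comm ⟨b, hb⟩ ⟨a, ha⟩)
      rw [← hP, ← Nat.card_congr (Subgroup.subgroupOfEquivOfLe hPC).toEquiv]
      refine Subgroup.card_dvd_of_le fun a ha => ?_
      rw [Subgroup.mem_normalizer_iff]
      intro b
      have hab : a * b * a⁻¹ = b := by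
        rw [mul_inv_eq_iff_eq_mul]
        exact Subtype.ext (Subgroup.mem_centralizer_iff.mp b.2 a ha)
      rw [hab]
    have hlt := Nat.le_of_dvd Nat.card_pos h7
    interval_cases hk : Nat.card (Sylow 5 C) <;> omega
  obtain ⟨Q, hQ⟩ := ((R.2).map C.subtype).exists_le_sylow
  have hQ5 : Nat.card (Q : Subgroup G) = 5 := by
    simpa using Sylow.card_sylow_eq Q (a := 1) (m := 88704) (by rw [h]; norm_num) (by norm_num)
  have hQe : (R : Subgroup C).map C.subtype = Q := Subgroup.eq_of_le_of_card_ge hQ (by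
    rw [← Nat.card_congr (Subgroup.equivMapOfInjective _ _ C.subtype_injective).toEquiv, hR, hQ5])
  have hNQ : N ≤ Subgroup.centralizer ((Q : Subgroup G) : Set G) := by
    have hNN : N ≤ Subgroup.normalizer ((Q : Subgroup G) : Set G) := by
      rw [← hQe]
      intro x hx
      haveI : (C.subgroupOf N).Normal := Subgroup.normal_subgroupOf_centralizer_normalizer _
      haveI : Subsingleton (Sylow 5 C) := (Nat.card_eq_one_iff_unique.mp hn).1
      have key : ∀ y ∈ N, ∀ z ∈ (R : Subgroup C).map C.subtype,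
          y * z * y⁻¹ ∈ (R : Subgroup C).map C.subtype := by
        rintro y hy _ ⟨r, hr, rfl⟩
        have hm : y * r * y⁻¹ ∈ C := Subgroup.mem_subgroupOf.mp (Subgroup.Normal.conj_mem
          inferInstance (⟨r, Sylow.centralizer_le_normalizer _ r.2⟩ : N)
          (Subgroup.mem_subgroupOf.mpr r.2) ⟨y, hy⟩)
        have hp : (⟨_, hm⟩ : C) ^ 5 = 1 := Subtype.ext (by
          have h5 := congrArg Subtype.val (pow_card_eq_one' (x := (⟨r, hr⟩ : (R : Subgroup C))))
          rw [hR] at h5
          have h5' : (r : G) ^ 5 = 1 := congrArg Subtype.val h5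
          simp [conj_pow, h5'])
        obtain ⟨R', hR'⟩ := (show IsPGroup 5 (Subgroup.zpowers (⟨_, hm⟩ : C)) from by
          obtain ⟨j, -, hj⟩ := (Nat.dvd_prime_pow (by norm_num : Nat.Prime 5)).mp
            (show orderOf (⟨_, hm⟩ : C) ∣ 5 ^ 1 from by
              rw [pow_one]; exact orderOf_dvd_of_pow_eq_one hp)
          exact IsPGroup.of_card (n := j) (by rw [Nat.card_zpowers, hj])).exists_le_sylow
        rw [Subsingleton.elim R' R] at hR'
        exact ⟨_, hR' (Subgroup.mem_zpowers _), rfl⟩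
      rw [Subgroup.mem_normalizer_iff]
      refine fun z => ⟨key x hx z, fun hz => ?_⟩
      have := key x⁻¹ (inv_mem hx) _ hz
      simpa [mul_assoc] using this
    have hd : (Subgroup.centralizer ((Q : Subgroup G) : Set G)).relIndex N ∣ 4 := by
      haveI : ((Subgroup.centralizer ((Q : Subgroup G) : Set G)).subgroupOf
          (Subgroup.normalizer ((Q : Subgroup G) : Set G))).Normal :=
        Subgroup.normal_subgroupOf_centralizer_normalizer _
      have h' := Subgroup.relIndex_dvd_index_of_normal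
        (H := (Subgroup.centralizer ((Q : Subgroup G) : Set G)).subgroupOf
          (Subgroup.normalizer ((Q : Subgroup G) : Set G)))
        (K := N.subgroupOf (Subgroup.normalizer ((Q : Subgroup G) : Set G)))
      rw [Subgroup.relIndex_subgroupOf hNN] at h'
      exact h'.trans (Sylow.relIndex_of_card_prime hG Q hQ5).1
    have h315 : (Subgroup.centralizer ((Q : Subgroup G) : Set G)).relIndex N ∣ 315 :=
      hN ▸ Subgroup.relIndex_dvd_card _ _
    exact Subgroup.relIndex_eq_one.mp (Nat.dvd_one.mp ((Nat.dvd_gcd hd h315).trans (by norm_num)))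
  obtain ⟨n5, e5, c5, hmem, -, -, hce, -, hCQ, -, -⟩ :=
    Options.exists_opt hG (m₁ := 128) (m₂ := 693) h (by norm_num) (by norm_num) (by norm_num)
      (by norm_num) Q
  set CQ := Subgroup.centralizer ((Q : Subgroup G) : Set G) with hCQdef
  have hPQ : (P : Subgroup G) ≤ CQ := Subgroup.le_normalizer.trans hNQ
  have hk := SmallOrderTools.card_sylow_subgroup_mul P CQ hPQ
  rw [inf_of_le_left hNQ, hN, hCQ] at hk
  have hmod : Nat.card (Sylow 7 CQ) % 7 = 1 := Sylow.card_sylow_mod
  have hpos : 0 < n5 * e5 := Nat.pos_of_ne_zero fun h0 => by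
    have h' : c5 * e5 * n5 = 0 := by rw [mul_assoc, mul_comm e5, h0, mul_zero]
    omega
  have hcq : 443520 / (n5 * e5) = c5 := by
    rw [← hce, mul_assoc c5 e5, mul_comm e5 n5, Nat.mul_div_cancel _ hpos]
  have hrow := List.all_eq_true.mp five_arith _ hmem
  simp only [Bool.or_eq_true, decide_eq_true_eq, hcq, ← hk] at hrow
  rw [Nat.mul_mod_left, Nat.mul_div_cancel _ (by norm_num : 0 < 315)] at hrow
  omega

/-- `330` Sylow subgroups do not occur. -/
theorem not_330 {e V : ℕ} (heV : (e = 3 ∧ V = 64) ∨ (e = 6 ∧ V = 32))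
    (hrel : (Subgroup.centralizer ((P : Subgroup G) : Set G)).relIndex
      (Subgroup.normalizer ((P : Subgroup G) : Set G)) = e)
    (hC : Nat.card (Subgroup.centralizer ((P : Subgroup G) : Set G)) = 7 * V) : False := by
  classical
  haveI : Fact (Nat.Prime 2) := ⟨Nat.prime_two⟩
  set N := Subgroup.normalizer ((P : Subgroup G) : Set G) with hNdef
  set C := Subgroup.centralizer ((P : Subgroup G) : Set G) with hCdef
  have hN : Nat.card N = 1344 := by
    rw [← Sylow.card_centralizer_mul_relIndex (P : Subgroup G), hrel, hC]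
    rcases heV with ⟨rfl, rfl⟩ | ⟨rfl, rfl⟩ <;> norm_num
  haveI hCn : (C.subgroupOf N).Normal := Subgroup.normal_subgroupOf_centralizer_normalizer _
  have hCN : C ≤ N := Sylow.centralizer_le_normalizer _
  let R : Sylow 2 N := default
  set S0 : Subgroup G := (R : Subgroup N).map N.subtype with hS0
  have hS064 : Nat.card S0 = 64 := by
    rw [hS0, ← Nat.card_congr (Subgroup.equivMapOfInjective _ _ N.subtype_injective).toEquiv]
    simpa using Sylow.card_sylow_eq R (a := 6) (m := 21) (by rw [hN]; norm_num) (by norm_num)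
  have hS0N : S0 ≤ N := Subgroup.map_subtype_le _
  set T := S0 ⊓ C with hT
  have hT32 : 32 ≤ Nat.card T := by
    have hd : C.relIndex S0 ∣ e := by
      rw [← hrel]
      have h' := Subgroup.relIndex_dvd_index_of_normal (H := C.subgroupOf N)
        (K := S0.subgroupOf N)
      rw [Subgroup.relIndex_subgroupOf hS0N] at h'
      exact h'
    have h8 : C.relIndex S0 ∣ 64 := hS064 ▸ Subgroup.relIndex_dvd_card _ _
    have hle : C.relIndex S0 ≤ 2 := by
      refine Nat.le_of_dvd (by norm_num) ((Nat.dvd_gcd hd h8).trans ?_)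
      rcases heV with ⟨rfl, -⟩ | ⟨rfl, -⟩ <;> norm_num
    have h' := (C.subgroupOf S0).card_mul_index
    rw [hS064, ← Subgroup.inf_subgroupOf_left,
      Nat.card_congr (Subgroup.subgroupOfEquivOfLe inf_le_left).toEquiv] at h'
    change Nat.card T * (S0 ⊓ C).relIndex S0 = 64 at h'
    rw [Subgroup.inf_relIndex_left] at h'
    nlinarith
  obtain ⟨M, hM, hS0M⟩ := Sylow.exists_subgroup_card_pow_succ (p := 2) (n := 6)
    (by rw [h]; norm_num) (H := S0) (by rw [hS064]; norm_num)
  obtain ⟨s0, hs0M, hs0, hs02, hconj, hM2⟩ := index_two_facts hS0M (by rw [hM, hS064]; norm_num)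
  have hTn : ∀ k ∈ S0, ∀ t ∈ T, k * t * k⁻¹ ∈ T := fun k hk t ht => by
    have h1 : k * t * k⁻¹ ∈ S0 := mul_mem (mul_mem hk ht.1) (inv_mem hk)
    refine ⟨h1, ?_⟩
    exact Subgroup.mem_subgroupOf.mp (hCn.conj_mem
      (⟨t, hS0N ht.1⟩ : N) (Subgroup.mem_subgroupOf.mpr ht.2) ⟨k, hS0N hk⟩)
  set T' := T.map (MulAut.conj s0).toMonoidHom with hT'
  have hT'S : T' ≤ S0 := by
    rintro _ ⟨t, ht, rfl⟩
    exact hconj t ht.1 s0 hs0M
  have hkey : ∀ k ∈ S0, ∀ x ∈ T', k * x * k⁻¹ ∈ T' := by
    rintro k hk _ ⟨x, hx, rfl⟩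
    refine ⟨(s0⁻¹ * k * s0) * x * (s0⁻¹ * k * s0)⁻¹, hTn _ ?_ x hx, ?_⟩
    · simpa using hconj k hk s0⁻¹ (inv_mem hs0M)
    · simp [mul_assoc]
  set D := T ⊓ T' with hD
  have hD1 : D ≠ ⊥ := by
    intro hbot
    have hsup := card_sup_mul_inf T T' (fun t ht => by
      rw [Subgroup.mem_normalizer_iff]
      intro a
      refine ⟨hkey t ht.1 a, fun ha => ?_⟩
      have := hkey t⁻¹ (inv_mem ht.1) _ ha
      simpa [mul_assoc] using this)
    rw [← hD, hbot, Subgroup.card_bot, mul_one, hT',
      ← Nat.card_congr (Subgroup.equivMapOfInjective _ _ (MulEquiv.injective _)).toEquiv] at hsup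
    have hle := Nat.le_of_dvd Nat.card_pos
      (Subgroup.card_dvd_of_le (sup_le (inf_le_left : T ≤ S0) hT'S))
    rw [← hT'] at *
    rw [hsup, hS064] at hle
    nlinarith
  have hMD : ∀ k ∈ M, ∀ d ∈ D, k * d * k⁻¹ ∈ D := by
    intro k hk d hd
    have hs : ∀ d ∈ D, s0 * d * s0⁻¹ ∈ D := by
      rintro d ⟨h1, ⟨x, hx, rfl⟩⟩
      refine ⟨?_, ⟨_, h1, rfl⟩⟩
      have := hTn _ hs02 x hx
      simpa [mul_assoc] using this
    have hS0D : ∀ k ∈ S0, ∀ d ∈ D, k * d * k⁻¹ ∈ D := fun k hk d hd =>
      ⟨hTn k hk _ hd.1, hkey k hk _ hd.2⟩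
    rcases hM2 k hk with hk' | ⟨a, ha, rfl⟩
    · exact hS0D k hk' d hd
    · have := hs _ (hS0D a ha d hd)
      simpa [mul_assoc] using this
  have hMp : IsPGroup 2 M := IsPGroup.of_card hM
  let act : MulAction M D :=
    { smul := fun k d => ⟨(k : G) * d * (k : G)⁻¹, hMD k k.2 d d.2⟩
      one_smul := fun d => Subtype.ext (show (1 : G) * d * 1⁻¹ = d by simp)
      mul_smul := fun a b d => Subtype.ext (show ((a * b : M) : G) * d * ((a * b : M) : G)⁻¹ =
        (a : G) * ((b : G) * d * (b : G)⁻¹) * (a : G)⁻¹ by simp [mul_assoc]) }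
  have hDp : IsPGroup 2 D := hMp.to_le ((inf_le_left.trans inf_le_left).trans hS0M)
  haveI : Nontrivial D := (Subgroup.nontrivial_iff_ne_bot D).mpr hD1
  have h2D : 2 ∣ Nat.card D := by
    obtain ⟨k, hk, hk'⟩ := hDp.nontrivial_iff_card.mp inferInstance
    exact hk' ▸ dvd_pow_self 2 (by omega)
  obtain ⟨d, hd, hd1⟩ := hMp.exists_fixed_point_of_prime_dvd_card_of_fixed_point D h2D (a := 1)
    (fun a => Subtype.ext (show (a : G) * 1 * (a : G)⁻¹ = 1 by simp))
  have hd8 : (d : G) ^ 2 ^ 7 = 1 := by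
    have := congrArg Subtype.val
      (pow_card_eq_one' (x := (⟨(d : G), hS0M d.2.1.1⟩ : M)))
    rwa [hM] at this
  obtain ⟨j, -, hj⟩ := (Nat.dvd_prime_pow Nat.prime_two).mp (orderOf_dvd_of_pow_eq_one hd8)
  have hj0 : j ≠ 0 := fun h0 => hd1 (Subtype.ext (orderOf_eq_one_iff.mp
    (by rw [hj, h0, pow_zero])).symm)
  set u := (d : G) ^ 2 ^ (j - 1) with hu
  have huo : orderOf u = 2 := by
    rw [hu, orderOf_pow' _ (by positivity), hj, Nat.gcd_eq_right (pow_dvd_pow 2 (by omega)),
      Nat.pow_div (by omega) (by norm_num), show j - (j - 1) = 1 by omega, pow_one]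
  have huC : u ∈ C := pow_mem d.2.1.2 _
  set Cu := Subgroup.centralizer ({u} : Set G) with hCu
  have hMu : M ≤ Cu := fun k hk => by
    rw [hCu, Subgroup.mem_centralizer_singleton_iff]
    exact ((show Commute k (d : G) from
      mul_inv_eq_iff_eq_mul.mp (congrArg Subtype.val (hd ⟨k, hk⟩))).pow_right _).eq
  have hPu : (P : Subgroup G) ≤ Cu := fun y hy =>
    Subgroup.mem_centralizer_singleton_iff.mpr (Subgroup.mem_centralizer_iff.mp huC y hy)
  have hk := SmallOrderTools.card_sylow_subgroup_mul P Cu hPu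
  have hmod : Nat.card (Sylow 7 Cu) % 7 = 1 := Sylow.card_sylow_mod
  obtain ⟨w, hw⟩ : 128 ∣ Nat.card Cu := by
    have := Subgroup.card_dvd_of_le hMu
    rwa [hM] at this
  have hw315 : w ∣ 315 := by
    have h' := cent_dvd h huo
    rw [← hCu, hw, show 40320 = 128 * 315 from rfl] at h'
    exact Nat.dvd_of_mul_dvd_mul_left (by norm_num) h'
  have hNc : Nat.card (N ⊓ Cu : Subgroup G) = 448 ∨ Nat.card (N ⊓ Cu : Subgroup G) = 1344 := by
    have hd1 : Nat.card (N ⊓ Cu : Subgroup G) ∣ 1344 := hN ▸ Subgroup.card_dvd_of_le inf_le_left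
    have hd2 : 64 * 7 ∣ Nat.card (N ⊓ Cu : Subgroup G) := by
      refine (show Nat.Coprime 64 7 by norm_num).mul_dvd_of_dvd_of_dvd ?_ ?_
      · rw [← hS064]; exact Subgroup.card_dvd_of_le (le_inf hS0N (hS0M.trans hMu))
      · rw [← hP]; exact Subgroup.card_dvd_of_le (le_inf Subgroup.le_normalizer hPu)
    obtain ⟨m, hm⟩ := hd2
    rw [hm] at hd1 ⊢
    have hm3 : m ∣ 3 := Nat.dvd_of_mul_dvd_mul_left (k := 448) (by norm_num) hd1
    rcases (Nat.dvd_prime Nat.prime_three).mp hm3 with rfl | rfl <;> norm_num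
  have hrow := List.all_eq_true.mp (List.all_eq_true.mp three_thirty (Nat.card Cu) (by
    rw [hw]
    exact List.mem_map.mpr ⟨w, Options.mem_divs (by norm_num) hw315, rfl⟩))
    (Nat.card (N ⊓ Cu : Subgroup G)) (by simpa using hNc)
  simp only [Bool.or_eq_true, decide_eq_true_eq] at hrow
  rw [← hk, Nat.mul_div_cancel _ Nat.card_pos, Nat.mul_mod_left] at hrow
  omega

end

/-- The Sylow subgroups of order `7`. -/
theorem data [Fact (Nat.Prime 7)] [Fact (Nat.Prime 11)] : ∀ P : Sylow 7 G,
    Nat.card (P : Subgroup G) = 7 ∧ Nat.card (Sylow 7 G) = 21120 ∧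
      Nat.card (Subgroup.centralizer ((P : Subgroup G) : Set G)) = 7 ∧
      Nat.card (Subgroup.normalizer ((P : Subgroup G) : Set G)) = 21 := by
  intro P
  have hG := Eleven.not_comm h
  obtain ⟨n, e, c, hmem, hP, hn, hce, hdvd, hC, hN, hrel⟩ := Options.exists_opt hG (m₁ := 128)
    (m₂ := 495) h (by norm_num) (by norm_num) (by norm_num) (by norm_num) P
  refine ⟨hP, ?_⟩
  rw [hn, hC, hN]
  have hl := List.all_eq_true.mp opts_seven _ hmem
  simp only [Bool.or_eq_true, decide_eq_true_eq, List.elem_eq_mem, List.mem_cons,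
    List.not_mem_nil, or_false, Prod.mk.injEq] at hl
  obtain ⟨V, rfl⟩ := hdvd
  have h11 := not_eleven_dvd h P
  rw [hC] at h11
  rcases hl with he | hl
  · exfalso
    subst he
    refine not_two h hP hrel hC (dvd_mul_right 7 V) fun h7 => ?_
    have hn31680 : n = 31680 := by nlinarith
    have hmod : Nat.card (Sylow 7 G) % 7 = 1 := Sylow.card_sylow_mod
    omega
  rcases hl with hl | hl | hl | hl | hl | hl | hl | hl | hl | hl | hl | hl <;>
    obtain ⟨rfl, rfl⟩ := hl
  · refine ⟨rfl, ?_, ?_⟩ <;> omega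
  iterate 4
    · exfalso; exact h11 (by omega)
  · exfalso; exact not_1408 h hP hrel (hC.trans (by omega))
  · exfalso; exact no_eight h P hP (V := V) (Or.inl ⟨rfl, by omega⟩) hrel hC
  · exfalso; exact no_eight h P hP (V := V) (Or.inr ⟨rfl, by omega⟩) hrel hC
  · exfalso; exact not_330 h hP (V := V) (Or.inl ⟨rfl, by omega⟩) hrel hC
  · exfalso; exact not_330 h hP (V := V) (Or.inr ⟨rfl, by omega⟩) hrel hC
  · exfalso; exact no_eight h P hP (V := V) (Or.inl ⟨rfl, by omega⟩) hrel hC
  · exfalso; exact no_eight h P hP (V := V) (Or.inr ⟨rfl, by omega⟩) hrel hC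

end Cfsg.Agent.Lib.RecogM22.Seven
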