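import Cfsg.Agent.Lib.RecogM22.TableData
import Cfsg.Agent.Lib.RecogM22.Seven

/-!
The relations between the values of the irreducible characters in the principal blocks at
`5`, `7` and `11` of a simple group of order `443520` with the table data.

Owner: helper16.
-/

set_option autoImplicit false
set_option linter.style.haveILetI false
set_option linter.unusedSectionVars false

namespace Cfsg.Agent.Lib.RecogM22.Table

open Cfsg.Agent.Lib.Characters Cfsg.Agent.Lib.Characters.Basic Cfsg.Agent.Lib.Characters.Complete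
open Cfsg.Agent.Lib.Classif Cfsg.Agent.Lib.SmallGroups
open Cfsg.Agent.Lib.Classif.PrimeExceptional (deg)
open Cfsg.Agent.Lib.RecogThree.M12 (Full.exists_full)

universe u

variable {G : Type u} [Group G] [Finite G] [IsSimpleGroup G] (h : TableData G)
  {c : Fin 12 → Cfsg.IrrCharacter G} (hc : Function.Bijective c)
  (hd : ∀ i, deg (c i) = ![(1 : ℤ), 21, 45, 45, 55, 99, 154, 210, 231, 280, 280, 385] i)

include h hc hd

theorem c_zero : c 0 = oneChar G := by
  obtain ⟨i, hi⟩ := hc.2 (oneChar G)
  have := hd i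
  rw [hi, PrimeExceptional.deg_oneChar] at this
  fin_cases i <;> first | exact hi | exact absurd this (by decide)

theorem c_ne_one {i : Fin 12} (hi : i ≠ 0) : c i ≠ oneChar G := fun he =>
  hi (hc.1 (he.trans (c_zero h hc hd).symm))

/-- A self-centralising Sylow subgroup of prime order: a character of degree prime to `p` lies
in the first block. -/
theorem mem_block {p e : ℕ} [hp : Fact p.Prime] {P : Sylow p G}
    (hP : Nat.card (P : Subgroup G) = p)
    (hC : Nat.card (Subgroup.centralizer ((P : Subgroup G) : Set G)) = p)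
    (D : FirstPowerData.Data P e) {i : Fin 12} (hi : i ≠ 0) (hpi : ¬ (p : ℤ) ∣ deg (c i)) :
    c i ∈ D.K ∨ c i ∈ D.fam := by
  classical
  haveI := Fintype.ofFinite G
  have hC' : Subgroup.centralizer ((P : Subgroup G) : Set G) = P := by
    symm
    refine Subgroup.eq_of_le_of_card_ge (fun a ha => ?_) (by rw [hC, hP])
    rw [Subgroup.mem_centralizer_iff]
    intro b hb
    haveI := isCyclic_of_prime_card hP
    exact congrArg Subtype.val
      ((IsCyclic.commGroup (α := (P : Subgroup G))).mul_comm ⟨b, hb⟩ ⟨a, ha⟩)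
  by_contra hcon
  push Not at hcon
  exact hpi (PrimeDegrees.dvd_deg_of_other hP hC' D (c i) (c_ne_one h hc hd hi) hcon.1 hcon.2)

theorem deg_cong {p e : ℕ} [hp : Fact p.Prime] {P : Sylow p G}
    (hP : Nat.card (P : Subgroup G) = p) (D : FirstPowerData.Data P e) {i : Fin 12} :
    (c i ∈ D.K → (p : ℤ) ∣ D.a (c i) * deg (c i) - 1) ∧
      (c i ∈ D.fam → (p : ℤ) ∣ D.δ * deg (c i) - e) := by
  haveI := Fintype.ofFinite G
  refine ⟨fun hK => (FirstPowerKills.signed_facts
    (Sylow.commutator_eq_top (Eleven.not_comm h.card)) hP D hK).1, fun hf => ?_⟩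
  rw [D.fam_deg _ hf]
  exact D.θ_cong hP

theorem block_eleven [Fact (Nat.Prime 11)] {g : G} (hg : ¬ 11 ∣ orderOf g) :
    1 - (c 1 : G → ℂ) g + (c 2 : G → ℂ) g + (c 3 : G → ℂ) g + (c 7 : G → ℂ) g =
        (c 9 : G → ℂ) g ∧ (c 9 : G → ℂ) g = (c 10 : G → ℂ) g := by
  classical
  haveI := Fintype.ofFinite G
  let P : Sylow 11 G := default
  obtain ⟨hP, -, hC, hN⟩ := Eleven.data h.card P
  have hrel : (Subgroup.centralizer ((P : Subgroup G) : Set G)).relIndex
      (Subgroup.normalizer ((P : Subgroup G) : Set G)) = 5 := by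
    have h' := Sylow.card_centralizer_mul_relIndex (P : Subgroup G)
    rw [hC, hN] at h'
    omega
  obtain ⟨D, -⟩ := Full.exists_full P hP hrel
  have hcK := D.card_K
  have hcF := D.fam_card
  have hfam : ∀ i : Fin 12, i ∈ ({9, 10} : Finset (Fin 12)) → c i ∈ D.fam := by
    intro i hi
    have hi280 : deg (c i) = 280 := by
      rw [hd]; simp only [Finset.mem_insert, Finset.mem_singleton] at hi
      rcases hi with rfl | rfl <;> rfl
    rcases mem_block h hc hd hP hC D (i := i) (by rintro rfl; simp at hi)
      (by rw [hi280]; norm_num) with hK | hf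
    · have := (deg_cong h hc hd hP D).1 hK
      rw [hi280] at this
      rcases D.a_unit _ hK with ha | ha <;> rw [ha] at this <;> norm_num at this
    · exact hf
  have hK : ∀ i : Fin 12, i ∈ ({1, 2, 3, 7} : Finset (Fin 12)) → c i ∈ D.K := by
    intro i hi
    have hdi : deg (c i) = 21 ∨ deg (c i) = 45 ∨ deg (c i) = 210 := by
      rw [hd]; simp only [Finset.mem_insert, Finset.mem_singleton] at hi
      rcases hi with rfl | rfl | rfl | rfl <;> simp
    rcases mem_block h hc hd hP hC D (i := i) (by rintro rfl; simp at hi)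
      (by rcases hdi with e | e | e <;> rw [e] <;> norm_num) with hK | hf
    · exact hK
    · have := (deg_cong h hc hd hP D).2 hf
      rcases D.δ_unit with hδ | hδ <;> rcases hdi with e | e | e <;>
        rw [hδ, e] at this <;> norm_num at this
  have hKeq : D.K = ({1, 2, 3, 7} : Finset (Fin 12)).image c := by
    symm
    refine Finset.eq_of_subset_of_card_le ?_ ?_
    · intro χ hχ
      obtain ⟨i, hi, rfl⟩ := Finset.mem_image.mp hχ
      exact hK i hi
    · rw [Finset.card_image_of_injective _ hc.1]
      simp only [show ({1, 2, 3, 7} : Finset (Fin 12)).card = 4 from rfl]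
      omega
  have hFeq : D.fam = ({9, 10} : Finset (Fin 12)).image c := by
    symm
    refine Finset.eq_of_subset_of_card_le ?_ ?_
    · intro χ hχ
      obtain ⟨i, hi, rfl⟩ := Finset.mem_image.mp hχ
      exact hfam i hi
    · rw [Finset.card_image_of_injective _ hc.1]
      simp only [show ({9, 10} : Finset (Fin 12)).card = 2 from rfl]
      omega
  have hθ : (D.θ : G → ℂ) g = (c 9 : G → ℂ) g :=
    (D.fam_regular _ (hfam 9 (by simp)) g hg).symm
  have ha : ∀ i : Fin 12, c i ∈ D.K → D.a (c i) = if i = 1 then -1 else 1 := by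
    intro i hi
    have h1 := (deg_cong h hc hd hP D).1 hi
    have hm : i ∈ ({1, 2, 3, 7} : Finset (Fin 12)) := by
      rw [hKeq] at hi
      obtain ⟨j, hj, hji⟩ := Finset.mem_image.mp hi
      exact hc.1 hji ▸ hj
    rw [hd] at h1
    simp only [Finset.mem_insert, Finset.mem_singleton] at hm
    rcases D.a_unit _ hi with he | he <;> rcases hm with rfl | rfl | rfl | rfl <;>
      simp [he] at h1 ⊢
  have hδ : D.δ = 1 := by
    have h1 := (deg_cong h hc hd hP D).2 (hfam 9 (by simp))
    rw [hd] at h1
    rcases D.δ_unit with he | he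
    · exact he
    · simp [he] at h1
  have hrel' := D.rel g hg
  rw [hKeq, Finset.sum_image fun a _ b _ hab => hc.1 hab, hδ, hθ] at hrel'
  simp only [Finset.sum_insert, Finset.mem_insert, Finset.mem_singleton, Finset.sum_singleton,
    Fin.reduceEq, or_self, not_false_eq_true, ha 1 (hK 1 (by simp)), ha 2 (hK 2 (by simp)),
    ha 3 (hK 3 (by simp)), ha 7 (hK 7 (by simp)), if_true, if_false] at hrel'
  push_cast at hrel'
  refine ⟨by linear_combination hrel', ?_⟩
  rw [D.fam_regular _ (hfam 9 (by simp)) g hg, D.fam_regular _ (hfam 10 (by simp)) g hg]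

theorem block_seven [Fact (Nat.Prime 7)] [Fact (Nat.Prime 11)] {g : G} (hg : ¬ 7 ∣ orderOf g) :
    1 - (c 4 : G → ℂ) g + (c 5 : G → ℂ) g = (c 2 : G → ℂ) g ∧
      (c 2 : G → ℂ) g = (c 3 : G → ℂ) g := by
  classical
  haveI := Fintype.ofFinite G
  let P : Sylow 7 G := default
  obtain ⟨hP, -, hC, hN⟩ := Seven.data h.card P
  have hrel : (Subgroup.centralizer ((P : Subgroup G) : Set G)).relIndex
      (Subgroup.normalizer ((P : Subgroup G) : Set G)) = 3 := by
    have h' := Sylow.card_centralizer_mul_relIndex (P : Subgroup G)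
    rw [hC, hN] at h'
    omega
  obtain ⟨D, -⟩ := Full.exists_full P hP hrel
  have hcK := D.card_K
  have hcF := D.fam_card
  have hfam : ∀ i : Fin 12, i ∈ ({2, 3} : Finset (Fin 12)) → c i ∈ D.fam := by
    intro i hi
    have hi45 : deg (c i) = 45 := by
      rw [hd]; simp only [Finset.mem_insert, Finset.mem_singleton] at hi
      rcases hi with rfl | rfl <;> rfl
    rcases mem_block h hc hd hP hC D (i := i) (by rintro rfl; simp at hi)
      (by rw [hi45]; norm_num) with hK | hf
    · have := (deg_cong h hc hd hP D).1 hK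
      rw [hi45] at this
      rcases D.a_unit _ hK with ha | ha <;> rw [ha] at this <;> norm_num at this
    · exact hf
  have hK : ∀ i : Fin 12, i ∈ ({4, 5} : Finset (Fin 12)) → c i ∈ D.K := by
    intro i hi
    have hdi : deg (c i) = 55 ∨ deg (c i) = 99 := by
      rw [hd]; simp only [Finset.mem_insert, Finset.mem_singleton] at hi
      rcases hi with rfl | rfl <;> simp
    rcases mem_block h hc hd hP hC D (i := i) (by rintro rfl; simp at hi)
      (by rcases hdi with e | e <;> rw [e] <;> norm_num) with hK | hf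
    · exact hK
    · have := (deg_cong h hc hd hP D).2 hf
      rcases D.δ_unit with hδ | hδ <;> rcases hdi with e | e <;>
        rw [hδ, e] at this <;> norm_num at this
  have hKeq : D.K = ({4, 5} : Finset (Fin 12)).image c := by
    symm
    refine Finset.eq_of_subset_of_card_le ?_ ?_
    · intro χ hχ
      obtain ⟨i, hi, rfl⟩ := Finset.mem_image.mp hχ
      exact hK i hi
    · rw [Finset.card_image_of_injective _ hc.1]
      simp only [show ({4, 5} : Finset (Fin 12)).card = 2 from rfl]
      omega
  have hθ : (D.θ : G → ℂ) g = (c 2 : G → ℂ) g :=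
    (D.fam_regular _ (hfam 2 (by simp)) g hg).symm
  have ha4 : D.a (c 4) = -1 := by
    have h1 := (deg_cong h hc hd hP D).1 (hK 4 (by simp))
    rw [hd] at h1
    rcases D.a_unit _ (hK 4 (by simp)) with he | he
    · simp [he] at h1
    · exact he
  have ha5 : D.a (c 5) = 1 := by
    have h1 := (deg_cong h hc hd hP D).1 (hK 5 (by simp))
    rw [hd] at h1
    rcases D.a_unit _ (hK 5 (by simp)) with he | he
    · exact he
    · simp [he] at h1
  have hδ : D.δ = 1 := by
    have h1 := (deg_cong h hc hd hP D).2 (hfam 2 (by simp))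
    rw [hd] at h1
    rcases D.δ_unit with he | he
    · exact he
    · simp [he] at h1
  have hrel' := D.rel g hg
  rw [hKeq, Finset.sum_image fun a _ b _ hab => hc.1 hab, hδ, hθ,
    Finset.sum_pair (by decide), ha4, ha5] at hrel'
  push_cast at hrel'
  refine ⟨by linear_combination hrel', ?_⟩
  rw [D.fam_regular _ (hfam 2 (by simp)) g hg, D.fam_regular _ (hfam 3 (by simp)) g hg]

theorem block_five [Fact (Nat.Prime 5)] {g : G} (hg : ¬ 5 ∣ orderOf g) :
    1 + (c 1 : G → ℂ) g - (c 5 : G → ℂ) g - (c 6 : G → ℂ) g + (c 8 : G → ℂ) g = 0 := by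
  classical
  haveI := Fintype.ofFinite G
  let P : Sylow 5 G := default
  obtain ⟨hC, hN⟩ := h.five P
  have hP : Nat.card (P : Subgroup G) = 5 := by
    simpa using Sylow.card_sylow_eq P (a := 1) (m := 88704) (by rw [h.card]; norm_num) (by norm_num)
  have hrel : (Subgroup.centralizer ((P : Subgroup G) : Set G)).relIndex
      (Subgroup.normalizer ((P : Subgroup G) : Set G)) = 4 := by
    have h' := Sylow.card_centralizer_mul_relIndex (P : Subgroup G)
    rw [hC, hN] at h'
    omega
  obtain ⟨D, -⟩ := Full.exists_full P hP hrel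
  have hcK := D.card_K
  have hcF := D.fam_card
  have hS : D.K ∪ D.fam = ({1, 5, 6, 8} : Finset (Fin 12)).image c := by
    symm
    refine Finset.eq_of_subset_of_card_le ?_ ?_
    · intro χ hχ
      obtain ⟨i, hi, rfl⟩ := Finset.mem_image.mp hχ
      rw [Finset.mem_union]
      refine mem_block h hc hd hP hC D (by rintro rfl; simp at hi) ?_
      rw [hd]
      simp only [Finset.mem_insert, Finset.mem_singleton] at hi
      rcases hi with rfl | rfl | rfl | rfl <;> decide
    · rw [Finset.card_image_of_injective _ hc.1, Finset.card_union_of_disjoint D.fam_disj]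
      simp only [show ({1, 5, 6, 8} : Finset (Fin 12)).card = 4 from rfl]
      omega
  obtain ⟨θ0, hθ0⟩ := Finset.card_eq_one.mp (show D.fam.card = 1 by omega)
  have hθ : θ0 = D.θ := by
    have hm := D.θ_mem
    rw [hθ0, Finset.mem_singleton] at hm
    exact hm.symm
  let F : Cfsg.IrrCharacter G → ℂ := fun χ =>
    (if deg χ % 5 = 1 then (1 : ℂ) else -1) * (χ : G → ℂ) g
  have hsum : ∑ χ ∈ D.K ∪ D.fam, F χ = -1 := by
    rw [Finset.sum_union D.fam_disj, hθ0, Finset.sum_singleton, hθ]
    have hrel' := D.rel g hg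
    have hF : ∀ χ ∈ D.K, F χ = (D.a χ : ℂ) * (χ : G → ℂ) g := by
      intro χ hχ
      obtain ⟨i, rfl⟩ := hc.2 χ
      have h1 := (deg_cong h hc hd hP D).1 hχ
      simp only [F]
      rcases D.a_unit _ hχ with he | he <;> rw [he] at h1 ⊢ <;> push_cast at h1 ⊢
      · rw [if_pos (by omega)]
      · rw [if_neg (by omega)]
    have hθF : F D.θ = -(D.δ : ℂ) * (D.θ : G → ℂ) g := by
      have h1 := D.θ_cong hP
      simp only [F]
      rcases D.δ_unit with he | he <;> rw [he] at h1 ⊢ <;> push_cast at h1 ⊢
      · rw [if_neg (by omega)]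
      · rw [if_pos (by omega)]; ring
    rw [Finset.sum_congr rfl hF, hθF]
    linear_combination hrel'
  rw [hS, Finset.sum_image fun a _ b _ hab => hc.1 hab] at hsum
  simp only [Finset.sum_insert, Finset.mem_insert, Finset.mem_singleton, Finset.sum_singleton,
    Fin.reduceEq, or_self, not_false_eq_true, F] at hsum
  rw [show deg (c 1) = 21 from hd 1, show deg (c 5) = 99 from hd 5, show deg (c 6) = 154 from hd 6,
    show deg (c 8) = 231 from hd 8] at hsum
  norm_num at hsum
  linear_combination hsum

end Cfsg.Agent.Lib.RecogM22.Table
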