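import Cfsg.Agent.Lib.RecogM22.CertTableInv
import Cfsg.Agent.Lib.RecogM22.Five
import Cfsg.Agent.Lib.RecogM22.Seven

/-!
Simple groups of order `443520`: the degrees of the irreducible characters and their values at
the involutions.
-/

set_option autoImplicit false
set_option linter.style.haveILetI false
set_option linter.unusedSectionVars false

namespace Cfsg.Agent.Lib.RecogM22.TableInv

open Cfsg.Agent.Lib.Characters Cfsg.Agent.Lib.Characters.Basic
open Cfsg.Agent.Lib.Classif Cfsg.Agent.Lib.SmallGroups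
open Cfsg.Agent.Lib.Classif.PrimeExceptional (deg apply_one_eq)
open Cfsg.Agent.Lib.RecogM22.Search Cfsg.Agent.Lib.RecogM22.Basic Cfsg.Agent.Lib.RecogM22.Fam
open Cfsg.Agent.Lib.RecogM22.Filter Cfsg.Agent.Lib.RecogM22.CertTableInv
open Cfsg.Agent.Lib.RecogM22.Five (Self nonempty_self inFam deg11 zero ks7 ks11 cands_seven
  cands_eleven)
open Cfsg.Agent.Lib.RecogThree.M12 (Full.Extra Full.exists_full)

universe u

variable {G : Type u} [Group G] [Finite G]

/-- The family at a self-centralising Sylow subgroup, with what is used of it. -/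
structure Block (G : Type u) [Group G] [Finite G] (q e : ℕ) [Fact q.Prime] where
  S : Self G q e
  D : FirstPowerData.Data S.Q e
  E : Full.Extra S.Q D

/-- Its characters. -/
noncomputable def Block.chars {q e : ℕ} [Fact q.Prime] (B : Block G q e) :
    Finset (Cfsg.IrrCharacter G) :=
  open scoped Classical in B.D.K ∪ B.D.fam

theorem Block.one_not_mem {q e : ℕ} [Fact q.Prime] (B : Block G q e) :
    oneChar G ∉ B.chars := by
  simp only [Block.chars, Finset.mem_union, not_or]
  exact ⟨B.D.one_not_mem, B.D.fam_one⟩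

variable [IsSimpleGroup G]

/-- A degree prime to the prime is in the block. -/
theorem Block.mem_chars {q e : ℕ} [Fact q.Prime] (B : Block G q e) {χ : Cfsg.IrrCharacter G}
    (h1 : χ ≠ oneChar G) (hq : ¬ (q : ℤ) ∣ deg χ) : χ ∈ B.chars := by
  by_contra hn
  simp only [Block.chars, Finset.mem_union, not_or] at hn
  exact hq (PrimeDegrees.dvd_deg_of_other B.S.card B.S.cent B.D χ h1 hn.1 hn.2)

theorem inFam_of {q e : ℕ} [Fact q.Prime] (B : Block G q e) {t : G} {L : List (ℤ × ℤ)}
    (hL : L.Perm (pairsOf t B.chars)) {χ : Cfsg.IrrCharacter G} (h1 : χ ≠ oneChar G) :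
    inFam q L (dv t χ) = true := by
  simp only [inFam, Bool.or_eq_true, decide_eq_true_eq, List.elem_eq_mem]
  by_cases hmem : χ ∈ B.chars
  · exact Or.inr (hL.mem_iff.mpr (List.mem_map.mpr ⟨χ, Finset.mem_toList.mpr hmem, rfl⟩))
  · refine Or.inl (Int.emod_eq_zero_of_dvd ?_)
    by_contra hq
    exact hmem (B.mem_chars h1 hq)

variable (h : Nat.card G = 443520)

include h

theorem exists_blocks [Fact (Nat.Prime 5)] [Fact (Nat.Prime 7)] [Fact (Nat.Prime 11)] :
    Nonempty (Block G 5 4 × Block G 7 3 × Block G 11 5) := by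
  have h7 : ∀ P : Sylow 7 G, Nat.card (P : Subgroup G) = 7 ∧
      Nat.card (Subgroup.centralizer ((P : Subgroup G) : Set G)) = 7 ∧
        Nat.card (Subgroup.normalizer ((P : Subgroup G) : Set G)) = 21 := fun P =>
    ⟨(Seven.data h P).1, (Seven.data h P).2.2⟩
  obtain ⟨S5⟩ := nonempty_self (e := 4) (default : Sylow 5 G) (Five.data h h7 _).1
    (Five.data h h7 _).2.1 (Five.data h h7 _).2.2
  obtain ⟨S7⟩ := nonempty_self (e := 3) (default : Sylow 7 G) (h7 _).1 (h7 _).2.1 (h7 _).2.2
  obtain ⟨S11⟩ := nonempty_self (e := 5) (default : Sylow 11 G) (Eleven.data h _).1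
    (Eleven.data h _).2.2.1 (Eleven.data h _).2.2.2
  obtain ⟨D5, ⟨E5⟩⟩ := Full.exists_full S5.Q S5.card S5.rel
  obtain ⟨D7, ⟨E7⟩⟩ := Full.exists_full S7.Q S7.card S7.rel
  obtain ⟨D11, ⟨E11⟩⟩ := Full.exists_full S11.Q S11.card S11.rel
  exact ⟨⟨⟨S5, D5, E5⟩, ⟨S7, D7, E7⟩, ⟨S11, D11, E11⟩⟩⟩

variable [Fact (Nat.Prime 5)] [Fact (Nat.Prime 7)] [Fact (Nat.Prime 11)]
  (B5 : Block G 5 4) (B7 : Block G 7 3) (B11 : Block G 11 5)

theorem cent_mem4 {t : G} (ht : orderOf t = 2) :
    Nat.card (Subgroup.centralizer ({t} : Set G)) ∈ cents4 := by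
  have h7 : ∀ P : Sylow 7 G, Nat.card (P : Subgroup G) = 7 ∧
      Nat.card (Subgroup.centralizer ((P : Subgroup G) : Set G)) = 7 ∧
        Nat.card (Subgroup.normalizer ((P : Subgroup G) : Set G)) = 21 := fun P =>
    ⟨(Seven.data h P).1, (Seven.data h P).2.2⟩
  have n5 := Five.not_dvd_centralizer
    (fun Q : Sylow 5 G => ⟨(Five.data h h7 Q).1, (Five.data h h7 Q).2.1⟩)
    (H := Subgroup.centralizer ({t} : Set G)) (x := t)
    (fun e => by rw [e, orderOf_one] at ht; omega) (by rw [ht]; norm_num)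
    fun y hy => Subgroup.mem_centralizer_singleton_iff.mp hy
  have hd : Nat.card (Subgroup.centralizer ({t} : Set G)) ∣ 5 * 1152 := Five.cent_dvd h h7 ht
  have hd' := (((Nat.Prime.coprime_iff_not_dvd (by norm_num)).mpr n5).symm).dvd_of_dvd_mul_left hd
  obtain ⟨m, hm⟩ := four_dvd_centralizer (h ▸ by norm_num : 4 ∣ Nat.card G) ht
  rw [hm] at hd' ⊢
  exact List.mem_map.mpr ⟨m, Options.mem_divs (by norm_num)
    (Nat.dvd_of_mul_dvd_mul_left (by norm_num : 0 < 4) hd'), rfl⟩

include B5 B7 B11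

open scoped Classical in
/-- The three families at an involution. -/
theorem families {t : G} (ht : orderOf t = 2) :
    Nat.card (Subgroup.centralizer ({t} : Set G)) = 384 ∧ tA.Perm (pairsOf t B11.chars) ∧
      tB.Perm (pairsOf t B7.chars) ∧ tC.Perm (pairsOf t B5.chars) := by
  have hG := Eleven.not_comm h
  have hperf := Sylow.commutator_eq_top hG
  set c := Nat.card (Subgroup.centralizer ({t} : Set G)) with hc
  have hcp : 0 < c := Nat.card_pos
  have hf5 := B5.D.fam_card
  have hf7 := B7.D.fam_card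
  have hf11 := B11.D.fam_card
  have hlo : ∀ {q e : ℕ} [Fact q.Prime] {Q : Sylow q G} (D : FirstPowerData.Data Q e),
      (∀ χ ∈ D.K, 2 ≤ (deg χ).natAbs) ∧ 2 ≤ (deg D.θ).natAbs := fun D =>
    ⟨fun ψ hψ => by have := (D.two_le hperf).1 ψ hψ; omega, by have := (D.two_le hperf).2; omega⟩
  obtain ⟨s5, hT5, hfams5⟩ := exists_fam hG B5.S.card h B5.D B5.E (t := 1) (by omega) (hlo B5.D)
    ht (by norm_num) (Or.inl rfl) hc.symm
  obtain ⟨s7, hT7, hfams7⟩ := exists_fam hG B7.S.card h B7.D B7.E (t := 2) (by omega) (hlo B7.D)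
    ht (by norm_num) (Or.inl rfl) hc.symm
  obtain ⟨s11, hT11, hfams11⟩ := exists_fam hG B11.S.card h B11.D B11.E (t := 2) (by omega)
    (hlo B11.D) ht (by norm_num) (Or.inl rfl) hc.symm
  rw [Pairs.T_eq_zero B7.S.card B7.D B7.E (by norm_num) B7.S.rel (by decide) ht ht, zero_mul] at hT7
  rw [Pairs.T_eq_zero B11.S.card B11.D B11.E (by norm_num) B11.S.rel (by decide) ht ht,
    zero_mul] at hT11
  have h07 : zero s7 = true := decide_eq_true (by exact_mod_cast hT7.symm)
  have h011 : zero s11 = true := decide_eq_true (by exact_mod_cast hT11.symm)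
  have h05 : sq5 c s5 = true := by
    haveI := Fintype.ofFinite G
    obtain ⟨j, hj, hsq⟩ := Pairs.exists_square B5.S.card B5.D B5.E (by norm_num) B5.S.rel ht
    have hC5 : Nat.card (Subgroup.centralizer ((B5.S.Q : Subgroup G) : Set G)) = 5 := by
      rw [B5.S.cent]; exact B5.S.card
    rw [h, hC5, ← hc, hT5] at hsq
    have hle := Pairs.card_invCls_le (P := B5.S.Q) t
    rw [hj, hC5] at hle
    have h' : tVal 443520 s5 * (5 : ℤ) = ((5 ^ 2 * c ^ 2 * j ^ 2 : ℕ) : ℤ) := by
      exact_mod_cast hsq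
    have hj1 : j = 0 ∨ j = 1 := by omega
    simp only [sq5, Bool.or_eq_true, decide_eq_true_eq]
    rcases hj1 with rfl | rfl <;> push_cast at h'
    · exact Or.inl (by omega)
    · exact Or.inr (by linarith)
  obtain ⟨⟨B, hBm, hBp⟩, -⟩ := hfams7 _ h07
  obtain ⟨⟨A, hAm, hAp⟩, -⟩ := hfams11 _ h011
  obtain ⟨⟨C, hCm, hCp⟩, -⟩ := hfams5 _ h05
  change B.Perm (pairsOf t B7.chars) at hBp
  change A.Perm (pairsOf t B11.chars) at hAp
  change C.Perm (pairsOf t B5.chars) at hCp
  have hval : ∀ χ, χ ≠ oneChar G → ∃ v : ℤ, (χ : G → ℂ) t = v := fun χ _ => exists_val hG ht χ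
  have ofMem : ∀ {L : List (ℤ × ℤ)} {S : Finset (Cfsg.IrrCharacter G)}, oneChar G ∉ S →
      L.Perm (pairsOf t S) → ∀ x ∈ L, ∃ χ, χ ≠ oneChar G ∧ χ ∈ S ∧ dv t χ = x := by
    intro L S h1 hL x hx
    obtain ⟨χ, hχ, rfl⟩ := List.mem_map.mp (hL.mem_iff.mp hx)
    rw [Finset.mem_toList] at hχ
    exact ⟨χ, fun e => h1 (e ▸ hχ), hχ, rfl⟩
  have hdeg : ∀ x ∈ B, deg11 x = true := by
    intro x hx
    obtain ⟨χ, hne, -, rfl⟩ := ofMem B7.one_not_mem hBp x hx
    simp only [deg11, dv, List.elem_eq_mem, List.mem_cons, List.not_mem_nil, or_false,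
      decide_eq_true_eq]
    by_cases hmem : χ ∈ B11.chars
    · simp only [Block.chars, Finset.mem_union] at hmem
      rcases hmem with hK | hf
      · have := (FirstPowerKills.signed_facts hperf B11.S.card B11.D hK).1
        rcases B11.D.a_unit χ hK with ha | ha <;> rw [ha] at this <;> omega
      · have h' := B11.D.θ_cong B11.S.card
        rw [← B11.D.fam_deg χ hf] at h'
        rcases B11.D.δ_unit with hd | hd <;> rw [hd] at h' <;> omega
    · have : (11 : ℤ) ∣ deg χ := by
        by_contra hq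
        exact hmem (B11.mem_chars hne hq)
      omega
  -- fitting into the table
  have hfits : ∀ {M : List (ℤ × ℤ)} {S : Finset (Cfsg.IrrCharacter G)}, oneChar G ∉ S →
      M.Subperm (pairsOf t S) → ∀ χ, χ ≠ oneChar G → fits c M (dv t χ) = true := by
    intro M S h1 hM χ hχ
    simp only [fits, Bool.or_eq_true, List.elem_eq_mem, decide_eq_true_eq, Bool.and_eq_true]
    by_cases hx : dv t χ ∈ M
    · exact Or.inl hx
    right
    have hsub : (dv t χ :: M).Subperm (pairsOf t (insert χ S)) := by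
      refine List.subperm_ext_iff.mpr fun x hx' => ?_
      have hMS := (hM.trans (pairsOf_subperm (Finset.subset_insert χ S))).count_le x
      rcases List.mem_cons.mp hx' with rfl | hx'
      · rw [List.count_cons_self, List.count_eq_zero.mpr hx, Nat.zero_add]
        exact List.count_pos_iff.mpr
          (List.mem_map.mpr ⟨χ, Finset.mem_toList.mpr (Finset.mem_insert_self χ S), rfl⟩)
      · rw [List.count_cons_of_ne (fun e => hx (by rw [e]; exact hx'))]
        exact hMS
    have h1' : oneChar G ∉ insert χ S := by simp [h1, Ne.symm hχ]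
    obtain ⟨hd, hv⟩ := sq_le h1' (fun ψ hψ => hval ψ fun e => h1' (e ▸ hψ)) hsub
    rw [h] at hd
    rw [← hc] at hv
    simp only [degSq, valSq, List.map_cons, List.sum_cons, Nat.cast_ofNat] at hd hv ⊢
    constructor <;> linarith
  -- the searches
  obtain ⟨B', hB', hkB⟩ := exists_kill (List.all_eq_true.mp known_all _ (cent_mem4 h ht))
    cands_seven hcp (by norm_num) hBm hdeg
  have hB'p := hB'.trans hBp
  have hforced : (B'.filter fun x => decide (x.1 % 11 ≠ 0)).Subperm A := by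
    refine (hB'p.subperm.filter _).trans ?_
    refine List.Subperm.trans ?_ hAp.symm.subperm
    rw [pairsOf, List.filter_map]
    refine map_subperm _ (List.Nodup.subperm ((Finset.nodup_toList _).filter _) fun χ hχ => ?_)
    simp only [List.mem_filter, Finset.mem_toList, Function.comp_apply, dv] at hχ ⊢
    refine B11.mem_chars (fun e => B7.one_not_mem (e ▸ hχ.1)) fun hd =>
      of_decide_eq_true hχ.2 (Int.emod_eq_zero_of_dvd hd)
  obtain ⟨A', hA', hkA⟩ := exists_kill_with hkB cands_eleven hcp (by norm_num) (by norm_num)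
    (by norm_num) hAm (fun x hx => by
      obtain ⟨χ, hne, -, rfl⟩ := ofMem B11.one_not_mem hAp x hx
      rw [Bool.and_eq_true]
      exact ⟨inFam_of B7 hB'p hne, hfits B7.one_not_mem hB'p.subperm χ hne⟩) hforced
  have hA'p := hA'.trans hAp
  have clashF : ∀ {q e : ℕ} [Fact q.Prime] (X : Block G q e) {S : Finset (Cfsg.IrrCharacter G)}
      {L L' : List (ℤ × ℤ)}, oneChar G ∉ S → L.Perm (pairsOf t S) →
      L'.Perm (pairsOf t X.chars) → clash 443520 c q L L' = false := by
    intro q e _ X S L L' h1 hL hL'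
    exact clash_eq_false X.S.card X.S.cent X.D h1
      (fun χ hχ => by rw [Block.chars, Finset.mem_union]; exact hχ) X.one_not_mem hval hL.subperm
      hL' h hc.symm
  rw [clashF B7 B11.one_not_mem hA'p hB'p, Bool.false_or] at hkA
  have hU : oneChar G ∉ B11.chars ∪ B7.chars :=
    Finset.notMem_union.mpr ⟨B11.one_not_mem, B7.one_not_mem⟩
  obtain ⟨C', hC', hkC⟩ := exists_kill hkA cands_five_all hcp (by norm_num) hCm fun x hx => by
      obtain ⟨χ, hne, -, rfl⟩ := ofMem B5.one_not_mem hCp x hx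
      rw [Bool.and_eq_true, Bool.and_eq_true]
      exact ⟨⟨inFam_of B7 hB'p hne, inFam_of B11 hA'p hne⟩,
        hfits hU (merge_subperm (hA'p.subperm.trans (pairsOf_subperm Finset.subset_union_left))
          (hB'p.subperm.trans (pairsOf_subperm Finset.subset_union_right))) χ hne⟩
  have hC'p := hC'.trans hCp
  rw [clashF B5 B7.one_not_mem hB'p hC'p, clashF B5 B11.one_not_mem hA'p hC'p] at hkC
  simp only [Bool.or_self, Bool.false_or, Bool.and_eq_true, decide_eq_true_eq,
    List.isPerm_iff] at hkC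
  obtain ⟨⟨⟨h384, hA3⟩, hB3⟩, hC3⟩ := hkC
  exact ⟨h384, hA3.symm.trans hA'p, hB3.symm.trans hB'p, hC3.symm.trans hC'p⟩

open scoped Classical in
/-- The nontrivial characters by the divisibility of the degree. -/
theorem split {t : G} (ht : orderOf t = 2) [Fintype (Cfsg.IrrCharacter G)] :
    ∃ R : Finset (Cfsg.IrrCharacter G),
      (Finset.univ : Finset (Cfsg.IrrCharacter G)) = insert (oneChar G)
          (B11.chars ∪ (B7.chars.filter fun χ => (11 : ℤ) ∣ deg χ) ∪
            (B5.chars.filter fun χ => (77 : ℤ) ∣ deg χ) ∪ R) ∧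
      Disjoint B11.chars (B7.chars.filter fun χ => (11 : ℤ) ∣ deg χ) ∧
      Disjoint (B11.chars ∪ (B7.chars.filter fun χ => (11 : ℤ) ∣ deg χ))
        (B5.chars.filter fun χ => (77 : ℤ) ∣ deg χ) ∧
      Disjoint (B11.chars ∪ (B7.chars.filter fun χ => (11 : ℤ) ∣ deg χ) ∪
        (B5.chars.filter fun χ => (77 : ℤ) ∣ deg χ)) R ∧
      oneChar G ∉ B11.chars ∪ (B7.chars.filter fun χ => (11 : ℤ) ∣ deg χ) ∪
          (B5.chars.filter fun χ => (77 : ℤ) ∣ deg χ) ∪ R ∧
      ∀ χ ∈ R, (385 : ℤ) ∣ deg χ := by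
  obtain ⟨-, hA, hB, hC⟩ := families h B5 B7 B11 ht
  have look : ∀ {L : List (ℤ × ℤ)} {S : Finset (Cfsg.IrrCharacter G)}, L.Perm (pairsOf t S) →
      ∀ χ ∈ S, deg χ ∈ L.map Prod.fst := fun hL χ hχ =>
    List.mem_map.mpr ⟨dv t χ,
      hL.mem_iff.mpr (List.mem_map.mpr ⟨χ, Finset.mem_toList.mpr hχ, rfl⟩), rfl⟩
  have dA : ∀ χ ∈ B11.chars, ¬ (11 : ℤ) ∣ deg χ := fun χ hχ =>
    (show ∀ d ∈ tA.map Prod.fst, ¬ (11 : ℤ) ∣ d by decide) _ (look hA χ hχ)
  have dB : ∀ χ ∈ B7.chars, ¬ (7 : ℤ) ∣ deg χ := fun χ hχ =>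
    (show ∀ d ∈ tB.map Prod.fst, ¬ (7 : ℤ) ∣ d by decide) _ (look hB χ hχ)
  have dC : ∀ χ ∈ B5.chars, ¬ (5 : ℤ) ∣ deg χ := fun χ hχ =>
    (show ∀ d ∈ tC.map Prod.fst, ¬ (5 : ℤ) ∣ d by decide) _ (look hC χ hχ)
  refine ⟨Finset.univ.filter fun χ => χ ≠ oneChar G ∧ (385 : ℤ) ∣ deg χ, ?_, ?_, ?_, ?_, ?_,
    fun χ hχ => (Finset.mem_filter.mp hχ).2.2⟩
  · refine (Finset.eq_univ_of_forall fun χ => ?_).symm
    simp only [Finset.mem_insert, Finset.mem_union, Finset.mem_filter, Finset.mem_univ, true_and]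
    by_cases h1 : χ = oneChar G
    · exact Or.inl h1
    by_cases h11 : (11 : ℤ) ∣ deg χ
    · by_cases h7 : (7 : ℤ) ∣ deg χ
      · have h77 : (77 : ℤ) ∣ deg χ := by
          have := (show IsCoprime (11 : ℤ) 7 by norm_num).mul_dvd h11 h7
          norm_num at this
          exact this
        by_cases h5 : (5 : ℤ) ∣ deg χ
        · refine Or.inr (Or.inr ⟨h1, ?_⟩)
          have := (show IsCoprime (77 : ℤ) 5 by norm_num).mul_dvd h77 h5
          norm_num at this
          exact this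
        · exact Or.inr (Or.inl (Or.inr ⟨B5.mem_chars h1 h5, h77⟩))
      · exact Or.inr (Or.inl (Or.inl (Or.inr ⟨B7.mem_chars h1 h7, h11⟩)))
    · exact Or.inr (Or.inl (Or.inl (Or.inl (B11.mem_chars h1 h11))))
  · rw [Finset.disjoint_left]
    exact fun χ hA' hB' => dA χ hA' (Finset.mem_filter.mp hB').2
  · rw [Finset.disjoint_left]
    intro χ hχ hC'
    have h77 := (Finset.mem_filter.mp hC').2
    rcases Finset.mem_union.mp hχ with hA' | hB'
    · exact dA χ hA' ((show (11 : ℤ) ∣ 77 by norm_num).trans h77)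
    · exact dB χ (Finset.mem_filter.mp hB').1 ((show (7 : ℤ) ∣ 77 by norm_num).trans h77)
  · rw [Finset.disjoint_left]
    intro χ hχ hR
    have h385 := (Finset.mem_filter.mp hR).2.2
    rcases Finset.mem_union.mp hχ with hχ | hC'
    · rcases Finset.mem_union.mp hχ with hA' | hB'
      · exact dA χ hA' ((show (11 : ℤ) ∣ 385 by norm_num).trans h385)
      · exact dB χ (Finset.mem_filter.mp hB').1 ((show (7 : ℤ) ∣ 385 by norm_num).trans h385)
    · exact dC χ (Finset.mem_filter.mp hC').1 ((show (5 : ℤ) ∣ 385 by norm_num).trans h385)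
  · simp [B11.one_not_mem, B7.one_not_mem, B5.one_not_mem]

/-- The degrees and the values at an involution. -/
def full : List (ℤ × ℤ) := [(1, 1), (21, 5), (45, -3), (45, -3), (210, 2), (280, -8), (280, -8),
  (55, 7), (99, 3), (154, 10), (231, 7), (385, 1)]

open scoped Classical in
/-- The whole column of an involution. -/
theorem column [Fintype (Cfsg.IrrCharacter G)] {t : G} (ht : orderOf t = 2) :
    (Finset.univ.val.map (dv t) : Multiset (ℤ × ℤ)) = (full : Multiset (ℤ × ℤ)) := by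
  have hG := Eleven.not_comm h
  obtain ⟨hc, hA, hB, hC⟩ := families h B5 B7 B11 ht
  obtain ⟨R, huniv, d1, d2, d3, hone, hR⟩ := split h B5 B7 B11 ht
  have conv : ∀ {L : List (ℤ × ℤ)} {S : Finset (Cfsg.IrrCharacter G)}, L.Perm (pairsOf t S) →
      S.val.map (dv t) = (L : Multiset (ℤ × ℤ)) := fun {L S} hL => by
    rw [← Finset.coe_toList, Multiset.map_coe]
    exact (Multiset.coe_eq_coe.mpr hL).symm
  have hU : (B11.chars ∪ (B7.chars.filter fun χ => (11 : ℤ) ∣ deg χ) ∪
      (B5.chars.filter fun χ => (77 : ℤ) ∣ deg χ)).val.map (dv t) =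
      (([(21, 5), (45, -3), (45, -3), (210, 2), (280, -8), (280, -8), (55, 7), (99, 3), (154, 10),
        (231, 7)] : List (ℤ × ℤ)) : Multiset (ℤ × ℤ)) := by
    have e11 : (B7.chars.filter fun χ => (11 : ℤ) ∣ deg χ).val.map (dv t) =
        (B7.chars.val.map (dv t)).filter fun x : ℤ × ℤ => (11 : ℤ) ∣ x.1 :=
      (Multiset.filter_map (fun x : ℤ × ℤ => (11 : ℤ) ∣ x.1) (dv t) B7.chars.val).symm
    have e77 : (B5.chars.filter fun χ => (77 : ℤ) ∣ deg χ).val.map (dv t) =
        (B5.chars.val.map (dv t)).filter fun x : ℤ × ℤ => (77 : ℤ) ∣ x.1 :=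
      (Multiset.filter_map (fun x : ℤ × ℤ => (77 : ℤ) ∣ x.1) (dv t) B5.chars.val).symm
    rw [← Finset.disjUnion_eq_union _ _ d2, Finset.disjUnion_val, Multiset.map_add,
      ← Finset.disjUnion_eq_union _ _ d1, Finset.disjUnion_val, Multiset.map_add, conv hA, e11,
      e77, conv hB, conv hC, Multiset.filter_coe, Multiset.filter_coe, Multiset.coe_add,
      Multiset.coe_add]
    rfl
  set U := B11.chars ∪ (B7.chars.filter fun χ => (11 : ℤ) ∣ deg χ) ∪
      (B5.chars.filter fun χ => (77 : ℤ) ∣ deg χ)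
  have hall : (Finset.univ : Finset (Cfsg.IrrCharacter G)).val.map (dv t) =
      (1, 1) ::ₘ (U.val.map (dv t) + R.val.map (dv t)) := by
    rw [huniv, Finset.insert_val_of_notMem hone, Multiset.map_cons,
      ← Finset.disjUnion_eq_union _ _ d3, Finset.disjUnion_val, Multiset.map_add]
    congr 1
    exact Prod.ext PrimeExceptional.deg_oneChar (val_eq (by rw [oneChar_apply, Int.cast_one]))
  have hsq : ((Finset.univ : Finset (Cfsg.IrrCharacter G)).val.map (dv t) |>.map
      fun x => x.1 * x.1).sum = 443520 := by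
    haveI := Fintype.ofFinite G
    rw [Multiset.map_map]
    have hs := PrimeExceptional.sum_deg_sq (G := G)
    rw [h] at hs
    simp only [pow_two] at hs
    exact hs
  rw [hall, hU, Multiset.map_cons, Multiset.sum_cons, Multiset.map_add, Multiset.sum_add,
    Multiset.map_coe, Multiset.sum_coe, Multiset.map_map] at hsq
  have hRsum : ∑ χ ∈ R, deg χ * deg χ = 148225 := by
    have e : ((fun x : ℤ × ℤ => x.1 * x.1) ∘ dv t) = fun χ => deg χ * deg χ := rfl
    rw [e] at hsq
    norm_num at hsq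
    linarith [hsq]
  have hbig : ∀ χ ∈ R, 148225 ≤ deg χ * deg χ := by
    intro χ hχ
    have h1 : χ ≠ oneChar G := fun e => hone (Finset.mem_union_right _ (e ▸ hχ))
    haveI := Fintype.ofFinite G
    have h2 := PrimeExceptional.two_le_deg (Sylow.commutator_eq_top hG) χ h1
    have := Int.le_of_dvd (by omega) (hR χ hχ)
    nlinarith
  obtain ⟨ρ, rfl⟩ : ∃ ρ, R = {ρ} := by
    have hle := Finset.sum_le_sum (s := R) (f := fun _ => (148225 : ℤ)) hbig
    rw [hRsum, Finset.sum_const, nsmul_eq_mul] at hle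
    have hne : R.card ≠ 0 := fun e => by
      rw [Finset.card_eq_zero.mp e, Finset.sum_empty] at hRsum
      norm_num at hRsum
    refine Finset.card_eq_one.mp ?_
    have : (R.card : ℤ) ≤ 1 := by linarith
    omega
  rw [Finset.sum_singleton] at hRsum
  have hρ1 : ρ ≠ oneChar G :=
    fun e => hone (Finset.mem_union_right _ (e ▸ Finset.mem_singleton_self ρ))
  have hρdeg : deg ρ = 385 := by
    haveI := Fintype.ofFinite G
    have h2 := PrimeExceptional.two_le_deg (Sylow.commutator_eq_top hG) ρ hρ1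
    nlinarith
  obtain ⟨v, hv, h4, -, -⟩ := RecogThree.M12.Basic.involution hG ρ hρ1 ht
  have hvv : v * v = 1 := by
    have hs := Complete.sum_irr_mul_conj t t
    rw [if_pos (IsConj.refl t), hc] at hs
    have hval : ∀ χ : Cfsg.IrrCharacter G,
        (χ : G → ℂ) t * (starRingEnd ℂ) ((χ : G → ℂ) t) = ((val t χ * val t χ : ℤ) : ℂ) := fun χ => by
      obtain ⟨w, hw⟩ := exists_val hG ht χ
      rw [val_eq hw, hw, map_intCast, Int.cast_mul]
    rw [Finset.sum_congr rfl (fun χ _ => hval χ), ← Int.cast_sum] at hs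
    have hs' : ∑ χ : Cfsg.IrrCharacter G, val t χ * val t χ = 384 := by exact_mod_cast hs
    have hs2 : ((Finset.univ : Finset (Cfsg.IrrCharacter G)).val.map (dv t) |>.map
        fun x => x.2 * x.2).sum = 384 := by
      rw [Multiset.map_map]; exact hs'
    rw [hall, hU, Finset.singleton_val, Multiset.map_singleton, Multiset.map_cons,
      Multiset.sum_cons, Multiset.map_add, Multiset.sum_add, Multiset.map_coe, Multiset.sum_coe,
      Multiset.map_singleton, Multiset.sum_singleton, dv, val_eq hv] at hs2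
    norm_num at hs2
    linarith [hs2]
  have hv1 : v = 1 := by
    rw [hρdeg] at h4
    rcases mul_self_eq_one_iff.mp hvv with rfl | rfl
    · rfl
    · omega
  rw [hall, hU, Finset.singleton_val, Multiset.map_singleton, dv, hρdeg, val_eq hv, hv1]
  decide +kernel

end Cfsg.Agent.Lib.RecogM22.TableInv

namespace Cfsg.Agent.Lib.RecogM22.Table

open Cfsg.Agent.Lib.Characters Cfsg.Agent.Lib.Characters.Basic
open Cfsg.Agent.Lib.Classif.PrimeExceptional (deg)
open Cfsg.Agent.Lib.RecogM22.Fam (dv val val_eq exists_val)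

universe u

open scoped Classical in
/-- The data of a simple group of order `443520`. -/
theorem tableData {G : Type u} [Group G] [Finite G] [IsSimpleGroup G]
    (h : Nat.card G = 443520) : TableData G := by
  haveI : Fact (Nat.Prime 5) := ⟨by norm_num⟩
  haveI : Fact (Nat.Prime 7) := ⟨by norm_num⟩
  haveI : Fact (Nat.Prime 11) := ⟨by norm_num⟩
  haveI : Fact (Nat.Prime 2) := ⟨Nat.prime_two⟩
  obtain ⟨B5, B7, B11⟩ := TableInv.exists_blocks h
  refine ⟨h, fun P => (Five.data h (fun Q => ⟨(Seven.data h Q).1, (Seven.data h Q).2.2⟩) P).2,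
    ?_, ?_⟩
  · intro _
    obtain ⟨t, ht⟩ := exists_prime_orderOf_dvd_card' (G := G) 2 (by rw [h]; norm_num)
    have := congrArg (Multiset.map Prod.fst) (TableInv.column h B5 B7 B11 ht)
    rw [Multiset.map_map] at this
    exact this.trans (by decide +kernel)
  · intro t ht χ
    haveI := Fintype.ofFinite (Cfsg.IrrCharacter G)
    have hmem : dv t χ ∈ ((TableInv.full : List (ℤ × ℤ)) : Multiset (ℤ × ℤ)) := by
      rw [← TableInv.column h B5 B7 B11 ht]
      exact Multiset.mem_map_of_mem _ (Finset.mem_univ χ)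
    have hcol : ∀ x ∈ TableInv.full, x.2 = colT x.1 := by decide +kernel
    obtain ⟨v, hv⟩ := exists_val (Eleven.not_comm h) ht χ
    have h2 : val t χ = colT (deg χ) := hcol _ (Multiset.mem_coe.mp hmem)
    rw [hv, ← h2, val_eq hv]

end Cfsg.Agent.Lib.RecogM22.Table
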