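import Cfsg.Agent.Lib.RecogM22.Assemble
import Cfsg.Agent.Lib.RecogM22.LocalCentral
import Cfsg.Agent.Lib.RecogM22.TableInv
import Cfsg.Agent.Lib.Golay.Simple

/-!
A simple group of order `443520` is the Mathieu group of degree `22`.

Owner: helper16.
-/

set_option autoImplicit false
set_option linter.style.haveILetI false

namespace Cfsg.Agent.Lib.RecogM22.Unique

/-- Two simple groups of order `443520` are isomorphic. -/
theorem nonempty_mulEquiv {G : Type*} [Group G] [Finite G] [IsSimpleGroup G]
    {H : Type*} [Group H] [Finite H] [IsSimpleGroup H]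
    (hG : Nat.card G = 443520) (hH : Nat.card H = 443520) : Nonempty (G ≃* H) := by
  have h := Table.tableData hG
  have h' := Table.tableData hH
  obtain ⟨E, B⟩ := Local.exists_big (Table.localData h)
  obtain ⟨E', B'⟩ := Local.exists_big (Table.localData h')
  obtain ⟨D⟩ := Table.exists_max77 h B
  obtain ⟨D'⟩ := Table.exists_max77 h' B'
  exact D.nonempty_mulEquiv D'

/-- A simple group of order `443520` is `M₂₂`. -/
theorem isoM22 {G : Type*} [Group G] [Finite G] (hG : Cfsg.IsM22 G) : Cfsg.Spor.IsoM22 G := by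
  obtain ⟨hs, hc⟩ := hG
  haveI := hs
  haveI : Finite Cfsg.Spor.M22 := Nat.finite_of_card_ne_zero (by rw [Golay.card_spor_M22]; norm_num)
  haveI : IsSimpleGroup Cfsg.Spor.M22 := Golay.isSimple_spor_M22
  exact nonempty_mulEquiv hc Golay.card_spor_M22

end Cfsg.Agent.Lib.RecogM22.Unique
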